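import Mathlib
import Cfsg.Agent.GHJ.Defs
import Cfsg.Agent.GHJ.Basic
import Cfsg.Agent.Loc.MssSyl
import Cfsg.Agent.GT.CoprimeAbelian
import Cfsg.Agent.GW.Basic

/-! Coprime action of an element on a 2-group. See `stubs/Cfsg/Agent/GHJ/PLAN.md`. -/

set_option autoImplicit false
set_option linter.unusedSectionVars false

namespace Cfsg.Agent.GHJ

open Cfsg.Agent.Inv.Fz Cfsg.Agent.NE Subgroup
open Cfsg.Agent.Loc.Mss (cmod mem_cmod le_cmod norm_cmod comm_le_left comm_le_right mem_cent cent_le_norm norm_cent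
  cent_anti conj_mem_of_norm conj_mem_of_norm' mem_of_pow_mem mem_sup_norm pg_iff)
open Cfsg.Agent.GT
open scoped commutatorElement

variable {G Q : Type*} [Group G] [Finite G] [Group Q] [Finite Q] {S P R K L N T V A : Subgroup G} {x s g b : G} {n : ℕ}

namespace TriA

theorem cz_iff : Cz g R ↔ g ∈ centralizer (R : Set G) :=
  ⟨fun h => mem_cent.2 fun r hr => (h r hr).symm, fun h r hr => (mem_cent.1 h r hr).symm⟩

theorem cinv {a c : G} : ⁅a, c⁆ ∈ K ↔ ⁅c, a⁆ ∈ K := by rw [← inv_mem_iff, commutatorElement_inv]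

theorem norm_of (hKR : K ≤ R) (h : ∀ r ∈ R, ⁅x, r⁆ ∈ K) : x ∈ normalizer (K : Set G) :=
  mem_normalizer_of_conj_mem fun k hk => by
    have := mul_mem (h k (hKR hk)) hk
    rwa [commutatorElement_def, inv_mul_cancel_right] at this

theorem supp_le' (hx : x ∈ normalizer (K : Set G)) (h : ∀ r ∈ R, ⁅x, r⁆ ∈ K) : supp R x ≤ K :=
  (le_cmod.1 (zpowers_le.2 (mem_cmod.2 ⟨hx, fun r hr => cinv.1 (h r hr)⟩))).2

/-- The stabiliser of the coset `L k`. -/
def stab (L : Subgroup G) (k : G) : Subgroup G where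
  carrier := {g | g ∈ normalizer (L : Set G) ∧ ⁅g, k⁆ ∈ L}
  one_mem' := ⟨one_mem _, by simp⟩
  mul_mem' := fun {a c} ha hc => ⟨mul_mem ha.1 hc.1, by
    rw [show ⁅a * c, k⁆ = a * ⁅c, k⁆ * a⁻¹ * ⁅a, k⁆ by simp only [commutatorElement_def]; group]
    exact mul_mem (conj_mem_of_norm ha.1 hc.2) ha.2⟩
  inv_mem' := fun {a} ha => ⟨inv_mem ha.1, by
    rw [show ⁅a⁻¹, k⁆ = a⁻¹ * ⁅a, k⁆⁻¹ * a by simp only [commutatorElement_def]; group]
    exact conj_mem_of_norm' ha.1 (inv_mem ha.2)⟩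

theorem cent_le_stab (hL : L ≤ R) {k : G} (hk : k ∈ R) : centralizer (R : Set G) ≤ stab L k := fun g hg =>
  ⟨cent_le_norm _ (cent_anti hL hg), by
    rw [commutatorElement_eq_one_iff_mul_comm.2 (mem_cent.1 hg k hk).symm]; exact one_mem _⟩

theorem mem_of_sq {M : Subgroup G} {m : ℕ} (hm : Odd m) (h1 : x ^ m ∈ M) (h2 : x * x ∈ M) : x ∈ M := by
  obtain ⟨k, rfl⟩ := hm
  rwa [pow_succ, pow_mul, pow_two, mul_mem_cancel_left (pow_mem h2 k)] at h1

/-- an element without fixed points whose `p`-th power acts trivially -/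
theorem card_mod {p : ℕ} (hp : p.Prime) (hx : x ∈ normalizer (K : Set G)) (h : Cz (x ^ p) K)
    (hf : ∀ k ∈ K, x * k = k * x → k = 1) : Nat.card K ≡ 1 [MOD p] := by
  classical
  haveI : Fact p.Prime := ⟨hp⟩
  haveI := Fintype.ofFinite K
  let f : Function.End K := fun k => ⟨x * k * x⁻¹, conj_mem_of_norm hx k.2⟩
  have e : ∀ (i : ℕ) (k : K), (((f ^ i) k : K) : G) = x ^ i * k * (x ^ i)⁻¹ := by
    intro i
    induction i with
    | zero => intro k; simp; rfl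
    | succ i ih =>
      intro k
      rw [pow_succ', pow_succ']
      change x * (((f ^ i) k : K) : G) * x⁻¹ = _
      rw [ih]; group
  have := Equiv.Perm.card_fixedPoints_modEq (f := f) (p := p) (n := 1) (funext fun k => Subtype.ext (by
    rw [pow_one, e, h k k.2, mul_inv_cancel_right]; rfl))
  rw [Nat.card_eq_fintype_card]
  convert this using 1
  refine (Fintype.card_eq_one_iff.2 ⟨⟨1, Subtype.ext (by simp [f])⟩, fun y => Subtype.ext (Subtype.ext ?_)⟩).symm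
  exact hf _ y.1.2 (mul_inv_eq_iff_eq_mul.1 (congrArg Subtype.val y.2))

theorem free_aux {M : Type*} [CommGroup M] [Finite M] (ξ σ : MulAut M) (h1 : ∀ k, σ (ξ k) = ξ⁻¹ (σ k))
    (h2 : ∀ k, ξ (ξ k) = k → k = 1) {k : M} (hk : σ k = k) (kk : k * k = 1) : ∃ u, σ u * u⁻¹ = k := by
  let φ : M →* M := ξ.toMonoidHom / (ξ⁻¹).toMonoidHom
  have eφ : ∀ v, φ v = ξ v / ξ⁻¹ v := fun v => rfl
  have inj : Function.Injective φ := (injective_iff_map_eq_one φ).2 fun v hv => h2 v (by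
    rw [eφ, div_eq_one] at hv
    rw [hv]; simp)
  have h3 : ∀ v, σ (ξ⁻¹ v) = ξ (σ v) := fun v => by
    have := h1 (ξ⁻¹ v)
    rw [MulAut.apply_inv_self] at this
    rw [this, MulAut.apply_inv_self]
  obtain ⟨u, hu⟩ := Finite.surjective_of_injective inj (ξ k)
  refine ⟨u, inj ?_⟩
  have a : φ (σ u) = (ξ⁻¹ k)⁻¹ := by
    have := congrArg σ hu
    rw [eφ, map_div, h1, h3, h1, hk] at this
    rw [eφ, ← this, inv_div]
  have c : (ξ k)⁻¹ = ξ k := inv_eq_of_mul_eq_one_right (by rw [← map_mul, kk, map_one])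
  rw [map_mul, map_inv, a, hu, c, eφ, div_eq_mul_inv, mul_comm]

end TriA

open TriA

theorem Tri.od (h : Tri R x s) : Od R x :=
  ⟨h.two, h.xn, h.ord.elim (fun e => ⟨3, by decide, e⟩) fun e => ⟨5, by decide, e⟩⟩
theorem Od.mono (h : Od R x) (hK : K ≤ R) (hx : x ∈ normalizer (K : Set G)) : Od K x :=
  ⟨h.two.to_le hK, hx, h.odd.imp fun _ e => ⟨e.1, fun r hr => e.2 r (hK hr)⟩⟩
theorem od_of_odd (hR : IsPGroup 2 R) (hx : x ∈ normalizer (R : Set G)) (ho : Odd (orderOf x)) : Od R x :=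
  ⟨hR, hx, _, ho, fun r _ => by simp⟩

theorem supp_le (hx : x ∈ normalizer (R : Set G)) : supp R x ≤ R := comm_le_left (zpowers_le.2 hx)
theorem comm_mem_supp {r : G} (hr : r ∈ R) : ⁅x, r⁆ ∈ supp R x ∧ ⁅r, x⁆ ∈ supp R x ∧ r⁻¹ * (x * r * x⁻¹) ∈ supp R x := by
  have a : ∀ r ∈ R, ⁅r, x⁆ ∈ supp R x := fun r hr => commutator_mem_commutator hr (mem_zpowers x)
  exact ⟨cinv.1 (a r hr), a r hr, by simpa [commutatorElement_def, mul_assoc] using a _ (inv_mem hr)⟩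
theorem supp_mono (h : K ≤ R) : supp K x ≤ supp R x := commutator_mono h le_rfl
theorem le_norm_supp : R ≤ normalizer (supp R x : Set G) := normalizer_commutator_ge_left _ _
theorem mem_norm_supp : x ∈ normalizer (supp R x : Set G) := normalizer_commutator_ge_right _ _ (mem_zpowers x)
theorem supp_eq_bot : supp R x = ⊥ ↔ Cz x R := by
  rw [supp, CopAct.commutator_eq_bot_iff, zpowers_le, cz_iff]
theorem mem_fix {d : G} : d ∈ fix R x ↔ d ∈ R ∧ x * d = d * x := by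
  rw [fix, mem_inf, mem_centralizer_singleton_iff, eq_comm]
/-- `x` acts trivially on `R / K`. -/
theorem supp_le_of (hx : x ∈ normalizer (R : Set G)) (hK : R ≤ normalizer (K : Set G)) (hKR : K ≤ R)
    (h : ∀ r ∈ R, ⁅x, r⁆ ∈ K) : supp R x ≤ K := supp_le' (norm_of hKR h) h
/-- `K` is invariant and of index at most two. -/
theorem supp_le_idx (hx : x ∈ normalizer (R : Set G)) (hKR : K ≤ R) (hK : x ∈ normalizer (K : Set G))
    (h : ∀ u ∈ R, ∀ v ∈ R, u ∉ K → v ∉ K → u * v ∈ K) : supp R x ≤ K :=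
  supp_le' hK fun r hr => by
    by_cases e : r ∈ K
    · exact mul_mem (conj_mem_of_norm hK e) (inv_mem e)
    · exact h _ (conj_mem_of_norm hx hr) _ (inv_mem hr)
        (fun a => e (by simpa [mul_assoc] using conj_mem_of_norm' hK a)) (by simpa using e)
/-- If `x` centralises the section `K / L` of normal subgroups of `R`, so does `[R, x]`. -/
theorem supp_triv (hx : x ∈ normalizer (R : Set G)) (hK : R ≤ normalizer (K : Set G)) (hL : R ≤ normalizer (L : Set G))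
    (hLK : L ≤ K) (h : ∀ k ∈ K, ⁅x, k⁆ ∈ L) : ∀ t ∈ supp R x, ∀ k ∈ K, ⁅t, k⁆ ∈ L := fun t ht k hk => by
  have a : zpowers x ≤ cmod K L := zpowers_le.2 (mem_cmod.2 ⟨norm_of hLK h, fun r hr => cinv.1 (h r hr)⟩)
  exact cinv.1 ((mem_cmod.1 (((commutator_mono le_rfl a).trans (comm_le_right (norm_cmod hK hL))) ht)).2 k hk)
/-- A subgroup of `R` containing the support is invariant. -/
theorem inv_of_supp_le {X : Subgroup G} (h : supp R x ≤ X) {y : G} (hy : y ∈ R) (hX : y ∈ X) : x * y * x⁻¹ ∈ X := by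
  have := mul_mem (h (comm_mem_supp hy).1) hX
  rwa [commutatorElement_def, inv_mul_cancel_right] at this

namespace TriA

/-- an element that acts on `R` as a power of `x` -/
theorem supp_le_supp (hK : K ≤ R) (hx : x ∈ normalizer (K : Set G)) {c y : G} (hc : c ∈ centralizer (R : Set G))
    (hy : y ∈ zpowers x) : supp K (c * y) ≤ supp K x := by
  have a : c * y ∈ cmod K (supp K x) :=
    mul_mem (mem_cmod.2 ⟨cent_le_norm _ (cent_anti ((supp_le hx).trans hK) hc), fun k hk => by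
      rw [commutatorElement_eq_one_iff_mul_comm.2 (mem_cent.1 hc k (hK hk))]; exact one_mem _⟩)
      (le_cmod.2 ⟨zpowers_le.2 mem_norm_supp, le_rfl⟩ hy)
  exact (le_cmod.1 (zpowers_le.2 a)).2

/-- `u` has odd order and acts on `R` as `x` -/
structure Ou (R : Subgroup G) (x u : G) : Prop where
  zp : u ∈ zpowers x
  cop : ∀ K ≤ R, (Nat.card (zpowers u)).Coprime (Nat.card K)
  odd : Odd (orderOf u)
  c : x * u⁻¹ ∈ centralizer (R : Set G)
  supp : ∀ K ≤ R, x ∈ normalizer (K : Set G) → supp K x = ⁅K, zpowers u⁆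
  fix : ∀ K ≤ R, fix K x = K ⊓ centralizer (zpowers u : Set G)

theorem exists_ou (h : Od R x) : ∃ u, Ou R x u := by
  obtain ⟨v, hv, u, hu, ⟨k, hk⟩, uo, e⟩ := GW.exists_two_mul_odd x
  obtain ⟨m, hm, c⟩ := h.odd
  have vc : v ∈ centralizer (R : Set G) := by
    obtain ⟨j, rfl⟩ := mem_zpowers_iff.1 hv
    have a : (x ^ j) ^ m ∈ centralizer (R : Set G) := by
      rw [← zpow_natCast, ← zpow_mul, mul_comm, zpow_mul, zpow_natCast]
      exact zpow_mem (cz_iff.1 c) j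
    obtain ⟨i, hi⟩ := exists_pow_eq_self_of_coprime (x := x ^ j) (n := m)
      (Nat.Coprime.coprime_dvd_right (orderOf_dvd_of_pow_eq_one hk) (hm.coprime_two_right.pow_right k))
    rw [← hi]; exact pow_mem a i
  refine ⟨u, hu, fun K hK => CopAct.coprime_of_isPGroup_right (p := 2)
    (by rw [Nat.card_zpowers]; exact uo.coprime_two_right) (h.two.to_le hK), uo,
    by rwa [e, mul_inv_cancel_right], fun K hK hx => le_antisymm ?_ (commutator_mono le_rfl (zpowers_le.2 hu)),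
    fun K hK => Subgroup.ext fun d => ?_⟩
  · have := supp_le_supp hK (zpowers_le.2 hx hu) vc (mem_zpowers u)
    rwa [← e] at this
  · rw [mem_fix, mem_inf, GT.centralizer_zpowers, mem_centralizer_singleton_iff]
    refine and_congr_right fun hd => ?_
    have := mem_cent.1 vc d (hK hd)
    rw [e, mul_assoc, ← mul_assoc d, this, mul_assoc, mul_right_inj, eq_comm]

end TriA

namespace Od
variable (h : Od R x)
include h

theorem decomp {r : G} (hr : r ∈ R) : ∃ t ∈ supp R x, ∃ d ∈ fix R x, r = t * d := by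
  obtain ⟨u, o⟩ := exists_ou h
  obtain ⟨t, ht, d, hd, e⟩ := CopAct.exists_eq_commutator_mul_centralizer (zpowers_le.2 (zpowers_le.2 h.xn o.zp))
    (o.cop R le_rfl) (.inl (CopAct.isSolvable_zpowers u)) hr
  exact ⟨t, (o.supp R le_rfl h.xn).ge ht, d, (o.fix R le_rfl).ge hd, e.symm⟩
theorem supp_supp : supp (supp R x) x = supp R x := by
  obtain ⟨u, o⟩ := exists_ou h
  rw [o.supp _ (supp_le h.xn) mem_norm_supp, o.supp R le_rfl h.xn]
  exact CopAct.commutator_commutator_eq (zpowers_le.2 (zpowers_le.2 h.xn o.zp)) (o.cop R le_rfl)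
/-- A fixed coset contains a fixed point. -/
theorem lift (hL : L ≤ R) (hx : x ∈ normalizer (L : Set G)) {k : G} (hk : k ∈ R) (hn : k ∈ normalizer (L : Set G))
    (e : ⁅x, k⁆ ∈ L) : ∃ d ∈ fix R x, k⁻¹ * d ∈ L := by
  obtain ⟨u, o⟩ := exists_ou h
  have a : zpowers u ≤ stab L k := zpowers_le.2 (zpowers_le.2 (show x ∈ stab L k from ⟨hx, e⟩) o.zp)
  obtain ⟨y, hy, c, hc, rfl⟩ := CopAct.exists_eq_mul_centralizer (fun g hg => (a hg).1) (o.cop L hL)
    (.inl (CopAct.isSolvable_zpowers u)) (k := k) fun g hg => cinv.1 (a hg).2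
  refine ⟨c, (o.fix R le_rfl).ge ⟨(mul_mem_cancel_left (hL hy)).1 hk, hc⟩, ?_⟩
  have := conj_mem_of_norm' hn (inv_mem hy)
  rwa [show (y * c)⁻¹ * y⁻¹ * (y * c) = (y * c)⁻¹ * c by group] at this
/-- Two steps of a chain. -/
theorem chain (hL : L ≤ K) (hK : K ≤ R) (hn : R ≤ normalizer (L : Set G)) (h1 : ∀ k ∈ K, ⁅x, k⁆ ∈ L)
    (h2 : ∀ r ∈ R, ⁅x, r⁆ ∈ K) : ∀ r ∈ R, ⁅x, r⁆ ∈ L := fun _ hr =>
  (h.supp_supp.ge.trans ((supp_mono (supp_le' (norm_of hK h2) h2)).trans (supp_le' (norm_of hL h1) h1)))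
    (comm_mem_supp hr).1
theorem cz_of_chain (hL : L ≤ R) (h1 : Cz x L) (h2 : ∀ r ∈ R, ⁅x, r⁆ ∈ L) : Cz x R := fun r hr =>
  commutatorElement_eq_one_iff_mul_comm.1 (mem_bot.1 (h.chain bot_le hL le_normalizer_of_normal
    (fun k hk => mem_bot.2 (commutatorElement_eq_one_iff_mul_comm.2 (h1 k hk))) h2 r hr))
theorem cz_of_phi (h1 : ∀ r ∈ R, ⁅x, r⁆ ∈ phi R) : Cz x R := fun r hr => by
  refine (mem_fix.1 (le_of_sup_phi (K := fix R x) h.two inf_le_left (fun y hy => ?_) hr)).2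
  obtain ⟨t, ht, d, hd, rfl⟩ := h.decomp hy
  exact mul_mem (mem_sup_right (supp_le' (norm_phi h.xn) h1 ht)) (mem_sup_left hd)
theorem fix_le_comm : supp R x ⊓ fix R x ≤ ⁅supp R x, supp R x⁆ := by
  obtain ⟨u, o⟩ := exists_ou h
  rw [o.supp R le_rfl h.xn, o.fix R le_rfl]
  exact (inf_le_inf_left _ inf_le_right).trans
    (CopAct.commutator_inf_centralizer_le' (zpowers_le.2 (zpowers_le.2 h.xn o.zp)) (o.cop R le_rfl))
theorem disj_of_comm (hc : ∀ u ∈ R, ∀ v ∈ R, u * v = v * u) : supp R x ⊓ fix R x = ⊥ :=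
  eq_bot_iff.2 (h.fix_le_comm.trans (commutator_le.2 fun u hu v hv => mem_bot.2
    (commutatorElement_eq_one_iff_mul_comm.2 (hc u (supp_le h.xn hu) v (supp_le h.xn hv)))))
theorem cz_of_omega (hc : ∀ u ∈ R, ∀ v ∈ R, u * v = v * u) (h1 : ∀ u ∈ R, u * u = 1 → x * u = u * x) : Cz x R := by
  refine supp_eq_bot.1 (by_contra fun ne => ?_)
  obtain ⟨y, hy, p⟩ := CopAct.exists_prime_orderOf_mem ne
  obtain ⟨k, hk⟩ := pg_iff.1 h.two y (supp_le h.xn hy)
  have o2 := (Nat.prime_dvd_prime_iff_eq p Nat.prime_two).1 (p.dvd_of_dvd_pow (orderOf_dvd_of_pow_eq_one hk))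
  have y2 : y * y = 1 := by rw [← pow_two, ← o2, pow_orderOf_eq_one]
  have : y = 1 := mem_bot.1 ((h.disj_of_comm hc).le ⟨hy, mem_fix.2 ⟨supp_le h.xn hy, h1 y (supp_le h.xn hy) y2⟩⟩)
  rw [this, orderOf_one] at o2
  omega
theorem cz_cyclic {a : G} (ha : a ∈ R) (hx : x ∈ normalizer (zpowers a : Set G)) : x * a = a * x := by
  refine (h.mono (zpowers_le.2 ha) hx).cz_of_phi (fun r hr => supp_le_idx hx phi_le (norm_phi hx) ?_
    (comm_mem_supp hr).1) a (mem_zpowers a)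
  have ev : ∀ i : ℤ, Even i → a ^ i ∈ phi (zpowers a) := by
    rintro _ ⟨i, rfl⟩
    rw [zpow_add]; exact mem_phi (zpow_mem_zpowers a i)
  rintro _ ⟨i, rfl⟩ _ ⟨j, rfl⟩ hi hj
  rw [← zpow_add]
  exact ev _ ((Int.not_even_iff_odd.1 fun e => hi (ev i e)).add_odd (Int.not_even_iff_odd.1 fun e => hj (ev j e)))
/-- `x` centralises `K`, hence acts trivially on `N_R(K) / C_R(K)`. -/
theorem comm_cz (h1 : Cz x K) {r : G} (hr : r ∈ normalizer (K : Set G)) : Cz ⁅x, r⁆ K :=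
  cz_iff.2 (cinv.1 (mul_mem (conj_mem_of_norm (norm_cent (zpowers_le.2 hr) (mem_zpowers r)) (cz_iff.1 h1))
    (inv_mem (cz_iff.1 h1))))
/-- A power of `x` of even exponent that acts trivially. -/
theorem cz_of_sq (h1 : Cz (x * x) K) (hK : K ≤ R) : Cz x K := by
  obtain ⟨m, hm, c⟩ := h.odd
  exact cz_iff.2 (mem_of_sq hm (cent_anti hK (cz_iff.1 c)) (cz_iff.1 h1))
/-- An invariant set with at most two elements is fixed. -/
theorem norm_of_sq (hK : K ≤ R) (h1 : x * x ∈ normalizer (K : Set G)) : x ∈ normalizer (K : Set G) := by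
  obtain ⟨m, hm, c⟩ := h.odd
  exact mem_of_sq hm (cent_le_norm _ (cent_anti hK (cz_iff.1 c))) h1
/-- Maschke: an invariant subgroup that meets `Φ(R)` trivially and is central has an invariant complement. -/
theorem compl (hA : A ≤ R) (hx : x ∈ normalizer (A : Set G)) (hc : ∀ u ∈ A, Cz u R) (hd : A ⊓ phi R = ⊥) :
    ∃ K ≤ R, x ∈ normalizer (K : Set G) ∧ phi R ≤ K ∧ A ⊓ K = ⊥ ∧ R ≤ A ⊔ K := by
  haveI : Fact (Nat.Prime 2) := ⟨Nat.prime_two⟩
  obtain ⟨u, o⟩ := exists_ou h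
  obtain ⟨f, -, hf⟩ := exists_quo (phi R)
  have RN : R ≤ normalizer (phi R : Set G) := fun r hr => norm_phi (le_normalizer hr)
  have uR := zpowers_le.2 h.xn o.zp
  let u' : normalizer (phi R : Set G) := ⟨u, norm_phi uR⟩
  have nm : ∀ B ≤ R, u ∈ normalizer (B : Set G) → zpowers (f u') ≤ normalizer (im f B : Set _) := fun B _ hB =>
    zpowers_le.2 (mem_normalizer_of_conj_mem (by
      rintro _ ⟨y, hy, rfl⟩
      exact ⟨u' * y * u'⁻¹, conj_mem_of_norm (g := u) (a := y) hB hy, by simp⟩))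
  have sq : ∀ y ∈ im f R, y * y = 1 := by
    rintro _ ⟨y, hy, rfl⟩
    rw [← map_mul, hf]; exact mem_phi hy
  obtain ⟨W, w1, w2, w3, w4⟩ := CopAct.exists_invariant_complement_of_isElementaryAbelian (p := 2)
    (V := im f R) (U := im f A)
    ⟨⟨⟨fun a c => Subtype.ext (by
      have := sq _ (mul_mem a.2 c.2)
      rw [coe_mul, coe_mul, ← inv_eq_of_mul_eq_one_right this, mul_inv_rev,
        inv_eq_of_mul_eq_one_right (sq _ a.2), inv_eq_of_mul_eq_one_right (sq _ c.2)])⟩⟩,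
      fun y hy => by rw [pow_two, sq y hy]⟩ (nm R le_rfl uR)
    (by rw [Nat.card_zpowers]
        exact (o.odd.of_dvd_nat ((orderOf_map_dvd f u').trans (orderOf_coe u').symm.dvd)).coprime_two_right)
    (map_mono (subgroupOf_mono _ hA)) (nm A hA (zpowers_le.2 hx o.zp))
  have KR : (W.comap f).map (Subgroup.subtype _) ≤ R := by
    rintro _ ⟨y, hy, rfl⟩
    exact (mem_im hf le_normalizer phi_le y).1 (w1 hy)
  refine ⟨_, KR, ?_, fun y hy => ⟨⟨y, le_normalizer hy⟩, by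
    rw [SetLike.mem_coe, mem_comap, (hf _).2 hy]; exact one_mem _, rfl⟩, eq_bot_iff.2 ?_, fun r hr => ?_⟩
  · rw [show x = x * u⁻¹ * u by group]
    refine mul_mem (cent_le_norm _ (cent_anti KR o.c)) (mem_normalizer_of_conj_mem ?_)
    rintro _ ⟨y, hy, rfl⟩
    exact ⟨u' * y * u'⁻¹, by simpa using conj_mem_of_norm (w2 (mem_zpowers _)) hy, rfl⟩
  · rintro _ ⟨ha, y, hy, rfl⟩
    exact hd.le ⟨ha, (hf y).1 (mem_bot.1 (w3.le ⟨⟨y, ha, rfl⟩, hy⟩))⟩
  · have cm : im f A ≤ normalizer (W : Set _) := fun a ha => mem_normalizer_of_conj_mem fun w hw => by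
      obtain ⟨a, ha, rfl⟩ := ha
      obtain ⟨y, hy, rfl⟩ := w1 hw
      rwa [← map_mul, show a * y = y * a from Subtype.ext (hc a ha y hy), map_mul, mul_inv_cancel_right]
    have m : f ⟨r, RN hr⟩ ∈ W ⊔ im f A := by rw [sup_comm, w4]; exact ⟨_, hr, rfl⟩
    obtain ⟨w, hw, _, ⟨a, ha, rfl⟩, e⟩ := (mem_sup_norm cm).1 m
    rw [show r = r * (a : G)⁻¹ * a by group]
    refine mul_mem (mem_sup_right ⟨⟨r, RN hr⟩ * a⁻¹, ?_, rfl⟩) (mem_sup_left ha)
    rw [SetLike.mem_coe, mem_comap, map_mul, ← e, map_inv, mul_inv_cancel_right]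
    exact hw

end Od

namespace Tri
variable (h : Tri R x s)
include h

theorem supp_ne : supp R x ≠ ⊥ := fun e => h.ne (supp_eq_bot.1 e)
theorem conj_conj {r : G} (hr : r ∈ R) : s * (x * r * x⁻¹) * s⁻¹ = x⁻¹ * (s * r * s⁻¹) * x := by
  have := h.inv _ (conj_mem_of_norm' h.xn (conj_mem_of_norm h.sn hr))
  calc _ = s * x * s⁻¹ * x * (x⁻¹ * (s * r * s⁻¹) * x) * (s * x * s⁻¹ * x)⁻¹ := by group
    _ = _ := by rw [this]; group
/-- `s` normalises `[K, x]` and `C_K(x)` for an invariant `K`. -/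
theorem s_sub (hK : K ≤ R) (hs : s ∈ normalizer (K : Set G)) (hx : x ∈ normalizer (K : Set G)) :
    s ∈ normalizer (supp K x : Set G) ∧ s ∈ normalizer (fix K x : Set G) := by
  refine ⟨cj_eq_iff.1 (cj_eq_of_le ?_), mem_normalizer_of_conj_mem fun d hd => ?_⟩
  · rw [cj_supp, cj_eq_iff.2 hs, show s * x * s⁻¹ = s * x * s⁻¹ * x * x⁻¹ by group]
    exact supp_le_supp hK hx (cz_iff.1 h.inv) (inv_mem (mem_zpowers x))
  · obtain ⟨a, c⟩ := mem_fix.1 hd
    have := h.conj_conj (hK a)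
    rw [c, mul_inv_cancel_right] at this
    refine mem_fix.2 ⟨conj_mem_of_norm hs a, ?_⟩
    conv_lhs => rw [this]
    group
theorem s_supp : s ∈ normalizer (supp R x : Set G) := (h.s_sub le_rfl h.sn h.xn).1
theorem s_fix : s ∈ normalizer (fix R x : Set G) := (h.s_sub le_rfl h.sn h.xn).2
/-- `s` may be multiplied by an element of `C_R(x)`. -/
theorem mul_fix {d : G} (hd : d ∈ fix R x) : Tri R x (s * d) := by
  have m : s * d * (s * d) ∈ fix R x := by
    rw [show s * d * (s * d) = s * d * s⁻¹ * (s * s) * d by group]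
    exact mul_mem (mul_mem (conj_mem_of_norm h.s_fix hd) (mem_fix.2 ⟨h.ss, h.sx⟩)) hd
  refine ⟨h.two, h.xn, mul_mem h.sn (le_normalizer hd.1), fun e => h.s_not ((mul_mem_cancel_right (mem_fix.1 hd).1).1 e),
    m.1, (mem_fix.1 m).2, ?_, h.ord, h.ne⟩
  rw [mul_assoc s d, ← (mem_fix.1 hd).2, show s * (x * d) * (s * d)⁻¹ * x = s * x * s⁻¹ * x by group]
  exact h.inv
theorem symm : Tri R x⁻¹ s := by
  refine ⟨h.two, inv_mem h.xn, h.sn, h.s_not, h.ss, (Commute.inv_left (a := x) (b := s * s) h.sx).eq, cz_iff.2 ?_, ?_,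
    fun e => h.ne (cz_iff.2 (by simpa using inv_mem (cz_iff.1 e)))⟩
  · rw [show s * x⁻¹ * s⁻¹ * x⁻¹ = x * (s * x * s⁻¹ * x)⁻¹ * x⁻¹ by group]
    exact conj_mem_of_norm (norm_cent (zpowers_le.2 h.xn) (mem_zpowers x)) (inv_mem (cz_iff.1 h.inv))
  · simp only [inv_pow, cz_iff, inv_mem_iff]
    simpa only [cz_iff] using h.ord
/-- The order of `[K, x] L / L` for an elementary section `K / L` moved by `x`. -/
theorem sec (h4 : Rk 16 R) (hL : L ≤ K) (hK : K ≤ R) (h1 : x ∈ normalizer (K : Set G)) (h2 : x ∈ normalizer (L : Set G))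
    (hs : ∀ k ∈ K, k * k ∈ L) (hm : ∃ k ∈ K, ⁅x, k⁆ ∉ L) :
    (Nat.card (supp K x ⊔ L : Subgroup G) = 4 * Nat.card L ∧ Cz (x ^ 3) R) ∨
      (Nat.card K = 16 * Nat.card L ∧ K ≤ supp K x ⊔ L ∧ ∀ k ∈ K, ⁅x, k⁆ ∈ L → k ∈ L) := by
  obtain ⟨f, -, hf⟩ := exists_quo L
  have cm : ∀ a ∈ K, ∀ c ∈ K, ⁅a, c⁆ ∈ L := fun a ha c hc => phi_le_iff.2 hs (comm_mem_phi ha hc)
  have KN : K ≤ normalizer (L : Set G) := fun k hk => norm_of hL (cm k hk)
  let x' : normalizer (L : Set G) := ⟨x, h2⟩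
  have TK : supp K x ⊔ L ≤ K := sup_le (supp_le h1) hL
  have eT : GHJ.im f (supp K x ⊔ L) = supp (GHJ.im f K) (f x') := by
    rw [supp_im hf le_normalizer KN]
    refine le_antisymm ?_ (map_mono (subgroupOf_mono _ le_sup_left))
    rintro _ ⟨y, hy, rfl⟩
    obtain ⟨l, hl, t, ht, e⟩ := (mem_sup_norm ((supp_le h1).trans KN)).1 ((sup_comm (supp K x) L).le hy)
    refine ⟨⟨t, KN (supp_le h1 ht)⟩, ht, ?_⟩
    rw [show y = ⟨l, le_normalizer hl⟩ * ⟨t, KN (supp_le h1 ht)⟩ from Subtype.ext e.symm, map_mul,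
      (hf ⟨l, le_normalizer hl⟩).2 hl, one_mul]
  have cz : ∀ m : ℕ, Cz (x ^ m) R → Cz (f x' ^ m) (GHJ.im f K) := by
    rintro m c _ ⟨y, hy, rfl⟩
    rw [← map_pow, ← map_mul, ← map_mul]
    exact congrArg f (Subtype.ext (c y (hK hy)))
  have od : Od (GHJ.im f K) (f x') := ⟨pgroup_im hf le_normalizer (h.two.to_le hK), mem_normalizer_of_conj_mem (by
      rintro _ ⟨y, hy, rfl⟩
      exact ⟨x' * y * x'⁻¹, conj_mem_of_norm (g := x) (a := y) h1 hy, by simp⟩), h.od.odd.imp fun m e => ⟨e.1, cz m e.2⟩⟩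
  have dj := od.disj_of_comm (by
    rintro _ ⟨y, hy, rfl⟩ _ ⟨y', hy', rfl⟩
    rw [← commutatorElement_eq_one_iff_mul_comm, ← map_commutatorElement, hf]
    exact cm y hy y' hy')
  have md : ∀ p : ℕ, p.Prime → Cz (x ^ p) R → Nat.card (supp (GHJ.im f K) (f x')) ≡ 1 [MOD p] := fun p hp c =>
    card_mod hp mem_norm_supp (fun k hk => cz p c k (supp_le od.xn hk)) fun k hk e =>
      mem_bot.1 (dj.le ⟨hk, mem_fix.2 ⟨supp_le od.xn hk, e⟩⟩)
  have c1 := card_im hf le_normalizer le_sup_right (TK.trans KN)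
  rw [eT] at c1
  have c2 := h4 L K hL hK hs
  have c3 := card_le_of_le TK
  obtain ⟨j, hj⟩ := (IsPGroup.iff_card (p := 2)).1 (od.two.to_le (supp_le od.xn))
  have p0 : 0 < Nat.card L := Nat.card_pos
  have j0 : j ≠ 0 := by
    rintro rfl
    obtain ⟨k, hk, e⟩ := hm
    refine e ((hf ⁅x', ⟨k, KN hk⟩⁆).1 ?_)
    rw [map_commutatorElement]
    exact mem_bot.1 ((card_eq_one.1 hj).le (comm_mem_supp (show f ⟨k, KN hk⟩ ∈ GHJ.im f K from ⟨_, hk, rfl⟩)).1)
  rw [hj] at c1 md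
  have j4 : j ≤ 4 := by
    have : 2 ^ j ≤ 2 ^ 4 := Nat.le_of_mul_le_mul_left (a := 2 ^ j) (by omega) p0
    exact (Nat.pow_le_pow_iff_right (by norm_num)).1 this
  by_cases e4 : j = 4
  · subst e4
    have eK : supp K x ⊔ L = K := eq_of_le_of_card_ge TK (by omega)
    refine .inr ⟨by omega, eK.ge, fun k hk e => (hf ⟨k, KN hk⟩).1 (mem_bot.1 (dj.le ⟨?_, mem_fix.2 ⟨⟨_, hk, rfl⟩, ?_⟩⟩))⟩
    · rw [← eT, eK]; exact ⟨_, hk, rfl⟩
    · rw [← commutatorElement_eq_one_iff_mul_comm, ← map_commutatorElement, hf]; exact e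
  left
  rcases h.ord with c | c
  · have := md 3 Nat.prime_three c
    refine ⟨?_, c⟩
    interval_cases j
    · exact absurd rfl j0
    · exact absurd this (by decide)
    · omega
    · exact absurd this (by decide)
    · exact absurd rfl e4
  · have := md 5 Nat.prime_five c
    interval_cases j
    · exact absurd rfl j0
    · exact absurd this (by decide)
    · exact absurd this (by decide)
    · exact absurd this (by decide)
    · exact absurd rfl e4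
/-- An element `b` of the coset of `s` acts freely on a section `K / L` centralised by `R` on which `x` has no fixed
points. -/
theorem free (hb : s⁻¹ * b ∈ R) (hL : L ≤ K) (hK : K ≤ R) (h1 : x ∈ normalizer (K : Set G))
    (h2 : x ∈ normalizer (L : Set G)) (h3 : s ∈ normalizer (K : Set G)) (h4 : s ∈ normalizer (L : Set G))
    (hc : ∀ r ∈ R, ∀ k ∈ K, ⁅r, k⁆ ∈ L) (hf : ∀ k ∈ K, ⁅x, k⁆ ∈ L → k ∈ L) :
    (∀ k ∈ K, ⁅b, k⁆ ∈ L → (k * k ∈ L) → ∃ u ∈ K, k⁻¹ * ⁅b, u⁆ ∈ L) ∧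
      ∀ k ∈ K, ⁅b, k⁆ ∈ L → ⁅b, x * k * x⁻¹⁆ ∈ L → k ∈ L := by
  have RN : R ≤ normalizer (L : Set G) := fun r hr => norm_of hL (hc r hr)
  have eb : b = s * (s⁻¹ * b) := by group
  have bL : b ∈ normalizer (L : Set G) := eb ▸ mul_mem h4 (RN hb)
  obtain ⟨m, hm, c⟩ := h.od.odd
  have f2 : ∀ k ∈ K, x * x ∈ stab L k → k ∈ L := fun k hk e =>
    hf k hk (mem_of_sq hm (cent_le_stab (hL.trans hK) (hK hk) (cz_iff.1 c)) e).2
  refine ⟨fun k hk e kk => ?_, fun k hk e1 e2 => f2 k hk ?_⟩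
  swap
  · have r : R ≤ stab L k := fun r hr => ⟨RN hr, hc r hr k hk⟩
    have a1 : s ∈ stab L k := (mul_mem_cancel_right (r hb)).1 (eb ▸ ⟨bL, e1⟩)
    have a2 : x⁻¹ * b * x ∈ stab L k := ⟨mul_mem (mul_mem (inv_mem h2) bL) h2, by
      rw [show ⁅x⁻¹ * b * x, k⁆ = x⁻¹ * ⁅b, x * k * x⁻¹⁆ * x by simp only [commutatorElement_def]; group]
      exact conj_mem_of_norm' h2 e2⟩
    rw [show x * x = (x⁻¹ * b * x * (x⁻¹ * (s⁻¹ * b) * x)⁻¹ * s⁻¹)⁻¹ * (x⁻¹ * (s * x * s⁻¹ * x) * x) * (x⁻¹ * x)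
      by group, inv_mul_cancel, mul_one]
    exact mul_mem (inv_mem (mul_mem (mul_mem a2 (inv_mem (r (conj_mem_of_norm' h.xn hb)))) (inv_mem a1)))
      (cent_le_stab (hL.trans hK) (hK hk)
        (conj_mem_of_norm' (norm_cent (zpowers_le.2 h.xn) (mem_zpowers x)) (cz_iff.1 h.inv)))
  obtain ⟨f, -, hq⟩ := exists_quo L
  have KN := hK.trans RN
  have nm : ∀ g : normalizer (L : Set G), (g : G) ∈ normalizer (K : Set G) → f g ∈ normalizer (GHJ.im f K : Set _) :=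
    fun g hg => mem_normalizer_of_conj_mem (by
      rintro _ ⟨y, hy, rfl⟩
      exact ⟨g * y * g⁻¹, conj_mem_of_norm (g := (g : G)) (a := y) hg hy, by simp⟩)
  have cm : ∀ r : normalizer (L : Set G), (r : G) ∈ R → ∀ y ∈ GHJ.im f K, f r * y = y * f r := by
    rintro r hr _ ⟨y, hy, rfl⟩
    rw [← commutatorElement_eq_one_iff_mul_comm, ← map_commutatorElement, hq]
    exact hc r hr y hy
  letI : CommGroup (GHJ.im f K) := { (inferInstance : Group (GHJ.im f K)) with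
    mul_comm := fun a c => Subtype.ext (by
      obtain ⟨_, y, hy, rfl⟩ := a
      exact cm y (hK hy) c c.2) }
  let x' : normalizer (L : Set G) := ⟨x, h2⟩
  let s' : normalizer (L : Set G) := ⟨s, h4⟩
  let b' : normalizer (L : Set G) := ⟨b, bL⟩
  have bs : ∀ y ∈ GHJ.im f K, f b' * y * (f b')⁻¹ = f s' * y * (f s')⁻¹ := fun y hy => by
    rw [show b' = s' * ⟨s⁻¹ * b, RN hb⟩ from Subtype.ext eb, map_mul, mul_assoc (f s'), cm _ hb y hy]
    group
  obtain ⟨⟨_, u, hu, rfl⟩, e'⟩ := free_aux (normalizerMonoidHom (GHJ.im f K) ⟨f x', nm x' h1⟩)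
    (normalizerMonoidHom (GHJ.im f K) ⟨f s', nm s' h3⟩)
    (by
      rintro ⟨_, y, hy, rfl⟩
      rw [← map_inv]
      refine Subtype.ext ?_
      change f s' * (f x' * f y * (f x')⁻¹) * (f s')⁻¹ = (f x')⁻¹ * (f s' * f y * (f s')⁻¹) * (f x')⁻¹⁻¹
      simp only [← map_inv, ← map_mul]
      exact congrArg f (Subtype.ext (by simpa using h.conj_conj (hK hy))))
    (by
      rintro ⟨_, y, hy, rfl⟩ e
      refine Subtype.ext ((hq y).2 (f2 y hy ⟨mul_mem h2 h2, (hq ⁅x' * x', y⁆).1 ?_⟩))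
      have e : f x' * (f x' * f y * (f x')⁻¹) * (f x')⁻¹ = f y := congrArg Subtype.val e
      rw [map_commutatorElement, map_mul, commutatorElement_def, mul_inv_eq_one]
      refine Eq.trans ?_ e
      group)
    (k := ⟨f ⟨k, KN hk⟩, _, hk, rfl⟩)
    (Subtype.ext (by
      change f s' * f ⟨k, KN hk⟩ * (f s')⁻¹ = f ⟨k, KN hk⟩
      rw [← bs _ ⟨_, hk, rfl⟩, ← mul_inv_eq_one, ← commutatorElement_def, ← map_commutatorElement, hq]
      exact e))
    (Subtype.ext (by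
      change f ⟨k, KN hk⟩ * f ⟨k, KN hk⟩ = 1
      rw [← map_mul, hq]; exact kk))
  refine ⟨u, hu, (hq ((⟨k, KN hk⟩ : normalizer (L : Set G))⁻¹ * ⁅b', u⁆)).1 ?_⟩
  have e' : f s' * f u * (f s')⁻¹ * (f u)⁻¹ = f ⟨k, KN hk⟩ := congrArg Subtype.val e'
  rw [map_mul, map_inv, map_commutatorElement, commutatorElement_def, bs _ ⟨_, hu, rfl⟩, e', inv_mul_cancel]

end Tri

end Cfsg.Agent.GHJ
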