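import Mathlib
import Cfsg.Agent.GHJ.Defs
import Cfsg.Agent.GHJ.HamA
import Cfsg.Agent.G2T.Model
import Cfsg.Agent.NE.MainF
import Cfsg.Agent.NE.RecG2
import Cfsg.Agent.NE.Start
import Cfsg.Agent.Inv.DDMain
import Cfsg.Agent.Inv.Classes
import Cfsg.Agent.Loc.GlaubAut
import Cfsg.Agent.Spor.Dodecad
import Cfsg.Agent.Spor.Ly.Main
import Cfsg.Agent.S1067
import Cfsg.Agent.S1742
import Cfsg.Agent.S3100
import Cfsg.Agent.S3224
import Cfsg.Agent.Rec.J23.Final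
import Cfsg.Agent.S1776

/-! Sylow 2-subgroups of known type: G2, J2, Ly, no normal E8, direct products. See `stubs/Cfsg/Agent/GHJ/PLAN.md`. -/

set_option autoImplicit false
set_option linter.unusedSectionVars false

namespace Cfsg.Agent.GHJ

open Cfsg.Agent.Inv.Fz Cfsg.Agent.NE Subgroup
open scoped commutatorElement

variable {G : Type*} [Group G] [Finite G] {S P R K L N T V A B U : Subgroup G} {x s g b : G} {n : ℕ}

namespace HamB

theorem noI (c : Ctx G) : NoIdx G := by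
  have := c.simple
  obtain ⟨E, -, h⟩ := c.rank3
  refine noIdx_of_simple fun e => ?_
  have := card_le_card_group E
  rw [h.card] at this
  omega

theorem not_g2 (c : Ctx G) {F : Type*} [Field F] [Fintype F] (hF : Odd (Fintype.card F))
    (P : Sylow 2 ↥(Cfsg.Lie.chevG2.group F)) (e : c.S ≃* (P : Subgroup ↥(Cfsg.Lie.chevG2.group F))) : False := by
  have := c.simple
  obtain ⟨S, hS⟩ := c.exists_sylow
  rcases S1742.result hF S P ⟨(MulEquiv.subgroupCongr hS).trans e⟩ with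
    ⟨E, _, _, h1, ⟨φ⟩⟩ | ⟨E, _, _, r, -, h2, ⟨φ⟩⟩ | ⟨⟨φ⟩⟩
  · refine c.ng (.inr (.inl ⟨this, _, FiniteField.isPrimePow_card E, ?_, ?_⟩))
    · have := Fintype.one_lt_card (α := E)
      obtain ⟨k, hk⟩ := h1
      omega
    · rw [Nat.card_congr φ.toEquiv, S1059.result rfl, mul_right_comm]
  · have h3 : IsPrimePow r := (isPrimePow_pow_iff three_ne_zero).1 (h2 ▸ FiniteField.isPrimePow_card E)
    refine c.ng (.inr (.inr (.inl ⟨this, r, h3, ?_⟩)))
    rw [Nat.card_congr φ.toEquiv, S1067.result h3 h2]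
    ac_rfl
  · refine c.ng ?_
    unfold Goal
    iterate 15 right
    exact .inl ⟨this, (Nat.card_congr φ.toEquiv).trans Spor.Dod.card_SporM12⟩

theorem exists_gs (k : ℕ) : ∃ (F : Type) (_ : Field F) (_ : Fintype F), Odd (Fintype.card F) ∧
    ∃ P : Sylow 2 ↥(Cfsg.Lie.chevG2.group F), Nonempty (G2T.GS k ≃* (P : Subgroup ↥(Cfsg.Lie.chevG2.group F))) := by
  rcases k with _ | k
  · have : Fact (Nat.Prime 3) := ⟨Nat.prime_three⟩
    have hq : Fintype.card (ZMod 3) = 3 := ZMod.card 3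
    have h7 : Nat.card (Cfsg.Lie.chevG2.group (ZMod 3)) = 2 ^ 6 * 66339 := (S1059.result hq).trans (by norm_num)
    have : Finite (Cfsg.Lie.chevG2.group (ZMod 3)) := Nat.finite_of_card_ne_zero (by rw [h7]; norm_num)
    obtain ⟨P⟩ := (Sylow.nonempty : Nonempty (Sylow 2 ↥(Cfsg.Lie.chevG2.group (ZMod 3))))
    have ho : Odd (Fintype.card (ZMod 3)) := by rw [hq]; decide
    obtain ⟨k, ⟨φ⟩⟩ := G2T.exists_gs_chevG2 ho P
    have h9 := Nat.card_congr φ.toEquiv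
    rw [G2T.GS.card, GT.TP.card_sylow_of_eq h7 (by norm_num)] at h9
    obtain rfl : k = 0 := by
      have := Nat.pow_right_injective (le_refl 2) h9
      omega
    exact ⟨_, inferInstance, inferInstance, ho, P, ⟨φ⟩⟩
  · obtain ⟨F, _, _, h, P, e⟩ := B8.exists_g2_gs k
    exact ⟨F, inferInstance, inferInstance, Nat.odd_iff.2 (by omega), P, e⟩

theorem ds_cases (h : DS A) : IsKleinFour A ∨ ∃ (t : ℕ) (k : R2 t) (r s : R2 t → G), 1 ≤ t ∧ Inv.Fz.Mx A t k 0 r s := by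
  rcases h with h | ⟨a, b, n, h, h2⟩
  · exact .inl (Inv.isKleinFour_of_card_of_sq h.card h.sq)
  right
  obtain ⟨m, rfl⟩ : ∃ m, n = m + 1 := ⟨n - 1, by have := h.two; omega⟩
  rcases h.inv with h3 | ⟨h3, h4⟩
  · obtain ⟨e⟩ := Inv.nonempty_closure_equiv_dihedral h2 h3 h.not_mem h.ord
    obtain ⟨r, s, H⟩ := exists_mc_of_dihedral ((MulEquiv.subgroupCongr h.eq).trans e)
    exact ⟨m, _, r, s, by have := h.two; omega, H.mxD⟩
  · have ha : a ∈ A := h.eq ▸ subset_closure (by simp)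
    have hb : b ∈ A := h.eq ▸ subset_closure (by simp)
    have h5 : b * a * b⁻¹ = a ^ (2 ^ m - 1) := by
      rw [h4, inv_mul_eq_iff_eq_mul, ← pow_succ', Nat.sub_add_cancel Nat.one_le_two_pow]; rfl
    have h6 : b ∈ normalizer (zpowers a : Set G) := cj_eq_iff.1 (cj_eq_of_le (by
      rw [cj_zpowers, h5]; exact zpowers_le.2 (pow_mem (mem_zpowers a) _)))
    have h7 : A = ext (zpowers a) b := by
      rw [h.eq, NE.ext, zpowers_eq_closure, zpowers_eq_closure, ← Subgroup.closure_union]; rfl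
    obtain ⟨t, ht, r, s, H⟩ := exists_mc_of_qd (S := A) ⟨m + 1, h3, by
      rw [h7, card_ext h6 (h2 ▸ one_mem _) h.not_mem, Nat.card_zpowers, h.ord, ← pow_succ'], ⟨a, ha⟩, ⟨b, hb⟩,
      (orderOf_mk _ _).trans h.ord, (orderOf_mk _ _).trans (orderOf_eq_prime (by rw [pow_two, h2])
        fun e => h.not_mem (e ▸ one_mem _)), Subtype.ext h5⟩
    exact ⟨t, _, r, s, by omega, H.mxQD ht⟩

theorem not_klein (c : Ctx G) {W : Subgroup G} (hW : IsKleinFour W) (h : Cfsg.IsStronglyClosed W c.S) : False := by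
  have h2 : ∀ a ∈ W, a * a = 1 := fun a ha => congrArg Subtype.val (IsKleinFour.mul_self (⟨a, ha⟩ : W))
  refine c.noSC h (fun e => ?_) fun u hu v hv r _ => ?_
  · have := hW.card_four
    rw [e, card_bot] at this
    omega
  · rw [commutatorElement_eq_one_iff_mul_comm.2 (comm_of_sq h2 hu hv), one_mul, mul_one]

theorem mx_of {m : ℕ} {a b : P} (h : GT.PG.MaxTwo m a b) (h2 : b ^ 2 = 1)
    (h3 : b * a * b⁻¹ = a⁻¹ ∨ (2 ≤ m ∧ b * a * b⁻¹ = a ^ (2 ^ m - 1))) : DS P := by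
  have h4 : (b : G) * b = 1 := by rw [← pow_two]; exact congrArg Subtype.val h2
  refine .inr ⟨a, b, m + 1, ⟨Nat.succ_le_succ h.one_le, (orderOf_coe _).trans h.orderOf_eq,
    h3.imp (congrArg Subtype.val) fun e => ⟨Nat.succ_le_succ e.1, (congrArg Subtype.val e.2).trans ?_⟩,
    fun ⟨i, e⟩ => h.notMem ⟨i, Subtype.ext e⟩, ?_, .inl h4⟩, h4⟩
  · rw [eq_inv_mul_iff_mul_eq, coe_pow, ← pow_succ', Nat.sub_add_cancel Nat.one_le_two_pow]; rfl
  · have := congrArg (map P.subtype) h.sup_eq_top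
    rw [Subgroup.map_sup, MonoidHom.map_zpowers, MonoidHom.map_zpowers, ← MonoidHom.range_eq_map, range_subtype,
      zpowers_eq_closure, zpowers_eq_closure, ← Subgroup.closure_union] at this
    exact this.symm

end HamB

open HamB

theorem Ctx.not_gs (c : Ctx G) {k : ℕ} {a b t u : G} (h : G2T.GS.Rel k a b t u) (hz : (a * b) ^ 2 ^ (k + 1) ≠ 1)
    (hS : c.S = closure {a, b, t, u}) : False := by
  obtain ⟨f, f1, f2, f3, f4, f5⟩ := h.exists_hom
  have hr : f.range = c.S := by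
    refine le_antisymm ?_ (hS.le.trans ((closure_le _).2 ?_))
    · have m1 : G2T.GS.o 1 0 ∈ c.S.comap f := by rw [mem_comap, f1, hS]; exact subset_closure (by simp)
      have m2 : G2T.GS.o 0 1 ∈ c.S.comap f := by rw [mem_comap, f2, hS]; exact subset_closure (by simp)
      have m3 : G2T.GS.t 0 0 ∈ c.S.comap f := by rw [mem_comap, f3, hS]; exact subset_closure (by simp)
      have m4 : G2T.GS.u 0 0 ∈ c.S.comap f := by rw [mem_comap, f4, hS]; exact subset_closure (by simp)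
      have m0 : ∀ x y, G2T.GS.o x y ∈ c.S.comap f := fun x y => by
        simpa using mul_mem (G2T.GS.o_mul_mem m1 x) (G2T.GS.o_mul_mem m2 y)
      rintro _ ⟨⟨x, y⟩ | ⟨x, y⟩ | ⟨x, y⟩ | ⟨x, y⟩, rfl⟩
      · exact m0 x y
      · exact mem_comap.1 (by simpa using mul_mem (m0 x y) m3)
      · exact mem_comap.1 (by simpa using mul_mem (m0 x y) m4)
      · exact mem_comap.1 (by simpa using mul_mem (m0 x y) (mul_mem m3 m4))
    · rintro _ (rfl | rfl | rfl | rfl)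
      exacts [⟨_, f1⟩, ⟨_, f2⟩, ⟨_, f3⟩, ⟨_, f4⟩]
  obtain ⟨F, _, _, hF, P, ⟨φ⟩⟩ := exists_gs k
  exact not_g2 c hF P (((MulEquiv.subgroupCongr hr).symm.trans
    (MonoidHom.ofInjective (G2T.GS.injective_of_z f (f5 ▸ hz))).symm).trans φ)

theorem Ctx.not_typeJ (c : Ctx G) (h : TypeJ c.S) : False := by
  have := c.simple
  obtain ⟨S, hS⟩ := c.exists_sylow
  refine c.ng ?_
  unfold Goal
  iterate 19 right
  obtain ⟨P, hP⟩ : TypeJ (S : Subgroup G) := hS ▸ h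
  exact (S1776.result S P hP).imp_right fun e => .inl ⟨inferInstance, Rec.J23.card_of_isoJ3 e⟩

/-- No normal elementary abelian subgroup of order eight, and a fused normal four-group. -/
theorem Ctx.not_b8 (c : Ctx G) (hU : El 4 U) (hle : U ≤ c.S) (hn : c.S ≤ normalizer (U : Set G))
    (hf : ∀ u ∈ U, ∀ v ∈ U, u ≠ 1 → v ≠ 1 → IsConj u v)
    (h8 : ∀ E ≤ c.S, c.S ≤ normalizer (E : Set G) → (∀ e ∈ E, e * e = 1) → Nat.card E ≤ 4) : False := by
  have := c.simple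
  obtain ⟨S, hS⟩ := c.exists_sylow
  obtain ⟨E, h1, h2⟩ := c.rank3
  rw [← hS] at hle hn h8 h1
  obtain ⟨b, hb, rfl⟩ := exists_b8_of S (fun h => by
    have h3 : ∀ a ∈ E.subgroupOf S, a * a = 1 := fun a ha => Subtype.ext (h2.sq _ ha)
    have := h (E.subgroupOf S) (elem_of_sq h3).1 (elem_of_sq h3).2
    rw [Nat.card_congr (subgroupOfEquivOfLe h1).toEquiv, h2.card] at this
    omega) (fun E hE h e => by
    obtain ⟨k1, k2, k3, k4⟩ := map_sub E hE h.2
    have := h8 _ k1 k2 k3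
    omega) hle hn hU.sq hU.card
  have hc : b.S = c.S := hb.trans hS
  rcases B8.Fused.types (noI c) ⟨hf _ b.uU _ b.zU b.u_ne b.z_ne, hf _ b.uzU _ b.zU b.uz_ne b.z_ne⟩ with
    ⟨F, _, _, hF, P, ⟨e⟩⟩ | h | h
  · exact not_g2 c (Nat.odd_iff.2 (by omega)) P ((MulEquiv.subgroupCongr hc.symm).trans e)
  · exact c.not_typeJ (hc ▸ h)
  · obtain ⟨φ⟩ := S3100.result c.nc S (hb ▸ h)
    refine c.ng ?_
    unfold Goal
    iterate 22 right
    exact ⟨this, (Nat.card_congr φ.toEquiv).trans Spor.MLy.card⟩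

theorem Ctx.not_prod (c : Ctx G) (hA : DS A) (hB : DS B) (hc : ∀ a ∈ A, ∀ b ∈ B, a * b = b * a) (hd : A ⊓ B = ⊥)
    (hS : c.S = A ⊔ B) : False := by
  have := c.simple
  obtain ⟨S, hS'⟩ := c.exists_sylow
  have h : Cfsg.IsInternalDirectProduct A B S := by
    rw [hS', hS]; exact ⟨le_sup_left, le_sup_right, hc, hd, rfl⟩
  rcases ds_cases hA with k₁ | ⟨t₁, _, r₁, s₁, b₁, H₁⟩ <;> rcases ds_cases hB with k₂ | ⟨t₂, _, r₂, s₂, b₂, H₂⟩
  · refine c.not_class_two fun u hu v hv r _ => ?_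
    obtain ⟨a, ha, b, hb, e⟩ := Inv.DD.exists_mul h (hS' ▸ hu)
    have := (e ▸ Inv.DD.mul_mem_Zc h (Inv.DD.mem_Zc_of_klein k₁ ha) (Inv.DD.mem_Zc_of_klein k₂ hb) :).2 v (hS' ▸ hv)
    rw [commutatorElement_eq_one_iff_mul_comm.2 this.symm, one_mul, mul_one]
  · obtain ⟨T, W, r, s, -, hW, -, -, c₂, -⟩ := Inv.DD.exists_split_of_klein H₂ b₂ k₁ (Inv.DD.idp_symm h) (noI c)
    exact not_klein c hW (hS' ▸ c₂)
  · obtain ⟨T, W, r, s, -, hW, -, -, c₂, -⟩ := Inv.DD.exists_split_of_klein H₁ b₁ k₂ h (noI c)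
    exact not_klein c hW (hS' ▸ c₂)
  · obtain ⟨T₁, T₂, r, s, r', s', H₁', H₂', h', c₁, c₂, -⟩ := Inv.DD.exists_split_of_mx H₁ H₂ b₁ b₂ h (noI c)
    have key : ∀ {T : Subgroup G} {t : ℕ} {k : R2 t} {r s : R2 t → G}, Inv.Fz.Mx T t k 0 r s → T ≠ ⊥ :=
      fun {T t k r s} H e => H.r_ne_s 0 0 ((mem_bot.1 (e ▸ (H.mem _).2 (.inl ⟨0, rfl⟩))).trans
        (mem_bot.1 (e ▸ (H.mem _).2 (.inr ⟨0, rfl⟩))).symm)
    have top : ∀ {T : Subgroup G}, T ≠ ⊥ → normalClosure (T : Set G) = ⊤ := fun {T} hT =>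
      (IsSimpleGroup.eq_bot_or_eq_top_of_normal _ inferInstance).resolve_left fun e =>
        hT (le_bot_iff.1 (e ▸ le_normalClosure))
    obtain ⟨-, -, f₃, f₄⟩ := Inv.DD.factor (Loc.GA.oddCore_eq_bot_of_simple S fun e =>
      key H₁' (le_bot_iff.1 (e ▸ h'.1))) S h' c₁ c₂
    rw [top (key H₁'), inf_top_eq] at f₃
    rw [top (key H₂'), inf_top_eq] at f₄
    exact key H₁' (by rw [← h'.2.2.2.1, ← f₃, ← f₄, inf_idem])

/-- A 2-group with a self-centralising four-group that is not central. -/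
theorem ds_of_four (hP : IsPGroup 2 P) (hV : El 4 V) (hle : V ≤ P) (hc : ∀ y ∈ P, Cz y V → y ∈ V) : DS P := by
  by_cases h : P ≤ V
  · exact .inl (le_antisymm hle h ▸ hV)
  have hna : ¬ IsMulCommutative P := fun k => h fun y hy => hc y hy fun r hr =>
    congrArg Subtype.val (k.is_comm.comm (⟨y, hy⟩ : P) ⟨r, hle hr⟩)
  have : Nontrivial P := (nontrivial_iff_ne_bot P).2 fun e => h (e ▸ bot_le)
  obtain ⟨⟨z, hz⟩, z1⟩ := (ne_bot_iff_exists_ne_one).1 ((nontrivial_iff_ne_bot _).1 hP.center_nontrivial)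
  have zc : ∀ y ∈ P, y * z = z * y := fun y hy => congrArg Subtype.val (mem_center_iff.1 hz ⟨y, hy⟩)
  have zV : (z : G) ∈ V := hc _ z.2 fun r hr => (zc r (hle hr)).symm
  obtain ⟨-, k2, k3⟩ := ext_elem (A := ⊥) (fun a ha => by rw [mem_bot.1 ha, one_mul]) (hV.sq _ zV)
    fun a ha => by rw [mem_bot.1 ha, one_mul, mul_one]
  have k4 := k3 fun e => z1 (Subtype.ext (Subtype.ext (mem_bot.1 e)))
  have k5 : ext ⊥ (z : G) ≤ V := ext_le.2 ⟨bot_le, zV⟩
  obtain ⟨v, hv, v1⟩ := SetLike.not_le_iff_exists.1 fun e : V ≤ ext ⊥ (z : G) => by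
    have := card_le_of_le e
    rw [hV.card, k4, card_bot] at this
    omega
  have k6 : ext (ext ⊥ (z : G)) v = V := eq_of_le_of_card_ge (ext_le.2 ⟨k5, hv⟩) (by
    rw [(ext_elem k2 (hV.sq v hv) fun a ha => comm_of_sq hV.sq hv (k5 ha)).2.2 v1, hV.card, k4, card_bot])
  have k7 : centralizer {(⟨v, hle hv⟩ : P)} = V.subgroupOf P := by
    ext y
    rw [mem_centralizer_singleton_iff, mem_subgroupOf]
    refine ⟨fun e => hc _ y.2 fun r hr => ?_, fun hy => Subtype.ext (comm_of_sq hV.sq hy hv)⟩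
    have : V ≤ centralizer {(y : G)} := k6 ▸ ext_le.2 ⟨ext_le.2 ⟨bot_le, mem_centralizer_singleton_iff.2 (zc _ y.2).symm⟩,
      mem_centralizer_singleton_iff.2 (congrArg Subtype.val e).symm⟩
    exact (mem_centralizer_singleton_iff.1 (this hr)).symm
  rcases S3224.result hP ⟨v, hle hv⟩ ((orderOf_mk _ _).trans (orderOf_eq_prime (by rw [pow_two, hV.sq v hv])
    fun e => v1 (e ▸ one_mem _))) (by rw [k7, Nat.card_congr (subgroupOfEquivOfLe hle).toEquiv, hV.card]) with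
    ⟨n, ⟨e⟩⟩ | h1 | h1
  · obtain ⟨m, a, b, -, h2, h3, h4⟩ := GT.PG.exists_maxTwo_of_dihedral' hP hna e
    exact mx_of h2 h3 (.inl h4)
  · obtain ⟨m, a, b, h5, h2, h3, h4⟩ := GT.PG.exists_maxTwo_of_isQuasiDihedral h1
    exact mx_of h2 h3 (.inr ⟨h5, h4⟩)
  · exact absurd (eq_of_le_of_card_ge hle (by rw [h1, hV.card])).ge h

end Cfsg.Agent.GHJ
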