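import Mathlib
import Cfsg.Agent.GHJ.Defs
import Cfsg.Agent.GHJ.Basic
import Cfsg.Agent.P4.Main
import Cfsg.Agent.P4.Syl
import Cfsg.Agent.S2918
import Cfsg.Agent.B15.U4c
import Cfsg.Agent.Gold.Basic
import Cfsg.Agent.Fus.SimpleQuot

/-! Sylow 2-subgroups of type PSp4(q). -/

set_option autoImplicit false
set_option linter.unusedSectionVars false

namespace Cfsg.Agent.GHJ

open Cfsg.Agent.Inv.Fz Cfsg.Agent.NE Subgroup
open scoped commutatorElement

variable {G : Type*} [Group G] [Finite G] {A : Subgroup G} {b : G} {n : ℕ}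

namespace HamP

theorem sy_of (c : Ctx G) {P : Type*} [Group P] {ι : P →* G} (hi : Function.Injective ι) (hr : ι.range = c.S) :
    P4.Sy ι ⊤ ⊤ := by
  obtain ⟨S, hS⟩ := c.exists_sylow
  exact ⟨hi, by rw [← MonoidHom.range_eq_map, hr, ← hS]; exact Loc.Mss.Syl.of_sylow S⟩

theorem not_ps (c : Ctx G) {k : ℕ} (e : P4.PS k ≃* c.S) : False := by
  have := c.simple
  let ι : P4.PS k →* G := c.S.subtype.comp e.toMonoidHom
  have hr : ι.range = c.S := by
    rw [MonoidHom.range_comp, MonoidHom.range_eq_top.2 e.surjective, ← MonoidHom.range_eq_map, range_subtype]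
  have h : P4.Sy ι ⊤ ⊤ := sy_of c ((subtype_injective c.S).comp e.injective) hr
  have z1 : ι (P4.PS.z k) ≠ 1 := fun e => P4.PS.z_ne_one (h.inj (e.trans (map_one ι).symm))
  have z2 : ι (P4.PS.z k) * ι (P4.PS.z k) = 1 := by rw [← map_mul, P4.PS.z_sq, map_one]
  have hO := Gold.oddCore_eq_bot_of_simple' z1 z2
  have hZ := Gold.center_eq_bot_of_simple c.nc
  have hG : pResidual 2 G = ⊤ := Fus.SC.pResidual_eq_top_of_simple fun e =>
    c.nc (isCyclic_of_prime_card e).isMulCommutative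
  have k1 : ¬ ∃ (F : Type) (_ : Field F) (_ : Fintype F), Odd (Fintype.card F) ∧ Nonempty (G ≃* Cfsg.PSp 2 F) :=
    fun h => c.ng (.inr (.inr (.inr (.inl h))))
  have k2 : ∀ n : ℕ, 8 ≤ n → n ≤ 11 → ¬ Nonempty (G ≃* alternatingGroup (Fin n)) := fun n h1 h2 h => c.ng (by
    unfold Goal
    iterate 14 right
    exact .inl ⟨n, h1, h2, h⟩)
  by_cases hk : 1 ≤ k ∨ ¬ Group.IsSolvable (GW.Cen (ι (P4.PS.z k)))
  · obtain ⟨N, hn, ho, F', _, _, hF', ⟨f⟩⟩ := P4.exists_normal_psp h hG hO hZ hk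
    rcases hn.eq_bot_or_eq_top with rfl | rfl
    · rw [index_bot] at ho
      exact ho.not_two_dvd_nat (orderOf_eq_prime (p := 2) (by rw [pow_two, z2]) z1 ▸ orderOf_dvd_natCard _)
    · exact k1 ⟨F', _, _, hF', ⟨Subgroup.topEquiv.symm.trans f⟩⟩
  rw [not_or, not_not] at hk
  obtain rfl : k = 0 := by omega
  obtain ⟨u⟩ := P4.ps_zero_ut4
  obtain ⟨S, hS⟩ := c.exists_sylow
  have h2 : pCore 2 G = ⊥ := by
    refine (inferInstance : (pCore 2 G).Normal).eq_bot_or_eq_top.resolve_right fun e => ?_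
    have h3 : IsPGroup 2 G := (e ▸ GT.isPGroup_pCore 2 : IsPGroup 2 (⊤ : Subgroup G)).of_equiv topEquiv
    have := h3.center_nontrivial
    rw [hZ] at this
    exact not_nontrivial _ this
  rcases S2918.result hG h2 hO S (fun P => (Inv.UT4.nonempty_sylow_equiv P).map fun f =>
    ((MulEquiv.subgroupCongr hS).trans e.symm).trans (u.trans f.symm)) (fun x hx hc ho => by
      obtain ⟨d, rfl⟩ := hr.ge (hS.le hx)
      rcases P4.PS.eq_of_central (g := d) fun t => h.inj (by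
        rw [map_mul, map_mul, hc _ (hS.ge (hr.le ⟨t, rfl⟩))]) with rfl | rfl
      exacts [by simp at ho, hk.2]) with a | a | ⟨F', _, _, a, b⟩
  exacts [k2 8 le_rfl (by norm_num) a, k2 9 (by norm_num) (by norm_num) a, k1 ⟨F', _, _, by rw [a]; decide, b⟩]

theorem mc_of {H : Subgroup G} {a : G} {k : ℕ} (hH : DQ H a b (k + 2)) (hb : b * b = zz a (k + 2)) :
    ∃ r s : R2 (k + 1) → G, Mc H (k + 1) (-1) (hh (k + 1)) r s := by
  have ha : a ∈ H := hH.eq ▸ subset_closure (by simp)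
  have hb' : b ∈ H := hH.eq ▸ subset_closure (by simp)
  have ho : orderOf (⟨a, ha⟩ : H) = 2 ^ (k + 1 + 1) := by rw [← hH.ord, ← Subgroup.orderOf_coe]
  have hi : (zpowers (⟨a, ha⟩ : H)).index = 2 := by
    have := (zpowers (⟨a, ha⟩ : H)).card_mul_index
    rw [Nat.card_zpowers, ho, hH.card, pow_succ 2 (k + 2)] at this
    exact Nat.eq_of_mul_eq_mul_left (by positivity) this
  obtain ⟨r, s, H', -, -⟩ := exists_mc (b := (⟨b, hb'⟩ : H)) (κ := -1) (μ := 2 ^ (k + 1)) ho hi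
    (fun ⟨m, hm⟩ => hH.not_mem ⟨m, congrArg Subtype.val hm⟩) (Subtype.ext (by simpa using hH.inv))
    (Subtype.ext (by
      have : ((2 : ℤ) ^ (k + 1)) = ((2 ^ (k + 1) : ℕ) : ℤ) := by simp
      rw [this, zpow_natCast, pow_two]
      exact hb))
  have := H'.map H.subtype (subtype_injective _)
  rw [← MonoidHom.range_eq_map, range_subtype] at this
  refine ⟨_, _, by convert this using 1 <;> simp [hh]⟩

theorem qq_iso {H : Subgroup G} {a t : G} {k : ℕ} (hH : DQ H a b (k + 2)) (hb : b * b = zz a (k + 2))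
    (ht : t * t = 1) (hc : ∀ u ∈ H, ∀ v ∈ cj t H, u * v = v * u) (hd : H ⊓ cj t H = zpowers (zz a (k + 2))) :
    Nonempty (P4.PS k ≃* ↥(H ⊔ cj t H ⊔ zpowers t)) := by
  obtain ⟨r, s, hm⟩ := mc_of hH hb
  obtain ⟨α, hi, hr⟩ := P4.exists_hom_of_mc (P4.mc_Q1 (k := k)) hm
  obtain ⟨ψ, p1, p2⟩ := P4.exists_wr_ps (P4.PS.Q1 k).subtype (subtype_injective _) (range_subtype _)
  have m1 : ∀ x, α x ∈ H := fun x => hr ▸ ⟨x, rfl⟩
  let β : P4.PS.Q1 k →* G := (MulAut.conj t).toMonoidHom.comp α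
  have hβ : ∀ x, β x = t * α x * t⁻¹ := fun _ => rfl
  have m2 : ∀ x, β x ∈ cj t H := fun x => conj_mem_cj.2 (m1 x)
  obtain ⟨z1, z2, -⟩ := hH.zz_ne
  set z := zz a (k + 2) with hz
  have zc : ∀ y ∈ zpowers z, y = 1 ∨ y = z := fun y hy => by
    obtain ⟨m, rfl⟩ := mem_zpowers_iff.1 hy
    rcases Int.even_or_odd' m with ⟨j, rfl | rfl⟩
    · left; rw [zpow_mul, zpow_two, z2, one_zpow]
    · right; rw [zpow_add, zpow_mul, zpow_two, z2, one_zpow, one_mul, zpow_one]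
  have zm : z ∈ H ⊓ cj t H := hd ▸ mem_zpowers z
  have tz : t * z * t⁻¹ = z := by
    have : t * z * t⁻¹ ∈ H ⊓ cj t H := ⟨by simpa [inv_of_sq ht] using mem_cj.1 zm.2, conj_mem_cj.2 zm.1⟩
    refine (zc _ (hd ▸ this)).resolve_left fun e => z1 ?_
    rwa [conj_eq_one_iff] at e
  have inv0 : ∀ y ∈ H, y * y = 1 → y = 1 ∨ y = r (hh _) := fun y hy h => by
    obtain ⟨i, rfl | rfl⟩ := hm.cases hy
    · rw [hm.rr, hm.r_eq_one, ← two_mul, two_mul_eq_zero] at h
      exact h.imp (fun e => by rw [e, hm.r_zero]) fun e => by rw [e]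
    · rw [hm.ss, hm.r_eq_one] at h
      exact absurd (by simpa using h) hh_ne_zero
  have inv : ∀ y ∈ H, y * y = 1 → y = 1 ∨ y = z := fun y hy h =>
    (inv0 y hy h).imp_right fun e => e.trans ((inv0 z zm.1 z2).resolve_left z1).symm
  let φ := P4.Wr.lift α β t ht (fun x y => hc _ (m1 x) _ (m2 y)) fun x => by rw [hβ, inv_mul_cancel_right]
  have hk : ∀ g, g ∈ φ.ker ↔ g.e = false ∧ g.a = g.b ∧ g.a * g.a = 1 := by
    refine P4.Wr.mem_ker (fun x y => ⟨fun h => ?_, ?_⟩) fun x y h => z1 ?_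
    · have e := eq_inv_of_mul_eq_one_left h
      have e2 : α y = t⁻¹ * (α x)⁻¹ * t := by rw [e, hβ]; group
      rw [← hi.eq_iff, ← hi.eq_iff, map_mul, map_one]
      rcases zc _ (hd.le (mem_inf.2 ⟨m1 x, e ▸ inv_mem (m2 y)⟩)) with e1 | e1
      · simp [e2, e1]
      · rw [e2, e1, inv_of_sq z2]
        refine ⟨?_, z2⟩
        nth_rewrite 2 [← tz]
        group
    · rintro ⟨rfl, h⟩
      rcases inv _ (m1 x) (by rw [← map_mul, h, map_one]) with e | e
      · simp [hβ, e]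
      · rw [hβ, e, tz, z2]
    · have hb' : b ∈ H := hH.eq ▸ subset_closure (by simp)
      have e : t = α x * β y := by rw [← inv_of_sq ht]; exact (eq_inv_of_mul_eq_one_left h).symm
      have e1 : t * b * t⁻¹ = α x * b * (α x)⁻¹ := by
        rw [e, ← conj_conj, conj_eq_of_comm (hc _ hb' _ (m2 y)).symm]
      have e2 : t * b * t⁻¹ * (t * b * t⁻¹) = 1 := by
        rcases zc _ (hd.le (mem_inf.2
          ⟨e1 ▸ mul_mem (mul_mem (m1 x) hb') (inv_mem (m1 x)), conj_mem_cj.2 hb'⟩)) with e | e <;>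
          simp [e, z2]
      rwa [← conj_mul', hb, tz] at e2
  have hφ : φ.range = H ⊔ cj t H ⊔ zpowers t := by
    refine le_antisymm ?_ (sup_le (sup_le ?_ (cj_le_iff.2 ?_)) (zpowers_le.2 ⟨⟨1, 1, true⟩, ?_⟩))
    · rintro _ ⟨⟨x, y, e⟩, rfl⟩
      refine mul_mem (mem_sup_left (mul_mem (mem_sup_left (m1 x)) (mem_sup_right (m2 y)))) (mem_sup_right ?_)
      cases e
      exacts [one_mem _, mem_zpowers t]
    · rw [← hr]
      rintro _ ⟨x, rfl⟩
      exact ⟨⟨x, 1, false⟩, by simp [φ, P4.Wr.lift_apply]⟩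
    · rw [← hr]
      rintro _ ⟨x, rfl⟩
      exact ⟨⟨1, x, false⟩, by simp [φ, P4.Wr.lift_apply, hβ]⟩
    · simp [φ, P4.Wr.lift_apply]
  obtain ⟨e⟩ := P4.Wr.nonempty_range ψ φ (Subgroup.ext fun g => (p2 g).trans (hk g).symm)
  exact ⟨(topEquiv.symm.trans (MulEquiv.subgroupCongr p1.symm)).trans (e.trans (MulEquiv.subgroupCongr hφ))⟩

open B15.U4c in
theorem ut4_iso {T : Type*} [Group T] [Finite T] (hT : Nat.card T = 64) {A : Subgroup T} [A.Normal]
    (hA : El 16 A) (h2 : ∀ y, y * y ∈ A) {t u v : T} (hv : v ∈ A) (hf : ⁅t, ⁅u, v⁆⁆ ≠ 1) :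
    Nonempty (Inv.UT4 ≃* T) := by
  have h4 : Nat.card (T ⧸ A) = 4 := by
    have := A.card_mul_index
    rw [hA.card, hT, index_eq_card] at this
    omega
  let q : (T ⧸ A) ≃ Fin 4 := Finite.equivFinOfCardEq h4
  let π : T →* Equiv.Perm (Fin 4) := q.permCongrHom.toMonoidHom.comp (MulAction.toPermHom T (T ⧸ A))
  have hπ0 : ∀ s g : T, π s (q g) = q (s * g : T) := fun s g => by simp [π]
  let e : Fin 4 → T := fun i => (q.symm i).out * v * (q.symm i).out⁻¹
  have he : ∀ g : T, e (q g) = g * v * g⁻¹ := fun g => by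
    obtain ⟨a, ha⟩ := QuotientGroup.mk_out_eq_mul A g
    simp only [e, Equiv.symm_apply_apply, ha]
    rw [← conj_conj, conj_eq_of_comm (comm_of_sq hA.sq a.2 hv)]
  have hq : ∀ i, ∃ g : T, q g = i := fun i => ⟨(q.symm i).out, by simp⟩
  have hπ : ∀ s i, s * e i * s⁻¹ = e (π s i) := fun s i => by
    obtain ⟨g, rfl⟩ := hq i
    rw [hπ0, he, he, conj_conj]
  have eA : ∀ i, e i ∈ A := fun i => Normal.conj_mem ‹_› _ hv _
  have hsq : ∀ i, e i * e i = 1 := fun i => hA.sq _ (eA i)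
  have hcm : ∀ i j, e i * e j = e j * e i := fun i j => comm_of_sq hA.sq (eA i) (eA j)
  have fx : ∀ s i, π s i = i ↔ s ∈ A := fun s i => by
    obtain ⟨g, rfl⟩ := hq i
    rw [hπ0, q.injective.eq_iff, eq_comm, QuotientGroup.eq, ← mul_assoc]
    exact Normal.mem_comm_iff ‹_› |>.trans (by simp)
  have one : ∀ s, π s = 1 ↔ s ∈ A := fun s =>
    ⟨fun h => (fx s 0).1 (by rw [h]; rfl), fun h => Equiv.ext fun i => (fx s i).2 h⟩
  have hV : ∀ s, π s ∈ [1, s1, s2, s1 * s2] := fun s => by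
    have h1 : π s * π s = 1 := by rw [← map_mul, one]; exact h2 s
    have h3 : π s = 1 ∨ ∀ i, π s i ≠ i := by
      by_cases h : s ∈ A
      exacts [.inl ((one s).2 h), .inr fun i e => h ((fx s i).1 e)]
    generalize π s = σ at h1 h3
    revert σ
    decide +kernel
  have hle : closure (Set.range e) ≤ A := (closure_le _).2 (by rintro _ ⟨i, rfl⟩; exact eA i)
  have wA : ∀ m, wb e m ∈ A := fun m => hle (wb_mem m)
  have cm : ∀ s m, ⁅s, wb e m⁆ = wb e (m ∘ π s + m) := fun s m => by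
    have h1 : wb e (m ∘ π s) * s = s * wb e m := by
      rw [wb_conj hsq hcm hπ, Function.comp_assoc, ← Equiv.Perm.coe_mul, ← map_mul, (one _).2 (h2 s)]
      rfl
    rw [commutatorElement_def, ← h1, wb_add hsq hcm, inv_of_sq (hA.sq _ (wA m)), mul_inv_cancel_right]
  have hinj : Function.Injective (wb e) := fun m m' h => by
    have h0 : wb e (m + m') = 1 := by rw [wb_add hsq hcm, h, hA.sq _ (wA _)]
    have hv' : v = wb e (Pi.single (q (1 : T)) 1) := by rw [wb_single, pw_one, he]; simp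
    rw [hv', cm, cm] at hf
    have k1 : ∀ s m, wb e m = 1 → wb e (m ∘ π s + m) = 1 := fun s m h => by
      rw [← cm, h, commutatorElement_one_right]
    have key : ∀ a ∈ [1, s1, s2, s1 * s2], ∀ b ∈ [1, s1, s2, s1 * s2], ∀ (i : Fin 4) (m w : Fin 4 → ZMod 2),
        w = (Pi.single i 1 ∘ b + Pi.single i 1 : Fin 4 → ZMod 2) ∘ a + (Pi.single i 1 ∘ b + Pi.single i 1) →
        m = 0 ∨ w = 0 ∨ w = m ∨ w = m ∘ a + m ∨ w = m ∘ b + m ∨ w = m ∘ (a * b) + m ∨
          w = (m ∘ b + m) ∘ a + (m ∘ b + m) := by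
      simp only [forall_eq]
      decide +kernel
    rcases key _ (hV t) _ (hV u) _ (m + m') _ rfl with h | h | h | h | h | h | h
    · exact (CharTwo.add_eq_zero).1 h
    all_goals rw [h] at hf; refine absurd ?_ hf
    exacts [wb_zero e, h0, k1 _ _ h0, k1 _ _ h0, map_mul π t u ▸ k1 _ _ h0, k1 _ _ (k1 _ _ h0)]
  have hE : closure (Set.range e) = A := by
    refine eq_of_le_of_card_ge hle ?_
    have := Nat.card_le_card_of_injective (fun m => (⟨wb e m, wb_mem m⟩ : closure (Set.range e)))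
      fun m m' h => hinj (congrArg Subtype.val h)
    simpa [hA.card] using this
  refine B15.nonempty_ut4 hT e hsq hcm (hE ▸ hA.card) π hπ (hE ▸ Subgroup.ext one) fun s => ?_
  have := hV s
  generalize π s = σ at this
  revert σ
  decide +kernel

end HamP

end Cfsg.Agent.GHJ
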