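import Mathlib
import Cfsg.Agent.GHJ.Defs
import Cfsg.Agent.GHJ.UP
import Cfsg.Agent.GHJ.Gam
import Cfsg.Agent.GHJ.U
import Cfsg.Agent.GHJ.E3d

/-! Triples whose critical subgroup has index two in a proper subgroup of S. See `stubs/Cfsg/Agent/GHJ/PLAN.md`. -/

set_option autoImplicit false
set_option linter.unusedSectionVars false

namespace Cfsg.Agent.GHJ

open Cfsg.Agent.Inv.Fz Cfsg.Agent.NE Subgroup
open scoped commutatorElement

namespace E3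

variable {G : Type*} [Group G] [Finite G] {S R T N : Subgroup G} {x s y t g : G} {π : G → W} {φ α : W → W}

/-- The Frattini argument for `T ⟨g⟩`. -/
theorem Co.fratt_ext (c : Co T N π) (hs : IsSylIn 2 T c.kr) (hS : IsPGroup 2 S) (hT : T ≤ S) (hy : y ∈ S)
    (ky : Ac T π y φ) (k : Ac T π g α) (e : ∀ u, α (φ u) = φ (α u)) :
    ∃ a ∈ normalizer (ext T y : Set G), Ac T π a α :=
  c.fratt hs (hS.to_le (ext_le.2 ⟨hT, hy⟩)) (le_ext _ _) (ext_le.2 ⟨c.le_kr.trans le_normalizer, c.norm_kr ky⟩) k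
    (cj_le_iff.1 (by
      rw [cj_ext, cj_eq_iff.2 k.1]
      exact ext_le.2 ⟨(le_ext _ _).trans le_sup_left, c.conj_mem_sup k ky ky e (self_mem_ext _ _)⟩))

theorem Co.not_mem (c : Co T N π) (k : Ac T π g φ) (e : cnt φ = 2) : g ∉ T := fun h => by
  rw [show φ = fun u => u from funext (c.uniq k (c.ac_in h))] at e
  exact absurd e (by decide +kernel)

namespace Cf
variable (h : Cf S R x s y t) (hS : IsPGroup 2 S) (h4 : Rk 16 S) (hs : IsSylIn 2 S ⊤) {w w' v : W}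
  (F : Fr R x y t π w w' v)
include h hS h4 F

theorem kx₂ : Ac (supp R x) π (y * x * y⁻¹) (cn (ξ w w') (η v)) := (F.ky.mul F.kx).mul (F.ky.inv F.f4)

theorem kσ : Ac (supp R x) π (y * t * y⁻¹ * t) σ := F.k1.mul F.k2

theorem σP : y * t * y⁻¹ * t ∈ S ⊓ normalizer (R : Set G) := mul_mem h.t1P (h.RP h.tR')

include hs

theorem comm_case {α β : W → W} (kα : Ac (supp R x) π (x * (y * x * y⁻¹)) α)
    (kβ : Ac (supp R x) π (x * (y * x * y⁻¹ * (y * x * y⁻¹))) β) (m : Cm α β (ξ w w') (η v)) :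
    ∃ a b Ra Rb, BD S R x a b Ra Rb := by
  obtain ⟨m1, m2, m3, m4, m5, m6, m7⟩ := m
  have c := F.co
  have TS := h.TR.trans h.t2.crit.le
  have σP := h.σP hS h4 F
  have ky' := F.ky.mul (h.kσ hS h4 F)
  set y' := y * (y * t * y⁻¹ * t) with hy'
  have y'S : y' ∈ S := mul_mem h.yS σP.1
  have yy' : y' * y' ∈ supp R x := h.PK hS h4 F (by
    convert mul_mem (mul_mem ((conj_mem_norm h.yP).2 σP) (h.RP h.yy)) σP using 1
    rw [hy']; group) (c.mem_kr.2 ((ky'.mul ky').congr fun u => by rw [ησ, ησ, ησ, σσ, F.f4]))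
  obtain ⟨a, an, ka⟩ := c.fratt_ext (h.syl hS h4 F hs) hS TS h.yS F.ky kα m1
  obtain ⟨b, bn, kb⟩ := c.fratt_ext (h.syl hS h4 F hs) hS TS y'S ky' kβ m2
  have cR := (h.ixR hS h4).card h.TR h.tR' h.tT
  have cA := card_ext h.yT h.yyT (c.not_mem F.ky m6)
  have cB := card_ext ky'.1 yy' (c.not_mem ky' m7)
  refine ⟨a, b, ext (supp R x) y, ext (supp R x) y', by rw [cR, h.card_der hS h4 F, h.card]; ring, le_ext _ _, le_ext _ _,
    ext_le.2 ⟨TS, h.yS⟩, ext_le.2 ⟨TS, y'S⟩, an, bn, ka.1, kb.1, by rw [cA, cR], by rw [cB, cR],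
    by rw [cA, c.der F.ky h.yyT h.der fun _ => mem_ext h.yT h.yyT, m6, h.card]; ring,
    by rw [cB, c.der ky' yy' h.der fun _ => mem_ext ky'.1 yy', m7, h.card]; ring, ?_, ?_, fun X hX xa _ => ?_⟩
  · have km := (ka.mul kb).mul (ka.mul kb)
    obtain ⟨e, he, k⟩ := h.kr_le hS h4 F hs (c.mem_kr_of (km.congr m3) F.kx)
    refine ⟨_, km.mem (inv_mem he), ?_⟩
    convert k using 1; group
  · have hY : supp (supp R x) a ⊔ supp (supp R x) b ≤ supp R x := sup_le (supp_le ka.1) (supp_le kb.1)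
    refine le_of_sup_phi h.pT hY (c.le_sup hY fun u => ?_)
    obtain ⟨p, hp, e1⟩ := c.surj (α u)
    obtain ⟨q, hq, e2⟩ := c.surj (β u)
    exact ⟨_, mul_mem (mem_sup_left (comm_mem_supp hp).1) (mem_sup_right (comm_mem_supp hq).1), by
      rw [c.mul _ (c.comm ka hp).1 _ (c.comm kb hq).1, (c.comm ka hp).2, (c.comm kb hq).2, e1, e2, ← m4]⟩
  · refine or_iff_not_imp_left.2 fun k => ?_
    obtain ⟨r, hr, rn⟩ := SetLike.not_le_iff_exists.1 k
    have kr := c.ac_of F.k2 τ2τ2 ((h.ixR hS h4 r hr.2).resolve_left rn)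
    have cx : ∀ p ∈ supp R x, ⁅r, p⁆ ∈ X := fun p hp => by
      simpa [commutatorElement_def, mul_assoc] using
        mul_mem hr.1 ((conj_mem_norm (hX (h.TR hp))).2 (inv_mem hr.1))
    refine (le_of_sup_phi h.pT inf_le_left (c.le_sup (Y := supp R x ⊓ X) inf_le_left fun u => ?_)).trans inf_le_right
    obtain ⟨p, q, e⟩ := m5 u
    obtain ⟨p, hp, rfl⟩ := c.surj p
    obtain ⟨q, hq, rfl⟩ := c.surj q
    have h1 := c.comm kr hp
    have h2 := c.comm kr hq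
    exact ⟨_, mul_mem ⟨h1.1, cx p hp⟩ ⟨ka.mem h2.1, xa _ h2.1 (cx q hq)⟩, by
      rw [c.mul _ h1.1 _ (ka.mem h2.1), ka.2 _ h2.1, h1.2, h2.2, ← e]⟩

omit hs in
/-- In the transitive case `T` is elementary abelian and its involutions are conjugate. -/
theorem s5_el (m : ∀ u, u ≠ 1 → u ∈ orb (ξ w w') (cn (ξ w w') (η v)) 8) :
    phi (supp R x) = ⊥ ∧ ∀ a ∈ supp R x, ∀ b ∈ supp R x, a ≠ 1 → b ≠ 1 → IsConj a b := by
  have c := F.co
  have hc : ∀ a ∈ supp R x, ∀ n ∈ phi (supp R x), a * n = n * a := fun a ha n hn =>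
    commutatorElement_eq_one_iff_mul_comm.1 (mem_bot.1 (supp_triv h.t2.tri.xn (fun _ hr => norm_phi (le_norm_supp hr))
      (fun _ _ => norm_of_cz fun _ e => by rw [mem_bot.1 e]; simp) bot_le (fun n hn =>
        mem_bot.2 (commutatorElement_eq_one_iff_mul_comm.2 (h.xN n hn))) a ha n hn))
  let Ω : Subgroup G :=
    { carrier := {z | z ∈ phi (supp R x) ∧ z * z = 1}
      mul_mem' := by
        rintro a b ⟨ha, a2⟩ ⟨hb, b2⟩
        refine ⟨mul_mem ha hb, ?_⟩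
        rw [mul_assoc, ← mul_assoc b, hc b (phi_le hb) a ha, mul_assoc, b2, mul_one, a2]
      one_mem' := ⟨one_mem _, mul_one _⟩
      inv_mem' := by
        rintro a ⟨ha, a2⟩
        exact ⟨inv_mem ha, by rw [← mul_inv_rev, a2, inv_one]⟩ }
  have N2 : ∀ n ∈ phi (supp R x), n * n = 1 := fun n hn =>
    ((commutator_le.2 fun a ha b hb => ⟨comm_mem_phi ha hb, by
      have e1 := hc a ha _ (comm_mem_phi ha hb)
      have e2 := hc b hb _ (mem_phi ha)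
      rw [commutatorElement_def] at e1 ⊢
      calc a * b * a⁻¹ * b⁻¹ * (a * b * a⁻¹ * b⁻¹) = a * b * a⁻¹ * b⁻¹ * a * (b * a⁻¹ * b⁻¹) := by group
        _ = a * a * b * (a * a)⁻¹ * b⁻¹ := by rw [← e1]; group
        _ = 1 := by rw [← e2]; group⟩ : ⁅supp R x, supp R x⁆ ≤ Ω) (h.der hn)).2
  obtain ⟨a₀, ha₀, e₀⟩ := c.surj e0
  have step : ∀ {g φ}, Ac (supp R x) π g φ → Cz g (phi (supp R x)) → ∀ u,
      (∃ a ∈ supp R x, π a = u ∧ a * a = a₀ * a₀ ∧ IsConj a₀ a) →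
      ∃ a ∈ supp R x, π a = φ u ∧ a * a = a₀ * a₀ ∧ IsConj a₀ a := by
    rintro g φ k cz _ ⟨a, ha, rfl, e1, e2⟩
    exact ⟨_, k.mem ha, k.2 a ha, by rw [← conj_mul', conj_eq_of_comm (cz _ (mem_phi ha)), e1],
      e2.trans (isConj_iff.2 ⟨g, rfl⟩)⟩
  have orbit : ∀ b ∈ supp R x, π b ≠ 1 → ∃ a ∈ supp R x, a⁻¹ * b ∈ phi (supp R x) ∧ a * a = a₀ * a₀ ∧ IsConj a₀ a :=
    fun b hb e => by
      obtain ⟨a, ha, e1, e2⟩ := orb_ind (P := fun u => ∃ a ∈ supp R x, π a = u ∧ a * a = a₀ * a₀ ∧ IsConj a₀ a)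
        ⟨a₀, ha₀, e₀, rfl, IsConj.refl _⟩ (step F.kx h.xN) (step (h.kx₂ hS h4 F) fun n hn => by
          simpa [mul_assoc] using conj_comm y (h.xN _ ((conj_mem_norm (inv_mem (norm_phi h.yT))).2 hn))) 8 _ (m _ e)
      exact ⟨a, ha, (c.eq_iff ha hb).1 e1, e2⟩
  have sq : ∀ b ∈ supp R x, π b ≠ 1 → b * b = a₀ * a₀ := fun b hb e => by
    obtain ⟨a, ha, e1, e2, -⟩ := orbit b hb e
    obtain ⟨n, rfl⟩ : ∃ n, b = a * n := ⟨a⁻¹ * b, by group⟩
    rw [inv_mul_cancel_left] at e1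
    rw [mul_assoc, ← mul_assoc n, ← hc a ha n e1, mul_assoc, N2 n e1, mul_one, e2]
  have key : ∀ b ∈ supp R x, π b ≠ 1 → e0 * π b ≠ 1 → b * a₀ * b⁻¹ = a₀ * (a₀ * a₀)⁻¹ := fun b hb e1 e2 => by
    have := sq _ (mul_mem ha₀ hb) (by rwa [c.mul _ ha₀ _ hb, e₀])
    rw [← sq b hb e1]
    calc b * a₀ * b⁻¹ = a₀⁻¹ * (a₀ * b * (a₀ * b)) * (b * b)⁻¹ := by group
      _ = _ := by rw [this]; group
  have c1 : a₀ * a₀ = 1 := by
    obtain ⟨b, hb, e1⟩ := c.surj e1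
    obtain ⟨d, hd, e2⟩ := c.surj e2
    have k := key _ (mul_mem hb hd) (by rw [c.mul _ hb _ hd, e1, e2]; decide) (by rw [c.mul _ hb _ hd, e1, e2]; decide)
    rw [← conj_conj, key d hd (by rw [e2]; decide) (by rw [e2]; decide), conj_mul',
      key b hb (by rw [e1]; decide) (by rw [e1]; decide), conj_eq_of_comm (hc b hb _ (inv_mem (mem_phi ha₀)))] at k
    exact inv_eq_one.1 (mul_eq_left.1 k)
  have e : phi (supp R x) = ⊥ := le_bot_iff.1 (phi_le_iff.2 fun b hb => mem_bot.2 (by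
    by_cases k : π b = 1
    exacts [N2 b ((c.ker b hb).1 k), (sq b hb k).trans c1]))
  have cj0 : ∀ b ∈ supp R x, b ≠ 1 → IsConj a₀ b := fun b hb k => by
    obtain ⟨a, -, e1, -, e2⟩ := orbit b hb fun e1 => k (mem_bot.1 (e ▸ (c.ker b hb).1 e1))
    rw [e, mem_bot, inv_mul_eq_one] at e1
    rwa [← e1]
  exact ⟨e, fun a ha b hb k1 k2 => (cj0 a ha k1).symm.trans (cj0 b hb k2)⟩

theorem s5_case {ρ : W → W} (kρ : Ac (supp R x) π g ρ) (m : S5 (ξ w w') (cn (ξ w w') (η v)) ρ (η v)) :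
    ∃ B U, L34 S (supp R x) B U ∧ ∀ u ∈ U, ∀ v ∈ U, u ≠ 1 → v ≠ 1 → IsConj u v := by
  obtain ⟨m1, m2, m3, m4, m5, m6, m7, m8⟩ := m
  obtain ⟨eN, fus⟩ := h.s5_el hS h4 F m1
  have c := F.co
  have TS := h.TR.trans h.t2.crit.le
  have σP := h.σP hS h4 F
  have kσ := h.kσ hS h4 F
  generalize y * t * y⁻¹ * t = e at σP kσ
  have ee : e * e ∈ supp R x := h.PK hS h4 F (mul_mem σP σP) (c.mem_kr.2 (kσ.mul kσ))
  have en : e ∉ supp R x := fun k => absurd (c.uniq kσ (c.ac_in k) e0) (by decide)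
  have m0 := fun g => mem_ext (g := g) kσ.1 ee
  have yn : y ∈ normalizer (ext (supp R x) e : Set G) := by
    rw [← cj_eq_iff]
    refine cj_eq_of_le ?_
    rw [cj_ext, cj_eq_iff.2 h.yT]
    exact ext_le.2 ⟨le_ext _ _, (m0 _).2 (.inr (h.PK hS h4 F (mul_mem σP ((conj_mem_norm h.yP).2 σP))
      (c.mem_kr.2 ((kσ.mul ((F.ky.mul kσ).mul (F.ky.inv F.f4))).congr fun u => by rw [ησ, σσ, F.f4]))))⟩
  have yy := le_ext _ e h.yyT
  have c1 : Nat.card (phi (supp R x)) = 1 := by rw [eN, card_bot]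
  have cT : Nat.card (supp R x) = 16 := by rw [h.card, c1]
  have kσy := kσ.mul F.ky
  have TH : supp R x ≤ ext (ext (supp R x) e) y := (le_ext _ _).trans (le_ext _ _)
  have eH : e ∈ ext (ext (supp R x) e) y := le_ext _ _ (self_mem_ext _ _)
  have yH : y ∈ ext (ext (supp R x) e) y := self_mem_ext _ _
  have HS : ext (ext (supp R x) e) y ≤ S := ext_le.2 ⟨ext_le.2 ⟨TS, σP.1⟩, h.yS⟩
  have cH : Nat.card (ext (ext (supp R x) e) y) = 64 := by
    rw [card_ext yn yy fun k => h.yR (ext_le.2 ⟨h.TR.trans h.RP, σP⟩ k).2, card_ext kσ.1 ee en, cT]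
  have Hk : ext (ext (supp R x) e) y ≤ normalizer (c.kr : Set G) :=
    ext_le.2 ⟨ext_le.2 ⟨c.le_kr.trans le_normalizer, c.norm_kr kσ⟩, c.norm_kr F.ky⟩
  have σy : ∀ u, σ (η v (σ (η v u))) = u := fun u => by rw [ησ, σσ, F.f4]
  have cs : ∀ a ∈ ext (ext (supp R x) e) y, a ∈ supp R x ∨ Ac (supp R x) π a σ ∨ Ac (supp R x) π a (η v) ∨
      Ac (supp R x) π a fun u => σ (η v u) := fun a ha => by
    rcases (mem_ext yn yy).1 ha with k | k <;> rcases (m0 _).1 k with k | k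
    exacts [.inl k, .inr (.inl (c.ac_of kσ σσ k)), .inr (.inr (.inl (c.ac_of F.ky F.f4 k))),
      .inr (.inr (.inr (c.ac_of kσy σy (by rwa [mul_assoc]))))]
  have inn : ∀ {a φ}, Ac (supp R x) π a φ → In (η v) (fun u => ρ (φ u)) ρ →
      g * a * g⁻¹ ∈ ext (ext (supp R x) e) y ⊔ c.kr := fun k i => by
    rcases i with i | i | i
    exacts [c.conj_mem_sup kρ k kσ i eH, c.conj_mem_sup kρ k F.ky i yH, c.conj_mem_sup kρ k kσy i (mul_mem eH yH)]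
  obtain ⟨r, rn, kr⟩ := c.fratt (h.syl hS h4 F hs) (hS.to_le HS) TH Hk kρ (cj_le_iff.1 (by
    rw [cj_ext, cj_ext, cj_eq_iff.2 kρ.1]
    exact ext_le.2 ⟨ext_le.2 ⟨TH.trans le_sup_left, inn kσ m6⟩, inn F.ky m7⟩))
  let U : Subgroup G :=
    { carrier := {a | a ∈ supp R x ∧ σ (π a) = π a}
      mul_mem' := by
        rintro a b ⟨ha, e1⟩ ⟨hb, e2⟩
        exact ⟨mul_mem ha hb, by rw [c.mul _ ha _ hb, c.hom kσ, e1, e2]⟩
      one_mem' := ⟨one_mem _, by rw [c.one]; rfl⟩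
      inv_mem' := by
        rintro a ⟨ha, e1⟩
        exact ⟨inv_mem ha, by rw [c.inv ha, e1]⟩ }
  have UT : U ≤ supp R x := fun _ k => k.1
  have T2 : ∀ a ∈ supp R x, a * a = 1 := fun a ha => mem_bot.1 (eN ▸ mem_phi ha)
  have cU : Nat.card U = 4 := by
    rw [c.card (K := U) (P := fun u => σ u = u) (by rw [eN]; exact bot_le) UT fun u => ⟨fun k => by
      obtain ⟨a, ha, rfl⟩ := c.surj u
      exact ⟨a, ⟨ha, k⟩, rfl⟩, by rintro ⟨a, ha, rfl⟩; exact ha.2⟩, c1]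
    decide +kernel
  have cU' : ∀ {a φ}, Ac (supp R x) π a φ → (∀ u, σ (φ u * u) = φ u * u) → ∀ b ∈ supp R x, ⁅a, b⁆ ∈ U :=
    fun k e b hb => ⟨(c.comm k hb).1, by rw [(c.comm k hb).2, e]⟩
  have fx : ∀ {a φ}, Ac (supp R x) π a φ → ∀ b ∈ supp R x, a * b = b * a → φ (π b) = π b := fun k b hb e => by
    rw [← k.2 b hb, conj_eq_of_comm e]
  refine (fpf64 (U := U) HS ⟨cT, T2⟩ ⟨cU, fun a ha => T2 a ha.1⟩ UT TH cH (fun a ha => ?_)
    (fun a ha => ?_) (fun a ha b hb e => ?_) rn kr.1 fun a ha k => ⟨ha, m8 _ ((c.comm kr ha).2 ▸ k.2)⟩).elim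
    fun B l => ⟨B, U, l.2, fun a ha b hb => fus a ha.1 b hb.1⟩
  · refine ((h.syl hS h4 F hs).eq_of_le ((hS.to_le HS).to_inf_left (K := c.kr)) inf_le_right
      (le_inf TH c.le_kr)).le ⟨mul_mem ha ha, c.mem_kr.2 ?_⟩
    rcases cs a ha with k | k | k | k
    exacts [c.ac_in (mul_mem k k), k.mul k, (k.mul k).congr F.f4, (k.mul k).congr σy]
  · rcases cs a ha with k | k | k | k
    exacts [cU' (c.ac_in k) (by decide +kernel), cU' k (by decide +kernel), cU' k m2, cU' k m3]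
  · rcases cs a ha with k | k | k | k
    exacts [.inl k, .inr ⟨hb, fx k b hb e⟩, .inr ⟨hb, m4 _ (fx k b hb e)⟩, .inr ⟨hb, m5 _ (fx k b hb e)⟩]

end Cf

end E3

variable {G : Type*} [Group G] [Finite G] {S P R K L N T V A B U : Subgroup G} {x s g b : G} {n : ℕ}

theorem Ctx.e3 (c : Ctx G) (h : T2 c.S R x s) :
    Bas c.S R x s ∨ ∃ a b Ra Rb, BD c.S R x a b Ra Rb := by
  refine (E3.exists_cf h c.pS c.r4).imp id fun ⟨y, t, k⟩ => ?_
  obtain ⟨π, w, w', v, F⟩ := k.exists_fr c.pS c.r4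
  have k2 := k.kx₂ c.pS c.r4 F
  rcases E3.fin w w' F.f1 F.f2 F.f3 v F.f4 with m | m
  · exact k.comm_case c.pS c.r4 c.syl F (F.kx.mul k2) (F.kx.mul (k2.mul k2)) m
  · obtain ⟨B, U, l, f⟩ := k.s5_case c.pS c.r4 c.syl F (k2.mul (F.kx.mul (k2.mul k2))) m
    exact (c.not_l34 l f).elim

end Cfsg.Agent.GHJ
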