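import Mathlib
import Cfsg.Agent.GHJ.Defs
import Cfsg.Agent.SR4.Frame
import Cfsg.Agent.Inv.BenderRed

/-! Critical subgroups of index at least four in their normaliser: the notions.
See `stubs/Cfsg/Agent/GHJ/PLAN_CI.md`. -/

set_option autoImplicit false
set_option linter.unusedSectionVars false

namespace Cfsg.Agent.GHJ

open Cfsg.Agent.Inv.Fz Cfsg.Agent.NE Subgroup
open scoped commutatorElement

universe u

/-- `X` is the normaliser of the critical subgroup `T` modulo its odd core. -/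
structure Fr0 {G X : Type u} [Group G] [Group X] (T : Subgroup G) (f : normalizer (T : Set G) →* X) : Prop where
  surj : Function.Surjective f
  odd : (Nat.card f.ker).Coprime 2
  pT : IsPGroup 2 T
  core : (T.subgroupOf (normalizer (T : Set G))).map f = pCore 2 X
  con : IsPConstrained 2 X
  oX : oddCore X = ⊥
  h4 : SectionalPRankLE 2 4 X
  cz : ∀ g : normalizer (T : Set G), f g = 1 → Cz (g : G) T
  se : ∃ M : Subgroup (X ⧸ pCore 2 X), Inv.SE.StrEmb 2 M

/-- What the strongly embedded subgroup gives when `X / O₂(X)` contains a four-group. -/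
structure FA (X : Type u) [Group X] : Prop where
  conj : ∀ s t : X ⧸ pCore 2 X, orderOf s = 2 → orderOf t = 2 → IsConj s t
  cen : ∀ T : Subgroup (X ⧸ pCore 2 X), IsPGroup 2 T → ∀ a ∈ T, a * a = 1 → ∀ y ∈ T, a * y = y * a
  a5 : ∃ A : Subgroup (X ⧸ pCore 2 X), Nonempty (A ≃* alternatingGroup (Fin 5))

variable {G : Type*} [Group G]

/-- `P / R` has one involution, the class of `c ^ 2`, and it inverts `a`. -/
structure Cy (P R : Subgroup G) (c a : G) : Prop where
  p : IsPGroup 2 P
  r4 : Rk 16 P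
  le : R ≤ P
  nm : P ≤ normalizer (R : Set G)
  mem : c ∈ P
  uq : ∀ g ∈ P, g * g ∈ R → g ∈ R ∨ c * c * g ∈ R
  tri : Tri R a (c * c)
  typ : Cz (a ^ 5) R ∨ (Cz (a ^ 3) R ∧ Cz ⁅a, c * a * c⁻¹⁆ R)

end Cfsg.Agent.GHJ
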