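import Mathlib
import Cfsg.Agent.GHJ.CIDefs
import Cfsg.Agent.GHJ.Basic

/-! Uniqueness of an elementary abelian section of order 16 under a free four-group. See `stubs/Cfsg/Agent/GHJ/PLAN_CI.md`. -/

set_option autoImplicit false
set_option linter.unusedSectionVars false

namespace Cfsg.Agent.GHJ

open Cfsg.Agent.Inv.Fz Cfsg.Agent.NE Subgroup
open scoped commutatorElement

variable {G : Type*} [Group G] [Finite G] {P A B L : Subgroup G}

theorem uniq16 (hA : A ≤ P) (hn : P ≤ normalizer (A : Set G)) (cP : Nat.card P = 4 * Nat.card A)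
    (hL : L ≤ A) (nL : P ≤ normalizer (L : Set G)) (cA : Nat.card A = 16 * Nat.card L)
    (f1 : ∀ t ∈ P, t ∉ A → ∀ K ≤ A, (∀ k ∈ K, ⁅t, k⁆ ∈ L) → Nat.card K ≤ 4 * Nat.card L)
    (f2 : ∀ K ≤ A, (∀ t ∈ P, ∀ k ∈ K, ⁅t, k⁆ ∈ L) → Nat.card K ≤ 2 * Nat.card L)
    (cm : ∀ u ∈ A, ∀ v ∈ A, ⁅u, v⁆ ∈ L)
    (hB : B ≤ P) (cB : Nat.card B = Nat.card A) (cm' : ∀ u ∈ B, ∀ v ∈ B, ⁅u, v⁆ ∈ L) : B = A := by
  by_contra ne
  obtain ⟨t, tB, tA⟩ := SetLike.not_le_iff_exists.1 fun h : B ≤ A => ne (eq_of_le_of_card_ge h cB.ge)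
  have hBn := hB.trans hn
  have h1 := GT.PG.card_sup_mul_card_inf hBn
  have h2 : Nat.card (B ⊓ A : Subgroup G) ≤ 4 * Nat.card L :=
    f1 t (hB tB) tA _ inf_le_right fun k hk => cm' t tB k hk.1
  have hs : B ⊔ A ≤ P := sup_le hB hA
  have pL : 0 < Nat.card L := Nat.card_pos
  have h3 : Nat.card P ≤ Nat.card (B ⊔ A : Subgroup G) := by
    refine Nat.le_of_mul_le_mul_right ?_ (show 0 < 4 * Nat.card L by omega)
    calc Nat.card P * (4 * Nat.card L) = Nat.card B * Nat.card A := by rw [cP, cB, cA]; ring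
      _ ≤ _ := h1 ▸ Nat.mul_le_mul_left _ h2
  have h4 := eq_of_le_of_card_ge hs h3
  have h5 : Nat.card (B ⊓ A : Subgroup G) ≤ 2 * Nat.card L := f2 _ inf_le_right fun g hg k hk => by
    obtain ⟨b, hb, a, ha, rfl⟩ := (GT.PG.mem_sup_of_le_normalizer' hBn).1 (h4.ge hg)
    rw [show ⁅b * a, k⁆ = b * ⁅a, k⁆ * b⁻¹ * ⁅b, k⁆ by simp only [commutatorElement_def]; group]
    exact mul_mem ((mem_normalizer_iff.1 (nL (hB hb)) _).1 (cm a ha k hk.2)) (cm' b hb k hk.1)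
  have h6 := Nat.mul_le_mul_left (Nat.card P) h5
  rw [← h4, h1, h4, cP, cB, cA] at h6
  nlinarith

end Cfsg.Agent.GHJ
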