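import Mathlib

/-! Finite checks for `GHJ/CIc`: invariant vectors of even weight under double transpositions. -/

set_option autoImplicit false

namespace Cfsg.Agent.GHJ.CIc

open Equiv

/-- A non-trivial even permutation whose order divides four. -/
def Dt (σ : Perm (Fin 5)) : Prop := σ ≠ 1 ∧ σ ^ 4 = 1 ∧ Perm.sign σ = 1

instance (σ : Perm (Fin 5)) : Decidable (Dt σ) := inferInstanceAs (Decidable (_ ∧ _ ∧ _))

/-- The invariant vectors of even weight. -/
def Ev (l : List (Perm (Fin 5))) : Finset (Fin 5 → ZMod 2) :=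
  Finset.univ.filter fun v => v 0 + v 1 + v 2 + v 3 + v 4 = 0 ∧ ∀ σ ∈ l, ∀ i, v (σ i) = v i

theorem ev1 : ∀ σ, Dt σ → (Ev [σ]).card ≤ 4 := by decide +kernel

theorem ev2 : ∀ σ, Dt σ → ∀ τ, Dt τ → σ ≠ τ → (Ev [σ, τ]).card ≤ 2 := by decide +kernel

end Cfsg.Agent.GHJ.CIc
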