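import Mathlib
import Cfsg.Agent.GHJ.CIDefs
import Cfsg.Agent.GHJ.CIu
import Cfsg.Agent.GHJ.CIcD
import Cfsg.Agent.GHJ.Basic
import Cfsg.Agent.SR4.L3D
import Cfsg.Agent.Inv.SR4JE
import Cfsg.Agent.Rec.J23.Final

/-! The case of an extraspecial critical subgroup of order 32. See `stubs/Cfsg/Agent/GHJ/PLAN_CI.md`. -/

set_option autoImplicit false
set_option linter.unusedSectionVars false
set_option synthInstance.maxSize 100000
set_option synthInstance.maxHeartbeats 1000000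

namespace Cfsg.Agent.GHJ

open Cfsg.Agent.Inv.Fz Cfsg.Agent.NE Subgroup
open scoped commutatorElement

universe u

namespace CIc

open Cfsg.Agent.Spor Cfsg.Agent.Inv.SR4J Equiv

variable {X : Type*} [Group X] [Finite X] {Q : Subgroup X} {z : X} {q : Fin 5 → X} {π : X →* Perm (Fin 5)}

theorem card_le (h : Inv.SR4J.Bas Q z q π) {K : Subgroup X} (hK : K ≤ Q) (l : List X)
    (hl : ∀ t ∈ l, ∀ k ∈ K, ⁅t, k⁆ ∈ zpowers z) : Nat.card K ≤ 2 * (Ev (l.map π)).card := by
  have ae := h.es.aes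
  let β : K →* Multiplicative (Fin 5 → ZMod 2) := MonoidHom.mk' (fun k => Multiplicative.ofAdd fun i => bf (k : X) (q i))
    fun a b => congrArg Multiplicative.ofAdd (funext fun i => ae.bf_mul_left (hK a.2) (hK b.2) (h.mem i))
  have h1 : Nat.card β.ker ≤ 2 := by
    have : β.ker.map K.subtype ≤ zpowers z := by
      rintro _ ⟨k, hk, rfl⟩
      have e : ∀ i, (k : X) * q i = q i * k := fun i =>
        bf_eq_zero.1 (congrFun (congrArg Multiplicative.toAdd (MonoidHom.mem_ker.1 hk)) i)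
      have : Q ≤ centralizer {(k : X)} := h.gen.le.trans (Rec.clos_le.2 (by
        simp only [List.forall_mem_cons, List.not_mem_nil, false_imp_iff, implies_true, and_true,
          mem_centralizer_singleton_iff, ← e, h.cen, and_self]))
      exact (mem_zpowers_iff_of_sq h.es.z_sq).2 (h.center fun p hp => (mem_centralizer_singleton_iff.1 (this hp)).symm)
    have := card_le_of_le this
    rwa [card_map_of_injective K.subtype_injective, Nat.card_zpowers, ae.orderOf_z] at this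
  have h2 : Nat.card β.range ≤ (Ev (l.map π)).card := by
    rw [← Nat.card_eq_finsetCard]
    refine Nat.card_le_card_of_injective (fun y => ⟨Multiplicative.toAdd y.1, ?_⟩) fun a b e =>
      Subtype.ext (Subtype.mk.inj e)
    obtain ⟨_, k, rfl⟩ := y
    have kQ := hK k.2
    refine Finset.mem_filter.2 ⟨Finset.mem_univ _, ?_, fun σ hσ i => ?_⟩
    · change bf (k : X) (q 0) + bf (k : X) (q 1) + bf (k : X) (q 2) + bf (k : X) (q 3) + bf (k : X) (q 4) = 0
      have m := h.mem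
      rw [← ae.bf_mul_right (m 0) (m 1) kQ, ← ae.bf_mul_right (mul_mem (m 0) (m 1)) (m 2) kQ,
        ← ae.bf_mul_right (mul_mem (mul_mem (m 0) (m 1)) (m 2)) (m 3) kQ,
        ← ae.bf_mul_right (mul_mem (mul_mem (mul_mem (m 0) (m 1)) (m 2)) (m 3)) (m 4) kQ, h.prod, bf_eq_zero]
      simp
    · obtain ⟨t, ht, rfl⟩ := List.mem_map.1 hσ
      change bf (k : X) (q (π t i)) = bf (k : X) (q i)
      have e : Eqv z (t * k * t⁻¹) k := by
        rcases (mem_zpowers_iff_of_sq h.es.z_sq).1 (hl t ht k k.2) with e | e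
        · exact Or.inl (mul_inv_eq_one.1 e)
        · exact Or.inr (mul_inv_eq_iff_eq_mul.1 e)
      rw [← ae.bf_eqv_right kQ (h.act t i), ← ae.bf_eqv_left (h.nm.conj_mem _ (h.mem i) t) e, bf_conj]
      simp [mul_assoc]
  rw [← card_mul_index β.ker, index_ker]
  exact Nat.mul_le_mul h1 h2

/-- Automorphisms of a Sylow subgroup keep the extraspecial group. -/
theorem char (h : Inv.SR4J.Bas Q z q π) (hπ : π.range = alternatingGroup (Fin 5)) {S : Subgroup X} (hQ : Q ≤ S)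
    (cS : Nat.card S = 128) (φ : S ≃* S) : ∀ p ∈ Q.subgroupOf S, φ p ∈ Q.subgroupOf S := by
  have := h.nm
  let z' : S := ⟨z, hQ h.es.z_mem⟩
  have zc : ∀ x : S, z' * x = x * z' := fun x => Subtype.ext (h.cen x)
  have hz : φ z' = z' := by
    refine Subtype.ext ((h.center fun p hp => ?_).resolve_left fun e => h.es.z_ne ?_)
    · obtain ⟨x, hx⟩ := φ.surjective ⟨p, hQ hp⟩
      have := congrArg φ (zc x)
      rw [map_mul, map_mul, hx] at this
      exact congrArg Subtype.val this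
    · exact congrArg Subtype.val (φ.map_eq_one_iff.1 (Subtype.ext e))
  have mz : ∀ x : S, x ∈ zpowers z' ↔ (x : X) ∈ zpowers z := fun x => by
    rw [show zpowers z = (zpowers z').map S.subtype from (MonoidHom.map_zpowers S.subtype z').symm]
    exact (mem_map_iff_mem S.subtype_injective).symm
  have cA : Nat.card (Q.subgroupOf S) = 32 := by rw [Nat.card_congr (subgroupOfEquivOfLe hQ).toEquiv, h.card]
  have cL : Nat.card (zpowers z') = 2 := by rw [Nat.card_zpowers, orderOf_mk, h.es.aes.orderOf_z]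
  let ρ : S →* Perm (Fin 5) := π.comp S.subtype
  have kρ : ρ.ker = Q.subgroupOf S := Subgroup.ext fun x => h.ker x
  have cρ : Nat.card ρ.range = 4 := by
    have := card_mul_index ρ.ker
    rw [index_ker, kρ, cA, cS] at this
    omega
  have dt : ∀ t : S, ρ t ≠ 1 → Dt (π t) := fun t ht =>
    ⟨ht, congrArg Subtype.val (cρ ▸ pow_card_eq_one' (x := ρ.rangeRestrict t)),
      Perm.mem_alternatingGroup.1 (hπ.le ⟨t, rfl⟩)⟩
  have cm : ∀ u ∈ Q.subgroupOf S, ∀ v ∈ Q.subgroupOf S, ⁅u, v⁆ ∈ zpowers z' := fun u hu v hv => by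
    rw [mz, mem_zpowers_iff_of_sq h.es.z_sq]
    refine (h.es.comm u hu v hv).imp (fun e => commutatorElement_eq_one_iff_mul_comm.2 e) fun e => ?_
    change (u : X) * v * (u : X)⁻¹ * (v : X)⁻¹ = z
    rw [e]
    group
  have tr : ∀ (K : Subgroup S), K ≤ Q.subgroupOf S → ∀ l : List S, (∀ t ∈ l, ∀ k ∈ K, ⁅t, k⁆ ∈ zpowers z') →
      Nat.card K ≤ 2 * (Ev ((l.map S.subtype).map π)).card := fun K hK l hl => by
    rw [← card_map_of_injective S.subtype_injective]
    refine card_le h (map_le_iff_le_comap.2 hK) _ fun t ht k hk => ?_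
    obtain ⟨t', ht', rfl⟩ := List.mem_map.1 ht
    obtain ⟨k', hk', rfl⟩ := hk
    exact (mz _).1 (hl t' ht' k' hk')
  have key := uniq16 (P := ⊤) (A := Q.subgroupOf S) (B := (Q.subgroupOf S).map φ.toMonoidHom) (L := zpowers z')
    le_top (by rw [normalizer_eq_top]) (by rw [card_top, cA, cS]) (zpowers_le.2 h.es.z_mem)
    (fun g _ => mem_normalizer_of_conj_mem fun x hx => by
      obtain ⟨n, rfl⟩ := id hx
      rwa [(Commute.zpow_left (zc g) n).eq.symm, mul_inv_cancel_right])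
    (by rw [cA, cL])
    (fun t _ ht K hK hk => by
      have h1 := tr K hK [t] fun s hs => List.mem_singleton.1 hs ▸ hk
      have h2 := ev1 _ (dt t fun e => ht (kρ.le e))
      rw [cL]
      exact h1.trans (Nat.mul_le_mul_left 2 h2))
    (fun K hK hk => by
      have : ∃ a b : ρ.range, a ≠ 1 ∧ b ≠ 1 ∧ a ≠ b := by
        have := Fintype.ofFinite ρ.range
        obtain ⟨a, b, c, h1, h2, h3⟩ := Fintype.two_lt_card_iff.1
          (show 2 < Fintype.card ρ.range by rw [← Nat.card_eq_fintype_card, cρ]; norm_num)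
        by_cases a1 : a = 1
        · exact ⟨b, c, a1 ▸ h1.symm, a1 ▸ h2.symm, h3⟩
        by_cases b1 : b = 1
        exacts [⟨a, c, a1, b1 ▸ h3.symm, h2⟩, ⟨a, b, a1, b1, h1⟩]
      obtain ⟨⟨_, a, rfl⟩, ⟨_, b, rfl⟩, h1, h2, h3⟩ := this
      have h4 := tr K hK [a, b] fun s _ => hk s trivial
      have h5 := ev2 _ (dt a fun e => h1 (Subtype.ext e)) _ (dt b fun e => h2 (Subtype.ext e))
        fun e => h3 (Subtype.ext e)
      rw [cL]
      exact h4.trans (Nat.mul_le_mul_left 2 h5))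
    cm le_top (card_map_of_injective φ.injective) (by
      rintro _ ⟨u, hu, rfl⟩ _ ⟨v, hv, rfl⟩
      rw [← map_commutatorElement, ← hz]
      exact MonoidHom.map_zpowers φ.toMonoidHom z' ▸ mem_map_of_mem _ (cm u hu v hv))
  exact fun p hp => key.le (mem_map_of_mem _ hp)

theorem four (h : Inv.SR4J.Bas Q z q π) {E : Subgroup X} (hE : E ≤ Q) (e2 : ∀ x ∈ E, x * x = 1) : Nat.card E ≤ 4 := by
  classical
  have hzz := h.es.z_sq
  obtain ⟨i, hi⟩ : ∃ i, ∀ x ∈ E, x = 1 ∨ x = z ∨ Eqv z x (q i) := by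
    by_cases k : ∃ u ∈ E, ∃ i, Eqv z u (q i)
    · obtain ⟨u, hu, i, hi⟩ := k
      refine ⟨i, fun x hx => (h.inv x (hE hx) (e2 x hx)).imp_right (Or.imp_right fun ⟨j, hj⟩ => ?_)⟩
      obtain rfl : i = j := by
        by_contra hne
        have k := comm_of_sq e2 hx hu
        rw [← bf_eq_zero, h.es.aes.bf_eqv_left (hE hu) hj, h.es.aes.bf_eqv_right (h.mem j) hi, bf_eq_zero] at k
        exact h.es.z_ne (by rw [← h.anti i j hne, ← k, mul_assoc (q j), h.sq, mul_one, h.sq])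
      exact hj
    · exact ⟨0, fun x hx => (h.inv x (hE hx) (e2 x hx)).imp_right (Or.imp_right fun l => absurd ⟨x, hx, l⟩ k)⟩
  refine le_trans ?_ (Finset.card_le_four (a := 1) (b := z) (c := q i) (d := z * q i))
  rw [← Nat.card_eq_finsetCard]
  exact Nat.card_le_card_of_injective (fun y => ⟨y.1, by simpa [Eqv] using hi y.1 y.2⟩) fun a b e =>
    Subtype.ext (Subtype.mk.inj e)

theorem exists_z {A B : Subgroup Q} [Q.Normal] (h1 : Nat.card Q = 32) (a : A ≃* QuaternionGroup 2)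
    (hi : A ⊓ B = center Q) : ∃ z ∈ Q, z ≠ 1 ∧ ∀ x, z * x = x * z := by
  have k : ∀ x (hx : x ∈ Q), x ≠ 1 → (∀ y ∈ Q, y * x = x * y) →
      ∃ hx' : (⟨x, hx⟩ : Q) ∈ A, a ⟨_, hx'⟩ = QuaternionGroup.a 2 := fun x hx x1 e => by
    refine ⟨(hi.ge (mem_center_iff.2 fun y => Subtype.ext (e y y.2))).1, (by decide : ∀ w : QuaternionGroup 2, w ≠ 1 →
      (∀ y, y * w = w * y) → w = .a 2) _ (fun k => x1 (congrArg (fun y : A => y.1.1) (a.map_eq_one_iff.1 k))) fun y => ?_⟩
    obtain ⟨y, rfl⟩ := a.surjective y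
    rw [← map_mul, ← map_mul]
    exact congrArg a (Subtype.ext (Subtype.ext (e _ y.1.2)))
  have : Nontrivial Q := Finite.one_lt_card_iff_nontrivial.1 (by rw [h1]; norm_num)
  have := IsPGroup.center_nontrivial (IsPGroup.of_card (p := 2) (n := 5) h1)
  obtain ⟨⟨⟨u, u0⟩, hu⟩, u1⟩ := exists_ne (1 : center Q)
  have u1' : u ≠ 1 := fun e => u1 (Subtype.ext (Subtype.ext e))
  have uc : ∀ y ∈ Q, y * u = u * y := fun y hy => congrArg Subtype.val (mem_center_iff.1 hu ⟨y, hy⟩)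
  refine ⟨u, u0, u1', fun g => (mul_inv_eq_iff_eq_mul.1 ?_).symm⟩
  obtain ⟨k1, k2⟩ := k u u0 u1' uc
  obtain ⟨k3, k4⟩ := k _ (Normal.conj_mem inferInstance _ u0 g) (fun e => u1' (conj_eq_one_iff.1 e)) fun y hy => by
    calc _ = g * (g⁻¹ * y * g⁻¹⁻¹ * u) * g⁻¹ := by simp [mul_assoc]
      _ = _ := by rw [uc _ (Normal.conj_mem inferInstance _ hy _)]; simp [mul_assoc]
  exact congrArg (fun y : A => y.1.1) (a.injective (k4.trans k2.symm))

theorem range_eq [Q.Normal] (h : Inv.SR4J.Bas Q z q π) (h60 : 60 ∣ Nat.card (X ⧸ Q))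
    (cj : ∀ s t : X ⧸ Q, orderOf s = 2 → orderOf t = 2 → IsConj s t) : π.range = alternatingGroup (Fin 5) := by
  have e1 : π.range.index * Nat.card (X ⧸ Q) = 120 := by
    rw [← show π.ker = Q from Subgroup.ext h.ker, ← index_eq_card, index_ker, index_mul_card, Nat.card_perm,
      Nat.card_fin]
    rfl
  obtain ⟨k, hk⟩ := h60
  have e2 : π.range.index * k = 2 := by rw [hk] at e1; nlinarith
  refine Perm.eq_alternatingGroup_of_index_eq_two (((Nat.dvd_prime Nat.prime_two).1 (Dvd.intro _ e2)).resolve_left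
    fun e => ?_)
  have su : ∀ σ, ∃ x, π x = σ := fun σ => (index_eq_one.1 e).ge (mem_top σ)
  have o : ∀ x : X, π x ≠ 1 → π x * π x = 1 → orderOf (QuotientGroup.mk' Q x) = 2 := fun x h1 h2 =>
    orderOf_eq_prime (by
      rw [← map_pow, QuotientGroup.mk'_apply, QuotientGroup.eq_one_iff, ← h.ker, pow_two, map_mul, h2])
      fun e => h1 ((h.ker x).2 ((QuotientGroup.eq_one_iff x).1 e))
  obtain ⟨u, hu⟩ := su (swap 0 1)
  obtain ⟨v, hv⟩ := su (swap 0 1 * swap 3 4)
  obtain ⟨g, hg⟩ := isConj_iff.1 (cj _ _ (o u (by rw [hu]; decide) (by rw [hu]; decide))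
    (o v (by rw [hv]; decide) (by rw [hv]; decide)))
  obtain ⟨g, rfl⟩ := QuotientGroup.mk'_surjective Q g
  rw [← map_inv, ← map_mul, ← map_mul, QuotientGroup.mk'_apply, QuotientGroup.mk'_apply, QuotientGroup.eq,
    ← h.ker, map_mul, map_inv, inv_mul_eq_one, map_mul, map_mul, map_inv, hu, hv] at hg
  have := congrArg Perm.sign hg
  simp at this

end CIc

variable {G X : Type u} [Group G] [Finite G] [Group X] [Finite X] {T : Subgroup G}

open Cfsg.Agent.Spor Cfsg.Agent.Rec Cfsg.Agent.Rec.J23 Cfsg.Agent.Inv.SR4J Cfsg.Agent.Loc.Mss in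
theorem Ctx.not_es (c : Ctx G) {f : normalizer (T : Set G) →* X} (F : SR4.Fr T f) (fa : FA X)
    (h1 : Nat.card (pCore 2 X) = 32) {A B : Subgroup (pCore 2 X)} (a : A ≃* QuaternionGroup 2)
    (b : B ≃* DihedralGroup 4) (hc : ∀ a ∈ A, ∀ b ∈ B, a * b = b * a) (ht : A ⊔ B = ⊤)
    (hi : A ⊓ B = center (pCore 2 X)) : False := by
  have := c.simple
  have hC := F.con.charP F.oX
  obtain ⟨z, hzQ, hz1, hz⟩ := CIc.exists_z h1 a hi
  have h60 : 60 ∣ Nat.card (X ⧸ pCore 2 X) := by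
    obtain ⟨A, ⟨e⟩⟩ := fa.a5
    rw [← card_A5, ← Nat.card_congr e.toEquiv]
    exact card_subgroup_dvd_card A
  obtain ⟨q, π, h⟩ := exists_bas (es2_of_prod hzQ hz1 hz a b hc ht hi) h1 hC hz
    ((Dvd.dvd.trans (by norm_num) h60).trans (card_quotient_dvd_card _))
  have hπ := CIc.range_eq h h60 fa.conj
  have hX : Nat.card X = 1920 := by rw [h.card_eq, hπ, card_A5]
  obtain ⟨S, cS⟩ := Sylow.exists_subgroup_card_pow_prime 2 (G := X) (n := 7) (by rw [hX]; norm_num)
  have t2 : IsSylIn 2 S ⊤ := isSylIn_of_card le_top (m := 15) cS (by rw [card_top, hX]; rfl) (by norm_num)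
  have hS : Syl 2 S ⊤ := Syl.of_maximal t2.isPGroup le_top fun P hP k1 k2 => (t2.2.2 P hP k2 k1).le
  obtain ⟨ι, R, L⟩ := F.lift' hS
  have hle : R ≤ ι.range := by
    by_contra hle
    obtain ⟨r, hr, r1, φ, w, ac, -⟩ := SR4.stepA L.inj L.syl.pg L.le hle
    exact r1 (L.normR (SR4.sy_sub hS) r hr (L.hT ▸ ac.norm (CIc.char h hπ (SR4.core_le hS) cS φ)))
  have t1 : IsSylIn 2 ι.range ⊤ := by
    rw [le_antisymm L.le hle]
    exact ⟨le_top, L.syl.pg, fun P hP k1 k2 => L.syl.eq_of_le hP k2 k1⟩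
  by_cases hall : ∀ x : X, x * x = 1 → x ∈ pCore 2 X
  · obtain ⟨E, hE, e⟩ := Ctx.rank3 { c with S := ι.range, syl := t1 }
    have e2 : ∀ x ∈ (E.comap ι).map S.subtype, x * x = 1 := by
      rintro _ ⟨x, hx, rfl⟩
      exact congrArg Subtype.val (L.inj (a₁ := x * x) (a₂ := 1) (by rw [map_mul, map_one]; exact e.sq _ hx))
    have := CIc.four h (fun x hx => hall x (e2 x hx)) e2
    rw [card_map_of_injective S.subtype_injective, ← card_map_of_injective L.inj, map_comap_eq_self hE, e.card] at this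
    omega
  push Not at hall
  obtain ⟨i, i1, i2⟩ := hall
  have hz' : centralizer {z} = ⊤ := eq_top_iff.2 fun x _ => mem_centralizer_singleton_iff.2 (h.cen x).symm
  obtain ⟨q1, q2, q3, q4, q5, x, t', a, C, hr, -, -⟩ := exists_letters h.es h.card
    (fun c _ r hr => h.nm.conj_mem _ hr c) h.self (by rw [hz', card_top, hX]) (h.cen i) i1 i2
  obtain ⟨g, -, hg⟩ := t2.exists_cj_eq (isSylIn_of_card le_top (k := 7) (m := 15) (genS (repB_of_H hr)).2
    (by rw [card_top, hX]; rfl) (by norm_num))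
  obtain ⟨C', e, he, e'⟩ := ((repT (repB_of_H hr)).pick [0, 1, 2, 3, 4, 5, 8, 9]).transport
    ((Inv.Fz.cjEquiv g _).trans ((MulEquiv.subgroupCongr hg).trans (MonoidHom.ofInjective L.inj)))
  rw [← e'] at t1
  have hl : e.length = 8 := he.length_eq.symm
  have hJ : Cfsg.Spor.IsoJ2 G ∨ Cfsg.IsJ3 G := by
    refine Or.imp_right (fun e => ⟨inferInstance, J23.card_of_isoJ3 e⟩) ?_
    match e, hl, he, t1 with
    | [q1, q2, q3, q4, q5, z, t, u], _, he, t1 => exact iso_of_st ⟨q1, q2, q3, q4, q5, z, t, u, C', he, t1⟩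
  refine c.ng ?_
  iterate 19 right
  exact hJ.imp_right Or.inl

end Cfsg.Agent.GHJ
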