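import Mathlib
import Cfsg.Agent.GHJ.CIDefs
import Cfsg.Agent.GHJ.Crit
import Cfsg.Agent.S3103
import Cfsg.Agent.GT.CoprimeProd
import Cfsg.Agent.GT.PConstrained
import Cfsg.Agent.FG.SectRank

/-! The case of an automiser of 2-rank one. See `stubs/Cfsg/Agent/GHJ/PLAN_CI.md`. -/

set_option autoImplicit false
set_option linter.unusedSectionVars false

namespace Cfsg.Agent.GHJ

open Cfsg.Agent.Inv.Fz Cfsg.Agent.NE Subgroup
open scoped commutatorElement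

universe u
variable {G X : Type u} [Group G] [Finite G] [Group X] [Finite X] {S R : Subgroup G} {s : G}

namespace CId

theorem ord2 {Y : Type*} [Group Y] {y : Y} (h : y * y = 1) (h1 : y ≠ 1) : orderOf y = 2 :=
  orderOf_eq_prime (by rwa [sq]) h1

theorem sq7 : ∀ x : ZMod 7, x * x ≠ -1 := by decide

/-- An abelian group of odd order normalised by `γ` with an element of order 3 or 5 inverted by `γ ^ 2`. -/
theorem inY {Y : Type*} [Group Y] [Finite Y] (h2 : ¬ Perm.RankOne.TwoRank Y) {M : Subgroup Y}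
    (hM : Inv.SE.StrEmb 2 M) (hd : Nat.card Y ∣ 20160) {γ : Y} (γ2 : γ * γ ≠ 1) (γ4 : γ * γ * (γ * γ) = 1) :
    ∃ K : Subgroup Y, γ ∈ normalizer (K : Set Y) ∧ (Nat.card K).Coprime 2 ∧ (∀ u ∈ K, ∀ v ∈ K, u * v = v * u) ∧
      ∃ α ∈ K, α ≠ 1 ∧ γ * γ * α * (γ * γ)⁻¹ = α⁻¹ ∧ (α ^ 3 = 1 ∨ α ^ 5 = 1) := by
  have hO : ¬ pPrimeCore 2 Y ≤ centralizer {γ * γ} := fun e => by
    have c : ∀ g, g * (γ * γ) = γ * γ * g := fun g => by
      obtain ⟨k, hk, c⟩ := Inv.Bnd.exists_mem_oddCore_of_not_twoRank h2 (ord2 γ4 γ2) g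
      have := mul_mem (e hk) (mem_centralizer_singleton_iff.2 c.eq)
      rw [mul_inv_cancel_left] at this
      exact mem_centralizer_singleton_iff.1 this
    have : (zpowers (γ * γ)).Normal := ⟨fun n hn g => by rwa [conj_eq_of_comm (comm_zpowers (c g) hn)]⟩
    exact γ2 (mem_bot.1 (hM.normal_pgroup_eq_bot (isPGroup_zpowers (k := 1) (by rw [pow_one, sq, γ4])) ▸
      mem_zpowers (γ * γ)))
  obtain ⟨p, hp, hpd⟩ := Nat.exists_prime_and_dvd (mt relIndex_eq_one.1 hO)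
  have : Fact p.Prime := ⟨hp⟩
  have cO := GT.coprime_card_pPrimeCore (G := Y) 2
  obtain ⟨j, hj⟩ := IsPGroup.iff_card.1 (isPGroup_zpowers (x := γ) (k := 2) (by
    rw [← γ4]; norm_num [pow_succ, mul_assoc]))
  obtain ⟨K, KO, pK, hK, nK⟩ := GT.CopAct.exists_invariant_sylowIn (A := zpowers γ) (K := pPrimeCore 2 Y)
    le_normalizer_of_normal (by rw [hj]; exact cO.symm.pow_left j) (Or.inl inferInstance) p
  have nγ := nK (mem_zpowers γ)
  have cK : (Nat.card K).Coprime 2 := cO.coprime_dvd_left (card_dvd_of_le KO)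
  obtain ⟨d, hd', nd⟩ := SetLike.not_le_iff_exists.1 (show ¬ K ≤ centralizer {γ * γ} from fun e =>
    hK (hpd.trans (relIndex_dvd_of_le_left _ e)))
  have nσ := mul_mem nγ nγ
  have m : d⁻¹ * (γ * γ * d * (γ * γ)⁻¹) ∈ K := mul_mem (inv_mem hd') ((conj_mem_norm nσ).2 hd')
  have a1 : d⁻¹ * (γ * γ * d * (γ * γ)⁻¹) ≠ 1 := fun e => nd (mem_centralizer_singleton_iff.2
    (comm_of_conj_eq (inv_mul_eq_one.1 e).symm).symm)
  have ai : γ * γ * (d⁻¹ * (γ * γ * d * (γ * γ)⁻¹)) * (γ * γ)⁻¹ = (d⁻¹ * (γ * γ * d * (γ * γ)⁻¹))⁻¹ := by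
    rw [conj_mul', conj_conj (γ * γ), γ4]; simp [mul_assoc]
  generalize d⁻¹ * (γ * γ * d * (γ * γ)⁻¹) = α at m a1 ai
  obtain ⟨n, hn⟩ := IsPGroup.iff_card.1 pK
  have hα : α ^ p ^ n = 1 := by rw [← hn]; exact orderOf_dvd_iff_pow_eq_one.1 (orderOf_dvd_natCard K m)
  have n0 : n ≠ 0 := fun e => a1 (by simpa [e] using hα)
  have dv : p ^ n ∣ 20160 := hn ▸ (card_subgroup_dvd_card K).trans hd
  have p2 : p ≠ 2 := by
    rintro rfl
    rw [hn, Nat.coprime_pow_left_iff (Nat.pos_of_ne_zero n0)] at cK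
    exact absurd cK (by decide)
  have hp' : p = 3 ∨ p = 5 ∨ p = 7 := by
    have : p ∣ 2 ^ 6 * 3 ^ 2 * 5 * 7 := (dvd_pow_self p n0).trans dv
    simp only [hp.dvd_mul, or_assoc] at this
    rcases this with e | e | e | e
    · exact (p2 ((Nat.prime_dvd_prime_iff_eq hp Nat.prime_two).1 (hp.dvd_of_dvd_pow e))).elim
    · exact Or.inl ((Nat.prime_dvd_prime_iff_eq hp Nat.prime_three).1 (hp.dvd_of_dvd_pow e))
    · exact Or.inr (Or.inl ((Nat.prime_dvd_prime_iff_eq hp Nat.prime_five).1 e))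
    · exact Or.inr (Or.inr ((Nat.prime_dvd_prime_iff_eq hp (by norm_num)).1 e))
  have lt : ∀ k, ¬ p ^ k ∣ 20160 → n < k := fun k e => by
    by_contra! c
    exact e ((pow_dvd_pow p c).trans dv)
  have n2 : n = 1 ∨ n = 2 := by
    have := lt 3 (by rcases hp' with rfl | rfl | rfl <;> norm_num)
    omega
  have ab : IsMulCommutative K := by
    rcases n2 with rfl | rfl
    · have := isCyclic_of_prime_card (hn.trans (pow_one p))
      infer_instance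
    · exact IsPGroup.isMulCommutative_of_card_eq_prime_sq hn
  refine ⟨K, nγ, cK, fun u hu v hv => congrArg Subtype.val (ab.1.1 ⟨u, hu⟩ ⟨v, hv⟩), ?_⟩
  rcases hp' with rfl | rfl | rfl
  · by_cases e : α ^ 3 = 1
    · exact ⟨α, m, a1, ai, Or.inl e⟩
    · refine ⟨α ^ 3, pow_mem m 3, e, by rw [← conj_pow, ai, inv_pow], Or.inl ?_⟩
      rcases n2 with rfl | rfl
      exacts [(e hα).elim, by rw [← pow_mul]; exact hα]
  · obtain rfl : n = 1 := by have := lt 2 (by norm_num); omega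
    exact ⟨α, m, a1, ai, Or.inr hα⟩
  · obtain rfl : n = 1 := by have := lt 2 (by norm_num); omega
    have o : orderOf α = 7 := orderOf_eq_prime hα a1
    have e : zpowers α = K := eq_of_le_of_card_ge (zpowers_le.2 m) (by rw [hn, Nat.card_zpowers, o]; rfl)
    obtain ⟨k, hk⟩ := mem_zpowers_iff.1 (e.ge ((conj_mem_norm nγ).2 m))
    rw [← conj_conj, ← hk, ← conj_zpow, ← hk, ← zpow_mul, ← zpow_neg_one, zpow_eq_zpow_iff_modEq, o] at ai
    have h1 := (ZMod.intCast_eq_intCast_iff _ _ 7).2 ai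
    push_cast at h1
    exact (sq7 _ h1).elim

/-- Lifting to the normaliser of `R`. -/
theorem lift {Q : Type*} [Group Q] [Finite Q] {ψ : normalizer (R : Set G) →* Q}
    (hψ : ∀ y, ψ y = 1 ↔ (y : G) ∈ R ⊔ centralizer (R : Set G)) (h : Crit S R) (hS : IsPGroup 2 S)
    {c : normalizer (R : Set G)} {K : Subgroup Q} (nK : ψ c ∈ normalizer (K : Set Q)) (cK : (Nat.card K).Coprime 2) :
    ∃ D : Subgroup G, ∃ DN : D ≤ normalizer (R : Set G), R ⊓ D = ⊥ ∧ (∀ d (hd : d ∈ D), ψ ⟨d, DN hd⟩ ∈ K) ∧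
      (∀ α ∈ K, α ∈ ψ.range → ∃ d, ∃ hd : d ∈ D, ψ ⟨d, DN hd⟩ = α) ∧
      (∀ d (hd : d ∈ D), ψ ⟨d, DN hd⟩ = 1 → Cz d R) ∧ ∃ k ∈ R, k * c ∈ normalizer (D : Set G) := by
  have pR := hS.to_le h.le
  have r1 : ∀ r (hr : r ∈ R), ψ ⟨r, le_normalizer hr⟩ = 1 := fun r hr => (hψ _).2 (mem_sup_left hr)
  set L := (K.comap ψ).map (normalizer (R : Set G)).subtype
  have LN : L ≤ normalizer (R : Set G) := map_subtype_le _
  have mL : ∀ l : normalizer (R : Set G), (l : G) ∈ L ↔ ψ l ∈ K := fun l =>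
    mem_map_iff_mem (f := (normalizer (R : Set G)).subtype) (subtype_injective _)
  have RL : R ≤ L := fun r hr => (mL ⟨r, le_normalizer hr⟩).2 (r1 r hr ▸ one_mem _)
  have syl : IsSylIn 2 R L := ⟨RL, pR, fun T hT TL RT => le_antisymm (h.two_le hS hT fun k hk => ?_) RT⟩
  swap
  · refine (hψ ⟨k, LN (TL hk)⟩).1 ?_
    obtain ⟨j, hj⟩ := hT ⟨k, hk⟩
    have a1 : ψ ⟨k, LN (TL hk)⟩ ^ 2 ^ j = 1 := by
      rw [← map_pow, show (⟨k, LN (TL hk)⟩ : normalizer (R : Set G)) ^ 2 ^ j = 1 from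
        Subtype.ext (show k ^ 2 ^ j = 1 from congrArg Subtype.val hj), map_one]
    exact orderOf_eq_one_iff.1 (Nat.eq_one_of_dvd_coprimes (cK.pow_right j)
      (orderOf_dvd_natCard K ((mL ⟨k, LN (TL hk)⟩).1 (TL hk))) (orderOf_dvd_of_pow_eq_one a1))
  obtain ⟨a, ha⟩ := IsPGroup.iff_card.1 pR
  have cop : (Nat.card R).Coprime (R.relIndex L) :=
    ha ▸ ((Nat.prime_two.coprime_iff_not_dvd).2 syl.not_dvd_relIndex).pow_left a
  obtain ⟨D, DL, e1, e2, e3⟩ := GT.exists_complement_of_coprime_relIndex RL LN cop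
  have DN := DL.trans LN
  have BL : cj (c : G) D ≤ R ⊔ D := by
    rw [e1, cj_le_iff]
    intro d hd
    refine (mL (c * ⟨d, DN hd⟩ * c⁻¹)).2 ?_
    rw [map_mul, map_mul, map_inv]
    exact (conj_mem_norm nK).2 ((mL ⟨d, DN hd⟩).1 (DL hd))
  have := pR.isNilpotent
  obtain ⟨k, hk, hD⟩ := GT.CopAct.exists_conj_mem_of_le_sup DN (e3 ▸ cop.symm) (.inr inferInstance) BL
    (by rw [card_cj, e3]; exact cop.symm)
  refine ⟨D, DN, e2, fun d hd => (mL ⟨d, DN hd⟩).1 (DL hd), ?_, fun d hd h1 => ?_, k, hk,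
    mem_normalizer_of_conj_mem fun d hd => by simpa [mul_assoc] using hD _ (conj_mem_cj.2 hd)⟩
  · rintro _ hy ⟨y, rfl⟩
    obtain ⟨x, hx, r₀, hr₀, e⟩ := (mem_sup_iff_of_le_normalizer DN).1
      (show (y : G) ∈ D ⊔ R from sup_comm R D ▸ e1 ▸ (mL y).2 hy)
    exact ⟨x, hx, by
      rw [show y = ⟨x, DN hx⟩ * ⟨r₀, le_normalizer hr₀⟩ from Subtype.ext e, map_mul, r1 _ hr₀, mul_one]⟩
  · refine (od_of_odd pR (DN hd) ?_).cz_of_phi fun r hr => CrA.comm_I ((hψ _).1 h1) hr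
    exact Nat.odd_iff.2 (Nat.two_dvd_ne_zero.1 fun h2 => syl.not_dvd_relIndex
      (e3 ▸ h2.trans (orderOf_dvd_natCard D hd)))

end CId

open CId

theorem Crit.exists_cy (h : Crit S R) (hS : IsPGroup 2 S) (h4 : Rk 16 S) {f : normalizer (R : Set G) →* X}
    (F : Fr0 R f) (h2 : ¬ Perm.RankOne.TwoRank (X ⧸ pCore 2 X)) (hs : s ∈ S ⊓ normalizer (R : Set G)) (h1 : s ∉ R)
    (hI : ¬ Ix (S ⊓ normalizer (R : Set G)) R s) : ∃ c a, Cy (S ⊓ normalizer (R : Set G)) R c a := by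
  obtain ⟨ψ, sψ, hψ⟩ : ∃ ψ : normalizer (R : Set G) →* X ⧸ pCore 2 X, Function.Surjective ψ ∧
      ∀ y, ψ y = 1 ↔ (y : G) ∈ R ⊔ centralizer (R : Set G) := by
    refine ⟨(QuotientGroup.mk' _).comp f, (QuotientGroup.mk'_surjective _).comp F.surj, fun y => ?_⟩
    rw [MonoidHom.comp_apply, QuotientGroup.mk'_apply, QuotientGroup.eq_one_iff]
    constructor
    · rw [← F.core]
      rintro ⟨r, hr, e⟩
      have := CrA.cz_I (F.cz (r⁻¹ * y) (by rw [map_mul, map_inv, e, inv_mul_cancel]))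
      simpa using mul_mem (mem_sup_left hr : (r : G) ∈ R ⊔ centralizer (R : Set G)) this
    · intro e
      obtain ⟨r, hr, c, hc, e⟩ := CrA.mem_I.1 e
      have cn : c ∈ normalizer (R : Set G) := centralizer_le_normalizer _ (TriA.cz_iff.1 hc)
      rw [show y = ⟨r, le_normalizer hr⟩ * ⟨c, cn⟩ from Subtype.ext e, map_mul]
      refine mul_mem (F.core.le ⟨_, hr, rfl⟩) (F.con.charP F.oX ?_)
      rw [← F.core]
      rintro _ ⟨t, ht, rfl⟩
      rw [← map_mul, ← map_mul]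
      exact congrArg f (Subtype.ext (hc t ht).symm)
  have mR : ∀ y : normalizer (R : Set G), (y : G) ∈ S → (ψ y = 1 ↔ (y : G) ∈ R) := fun y hy =>
    ⟨fun e => CrA.mem_R h hy ((hψ y).1 e), fun e => (hψ y).2 (mem_sup_left e)⟩
  have pP : IsPGroup 2 ((S.subgroupOf (normalizer (R : Set G))).map ψ) := hS.comap_subtype.map ψ
  have uq : ∀ y z : normalizer (R : Set G), (y : G) ∈ S → (z : G) ∈ S → (y : G) * y ∈ R → (z : G) * z ∈ R →
      (y : G) ∉ R → (z : G) ∉ R → (y : G) * z ∈ R := fun y z hy hz y2 z2 y1 z1 => by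
    have a := (mR (y * y) (mul_mem hy hy)).2 y2
    have b := (mR (z * z) (mul_mem hz hz)).2 z2
    rw [map_mul] at a b
    have oy := ord2 a (mt (mR y hy).1 y1)
    have oz := ord2 b (mt (mR z hz).1 z1)
    refine (mR (y * z) (mul_mem hy hz)).1 ?_
    rw [map_mul, Inv.Bnd.eq_of_mem_zpowers_two oy oz
      (Inv.Bnd.uniqOrd_of_not_twoRank h2 pP _ ⟨y, hy, rfl⟩ _ ⟨z, hz, rfl⟩ oy oz), a]
  obtain ⟨g, hg, g2⟩ : ∃ g ∈ S ⊓ normalizer (R : Set G), g * g ∉ R := by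
    by_contra! c
    exact hI fun y hy => (em (y ∈ R)).imp_right (uq ⟨s, hs.2⟩ ⟨y, hy.2⟩ hs.1 hy.1 (c s hs) (c y hy) h1)
  obtain ⟨_, ⟨i, rfl⟩, γ2, γ4⟩ := exists_pow_four pP (x := ψ ⟨g, hg.2⟩) ⟨_, hg.1, rfl⟩
    fun e => g2 ((mR (⟨g, hg.2⟩ * ⟨g, hg.2⟩) (mul_mem hg.1 hg.1)).1 (by rwa [map_mul]))
  simp only [← map_zpow] at γ2 γ4
  have cS : (((⟨g, hg.2⟩ : normalizer (R : Set G)) ^ i : normalizer (R : Set G)) : G) ∈ S := S.zpow_mem hg.1 i
  generalize (⟨g, hg.2⟩ : normalizer (R : Set G)) ^ i = c₀ at γ2 γ4 cS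
  obtain ⟨M, hM⟩ := F.se
  obtain ⟨e, he⟩ := S3103.result F.con F.oX (FG.SR.subgroup F.h4 _)
  obtain ⟨K, nK, cK, ab, α, αK, α1, αi, αp⟩ := inY h2 hM (by
    have := card_dvd_of_injective e he
    rwa [nat_card_alternatingGroup, Nat.card_fin] at this) γ2 γ4
  obtain ⟨D, DN, RD, DK, KD, cz, k, hk, nD⟩ := lift hψ h hS nK cK
  obtain ⟨a, ha, ea⟩ := KD α αK (sψ α)
  obtain ⟨c, cS, nD, ec⟩ : ∃ c : normalizer (R : Set G), (c : G) ∈ S ∧ (c : G) ∈ normalizer (D : Set G) ∧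
      ψ c = ψ c₀ := ⟨⟨k, le_normalizer hk⟩ * c₀, mul_mem (h.le hk) cS, nD, by
    rw [map_mul, (hψ ⟨k, le_normalizer hk⟩).2 (mem_sup_left hk), one_mul]⟩
  rw [← ec] at γ2 γ4 αi
  have ccS := mul_mem cS cS
  have c2 : (c : G) * c ∉ R := fun e => γ2 (by rw [← map_mul]; exact (mR (c * c) ccS).2 e)
  have c4 : (c : G) * c * (c * c) ∈ R := (mR (c * c * (c * c)) (mul_mem ccS ccS)).1 (by simpa only [map_mul] using γ4)
  have n2 := mul_mem nD nD
  have pw : ∀ p : ℕ, α ^ p = 1 → Cz (a ^ p) R := fun p e => cz _ (pow_mem ha p) (by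
    rw [show (⟨a ^ p, _⟩ : normalizer (R : Set G)) = ⟨a, DN ha⟩ ^ p from rfl, map_pow, ea, e])
  refine ⟨c, a, hS.to_le inf_le_left, h4.mono inf_le_left, le_inf h.le le_normalizer, inf_le_right, ⟨cS, c.2⟩,
    fun g hg g2 => (em (g ∈ R)).imp_right (uq (c * c) ⟨g, hg.2⟩ ccS hg.1 c4 g2 c2),
    ⟨hS.to_le h.le, DN ha, mul_mem c.2 c.2, c2, c4, ?_, cz _ (mul_mem ((conj_mem_norm n2).2 ha) ha) ?_,
      αp.imp (pw 3) (pw 5), fun e => α1 (ea ▸ (hψ _).2 (CrA.cz_I e))⟩,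
    αp.symm.imp (pw 5) fun e => ⟨pw 3 e, ?_⟩⟩
  · have m : ⁅a, (c : G) * c * (c * c)⁆ ∈ R ⊓ D :=
      mem_inf.2 ⟨mul_mem ((conj_mem_norm (DN ha)).2 c4) (inv_mem c4), by
        rw [commutatorElement_def, mul_assoc a, mul_assoc a]
        exact mul_mem ha ((conj_mem_norm (mul_mem n2 n2)).2 (inv_mem ha))⟩
    rw [RD, mem_bot] at m
    exact commutatorElement_eq_one_iff_mul_comm.1 m
  · rw [show (⟨c * c * a * ((c : G) * c)⁻¹ * a, _⟩ : normalizer (R : Set G)) =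
      c * c * ⟨a, DN ha⟩ * (c * c)⁻¹ * ⟨a, DN ha⟩ from rfl]
    simp only [map_mul, map_inv, ea, αi, inv_mul_cancel]
  · have m := (conj_mem_norm nD).2 ha
    refine cz _ (mul_mem (mul_mem (mul_mem ha m) (inv_mem ha)) (inv_mem m)) ?_
    rw [show (⟨⁅a, c * a * (c : G)⁻¹⁆, _⟩ : normalizer (R : Set G)) =
      ⁅(⟨a, DN ha⟩ : normalizer (R : Set G)), ⟨_, DN m⟩⁆ from rfl, map_commutatorElement,
      commutatorElement_eq_one_iff_mul_comm]
    exact ab _ (DK a ha) _ (DK _ m)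

end Cfsg.Agent.GHJ
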