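import Mathlib
import Cfsg.Agent.GHJ.CIDefs
import Cfsg.Agent.GHJ.CIf

/-! The cyclic case: R is characteristic in P. See `stubs/Cfsg/Agent/GHJ/PLAN_CI.md`. -/

set_option autoImplicit false
set_option linter.unusedSectionVars false

namespace Cfsg.Agent.GHJ

open Cfsg.Agent.Inv.Fz Cfsg.Agent.NE Subgroup
open scoped commutatorElement

variable {G : Type*} [Group G] [Finite G] {P R K L : Subgroup G} {c a g y : G}

namespace CIg

theorem card_le_two (hK : K ≤ L) (h : ∀ u ∈ L, ∀ v ∈ L, u ∉ K → v ∉ K → u * v ∈ K) :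
    Nat.card L ≤ 2 * Nat.card K := by
  by_cases hL : L ≤ K
  · have := card_le_of_le hL
    omega
  · obtain ⟨s, hs, h1⟩ := SetLike.not_le_iff_exists.1 hL
    refine (Ix.card (s := s) (fun v hv => ?_) hK hs h1).le
    by_cases h2 : v ∈ K
    · exact .inl h2
    · exact .inr (h s hs v hv h1 h2)

theorem norm_of_cz (hK : K ≤ L) (h : Cz g L) : g ∈ normalizer (K : Set G) :=
  mem_normalizer_of_conj_mem fun k hk => by rwa [h k (hK hk), mul_inv_cancel_right]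

theorem exists_ix (hK : K ≤ L) (h1 : ¬ L ≤ K) (hc : ∀ u ∈ L, Cz u L) (hs : ∀ u ∈ L, u * u = 1) :
    ∃ M, K ≤ M ∧ M ≤ L ∧ ¬ L ≤ M ∧ ∀ u ∈ L, ∀ v ∈ L, u ∉ M → v ∉ M → u * v ∈ M := by
  obtain ⟨M, hM, hm⟩ := Finite.exists_le_maximal (p := fun M : Subgroup G => M ≤ L ∧ ¬ L ≤ M) ⟨hK, h1⟩
  refine ⟨M, hM, hm.1.1, hm.1.2, fun u hu v hv h2 h3 => ?_⟩
  have e : L ≤ ext M u := by
    by_contra e
    exact h2 (hm.2 ⟨ext_le.2 ⟨hm.1.1, hu⟩, e⟩ (le_ext M u) (self_mem_ext M u))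
  exact ((mem_ext (norm_of_cz hm.1.1 (hc u hu)) (by rw [hs u hu]; exact one_mem _)).1 (e hv)).resolve_left h3

theorem cz_conj (hg : g ∈ normalizer (K : Set G)) (h : Cz a K) : Cz (g * a * g⁻¹) K := by
  have := (BsA.cz_cj (g := g)).2 h
  rwa [cj_eq_iff.2 hg] at this

theorem four {w s : G} (h : Tri R w s) (h4 : Rk 16 R) (hc : Nat.card R = 16 * Nat.card (phi R))
    (hf : ∀ k ∈ R, ⁅w, k⁆ ∈ phi R → k ∈ phi R) (h1 : phi R ≤ K) (h2 : K ≤ R) (hw : w ∈ normalizer (K : Set G))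
    (h3 : ¬ K ≤ phi R) (h5 : ¬ R ≤ K) : Nat.card K = 4 * Nat.card (phi R) := by
  obtain ⟨k, hk, hk'⟩ := SetLike.not_le_iff_exists.1 h3
  rcases h.sec h4 h1 h2 hw (norm_phi h.xn) (fun k hk => mem_phi (h2 hk)) ⟨k, hk, fun e => hk' (hf k (h2 hk) e)⟩
    with ⟨e, -⟩ | ⟨e, -⟩
  · rw [← e]
    congr 2
    refine le_antisymm (fun u hu => ?_) (sup_le (supp_le hw) h1)
    obtain ⟨t, ht, d, hd, rfl⟩ := (h.od.mono h2 hw).decomp hu
    refine mul_mem (mem_sup_left ht) (mem_sup_right (hf d (h2 hd.1) ?_))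
    rw [commutatorElement_eq_one_iff_mul_comm.2 (mem_fix.1 hd).2]
    exact one_mem _
  · exact (h5 (Subgroup.eq_of_le_of_card_ge h2 (hc.trans e.symm).le).ge).elim

end CIg

open CIg Loc.Mss in
theorem Cy.phi_le (h : Cy P R c a) : phi R ≤ ⁅⁅P, P⁆, ⁅P, P⁆⁆ := by
  by_contra hn
  have cP : ∀ {A : Subgroup G}, A ≤ R → ⁅A, A⁆ ≤ phi R := fun hA =>
    commutator_le.2 fun u hu v hv => comm_mem_phi (hA hu) (hA hv)
  have WR := h.der_le
  have hΦW : phi R ≤ ⁅P, P⁆ := h.phi_le_comm.trans (commutator_mono h.le h.le)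
  obtain ⟨c16, ⟨w, hw, tw, hf⟩, -⟩ := h.top
  have c2 := h.card_der
  have cN : c ∈ normalizer (R : Set G) := h.nm h.mem
  obtain ⟨M, hWM, hMΦ, hΦM, hix⟩ := exists_ix (cP WR) hn (fun u hu r hr => h.phi_cen u hu r (GHJ.phi_le hr)) h.phi_sq
  have zR : ∀ r ∈ R, Cz r (phi R) := fun r hr u hu => (h.phi_cen u hu r hr).symm
  have nM : ∀ r ∈ R, r ∈ normalizer (M : Set G) := fun r hr => norm_of_cz hMΦ (zR r hr)
  -- the radical
  obtain ⟨U, hU, nU⟩ : ∃ U : Subgroup G, (∀ u, u ∈ U ↔ u ∈ R ∧ ∀ v ∈ R, ⁅v, u⁆ ∈ M) ∧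
      ∀ x ∈ normalizer (R : Set G), Cz x (phi R) → x ∈ normalizer (U : Set G) := by
    refine ⟨R ⊓ cmod R M, fun u => ⟨fun hu => ⟨hu.1, hu.2.2⟩, fun hu => ⟨hu.1, nM u hu.1, hu.2⟩⟩, fun x hx hz => ?_⟩
    have := norm_cmod (X := zpowers x) (zpowers_le.2 hx) (zpowers_le.2 (norm_of_cz hMΦ hz)) (mem_zpowers x)
    exact Inv.Fz.mem_normalizer_of_conj_mem fun u hu => ⟨(conj_mem_norm hx).2 hu.1, (conj_mem_norm this).2 hu.2⟩
  have UR : U ≤ R := fun u hu => ((hU u).1 hu).1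
  have ΦU : phi R ≤ U := fun u hu => (hU u).2 ⟨GHJ.phi_le hu, fun v hv => by
    rw [commutatorElement_eq_one_iff_mul_comm.2 (zR v hv u hu)]; exact one_mem _⟩
  have RU : ¬ R ≤ U := fun e => hΦM (h.phi_le_comm.trans (commutator_le.2 fun u hu v hv => ((hU v).1 (e hv)).2 u hu))
  have hab : closure {a, c * a * c⁻¹} ≤ normalizer (R : Set G) ⊓ centralizer (phi R : Set G) := by
    rw [closure_le, Set.insert_subset_iff, Set.singleton_subset_iff]
    exact ⟨⟨h.tri.xn, TriA.cz_iff.1 h.cz_phi⟩, Subgroup.mul_mem _ (mul_mem cN h.tri.xn) (inv_mem cN),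
      TriA.cz_iff.1 (cz_conj (norm_phi cN) h.cz_phi)⟩
  have zw : Cz w (phi R) := TriA.cz_iff.2 (hab hw).2
  have wU := nU w tw.xn zw
  have wU' : w ∈ normalizer (cj c U : Set G) := by
    have := nU _ (mul_mem (mul_mem (inv_mem cN) tw.xn) (inv_mem (inv_mem cN))) (cz_conj (inv_mem (norm_phi cN)) zw)
    have := (BsA.norm_cj (g := c)).2 this
    simpa [mul_assoc] using this
  -- the kernel on `W`
  have pos : 0 < Nat.card (phi R) := Nat.card_pos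
  obtain ⟨e, he, heW⟩ : ∃ e ∈ R, e ∉ ⁅P, P⁆ := SetLike.not_le_iff_exists.1 fun e => by
    have := card_le_of_le e
    omega
  have ixW := ix_of_card WR he heW c2
  obtain ⟨F, hF⟩ := exists_fx (K := ⁅P, P⁆) (L := M) e fun r hr => nM r (WR hr)
  have FU : F ≤ U := fun u hu => by
    obtain ⟨u1, u2⟩ := (hF u).1 hu
    refine (hU u).2 ⟨WR u1, fun v hv => (ixW v hv).elim (fun hv' => hWM (commutator_mem_commutator hv' u1)) fun hv' => ?_⟩
    have := hWM (commutator_mem_commutator hv' u1)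
    rw [commutatorElement_mul_left_eq_conj_mul, mul_mem_cancel_right u2] at this
    exact (conj_mem_norm (nM e he)).1 this
  have Fix : ∀ u ∈ ⁅P, P⁆, ∀ v ∈ ⁅P, P⁆, u ∉ F → v ∉ F → u * v ∈ F := fun u hu v hv h1 h2 => by
    refine (hF _).2 ⟨mul_mem hu hv, ?_⟩
    have a1 := comm_mem_phi he (WR hv)
    rw [commutatorElement_mul_right_eq_mul_conj, mul_assoc ⁅e, u⁆, zR u (WR hu) _ a1, mul_assoc ⁅e, u⁆,
      mul_inv_cancel_right]
    exact hix _ (comm_mem_phi he (WR hu)) _ a1 (fun e => h1 ((hF _).2 ⟨hu, e⟩)) fun e => h2 ((hF _).2 ⟨hv, e⟩)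
  have cF := card_le_two (fun u hu => ((hF u).1 hu).1) Fix
  have cFU := card_le_of_le FU
  have r4 : Rk 16 R := h.r4.mono h.le
  have cU := four tw r4 c16 hf ΦU UR wU (fun e => by have := card_le_of_le e; omega) RU
  obtain rfl : F = U := Subgroup.eq_of_le_of_card_ge FU (by omega)
  have cW : cj c F ≤ ⁅P, P⁆ := Inv.Fz.cj_le_iff.2 fun u hu =>
    (conj_mem_norm (normalizer_commutator_ge_left P P h.mem)).2 ((hF u).1 hu).1
  have c3 : Nat.card (cj c F) ≤ 2 * Nat.card (F ⊓ cj c F : Subgroup G) :=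
    card_le_two inf_le_right fun u hu v hv h1 h2 =>
      ⟨Fix u (cW hu) v (cW hv) (fun e => h1 ⟨e, hu⟩) fun e => h2 ⟨e, hv⟩, mul_mem hu hv⟩
  rw [Inv.Fz.card_cj] at c3
  have c4 := four (K := F ⊓ cj c F) tw r4 c16 hf
    (le_inf ΦU (((Inv.Fz.cj_eq_iff.2 (norm_phi cN)).ge).trans (Inv.Fz.cj_mono ΦU))) (inf_le_left.trans UR)
    (Inv.Fz.mem_normalizer_of_conj_mem fun u hu => ⟨(conj_mem_norm wU).2 hu.1, (conj_mem_norm wU').2 hu.2⟩)
    (fun e => by have := card_le_of_le e; omega) fun e => RU (e.trans inf_le_left)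
  have cU' : c ∈ normalizer (F : Set G) := Inv.Fz.cj_eq_iff.1 (Inv.Fz.cj_eq_of_le
    ((Subgroup.eq_of_le_of_card_ge (inf_le_right : F ⊓ cj c F ≤ _) (by rw [Inv.Fz.card_cj]; omega)).ge.trans inf_le_left))
  have aF : ∀ k ∈ F, ⁅a, k⁆ ∈ phi R := by
    by_contra hm
    push Not at hm
    have := (h.sec ΦU UR (nU a h.tri.xn h.cz_phi) (norm_phi h.tri.xn) cU' (norm_phi cN)
      (fun k hk => mem_phi (UR hk)) hm).1
    omega
  have a1 : a ∈ cmod F (phi R) := ⟨norm_phi h.tri.xn, fun k hk => TriA.cinv.1 (aF k hk)⟩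
  have hcl : closure {a, c * a * c⁻¹} ≤ cmod F (phi R) := by
    rw [closure_le, Set.insert_subset_iff, Set.singleton_subset_iff]
    exact ⟨a1, (conj_mem_norm (norm_cmod (X := zpowers c) (zpowers_le.2 cU') (zpowers_le.2 (norm_phi cN))
      (mem_zpowers c))).2 a1⟩
  have := card_le_of_le (show F ≤ phi R from fun k hk => hf k (UR hk) (TriA.cinv.1 ((hcl hw).2 k hk)))
  omega

theorem Cy.norm (h : Cy P R c a) (hy : y ∈ normalizer (P : Set G)) : y ∈ normalizer (R : Set G) := by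
  by_contra hn
  obtain ⟨g, hg, hgR⟩ := SetLike.not_le_iff_exists.1 fun e : cj y R ≤ R => hn (cj_eq_iff.1 (cj_eq_of_le e))
  have eP := cj_eq_iff.2 hy
  have eW : cj y ⁅P, P⁆ = ⁅P, P⁆ := by
    rw [← cj_def, map_commutator, cj_def, eP]
  have WR := h.der_le
  have WR2 : ⁅P, P⁆ ≤ cj y R := eW.ge.trans (cj_mono WR)
  have gW : g ∉ ⁅P, P⁆ := fun e => hgR (WR e)
  have gg : g * g ∈ ⁅P, P⁆ :=
    (ix_of_card WR2 hg gW ((card_cj y R).trans h.card_der) g hg).resolve_left gW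
  have hr := (h.uq g (eP.le (cj_mono h.le hg)) (WR gg)).resolve_left hgR
  have e : phi R = phi (cj y R) := Subgroup.eq_of_le_of_card_ge
    (h.phi_le.trans (commutator_le.2 fun u hu v hv => comm_mem_phi (WR2 hu) (WR2 hv))) (by rw [← cj_phi, card_cj])
  obtain ⟨u, hu, hu'⟩ := h.j3 h.mem h.tri.ss
  have hv : ⁅c, u⁆ ∈ ⁅P, P⁆ := commutator_mem_commutator h.mem (h.le hu)
  apply hu'
  rw [← mul_inv_cancel_right (c * c) g, commutatorElement_mul_left_eq_conj_mul]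
  refine mul_mem ((conj_mem_norm (norm_phi (le_normalizer hr))).2 ?_) (comm_mem_phi hr (WR hv))
  rw [e]
  exact comm_mem_phi (inv_mem hg) (WR2 hv)

end Cfsg.Agent.GHJ
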