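import Mathlib
import Cfsg.Agent.GHJ.Defs
import Cfsg.Agent.GHJ.Aft0
import Cfsg.Agent.GHJ.U
import Cfsg.Agent.GHJ.FF
import Cfsg.Agent.GHJ.TriG
import Cfsg.Agent.GHJ.CIa
import Cfsg.Agent.GHJ.CIb
import Cfsg.Agent.GHJ.CIc
import Cfsg.Agent.GHJ.CId
import Cfsg.Agent.GHJ.CIg
import Cfsg.Agent.S3106

/-! Critical subgroups of index at least four in their normaliser do not occur. See `stubs/Cfsg/Agent/GHJ/PLAN.md`. -/

set_option autoImplicit false
set_option linter.unusedSectionVars false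

namespace Cfsg.Agent.GHJ

open Cfsg.Agent.Inv.Fz Cfsg.Agent.NE Subgroup
open scoped commutatorElement

variable {G : Type*} [Group G] [Finite G] {S P R K L N T V A B U : Subgroup G} {x s g b : G} {n : ℕ}

namespace CIz

theorem cy (c : Ctx G) (h : T1 c.S R x s) (hI : ¬ Ix (c.S ⊓ normalizer (R : Set G)) R s) :
    ∃ d a, Cy c.S R d a := by
  have F := h.crit.fr0 c.pS c.h4
  by_cases h2 : Perm.RankOne.TwoRank
      ((normalizer (R : Set G) ⧸ oddCore (normalizer (R : Set G))) ⧸ pCore 2 _)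
  · obtain ⟨F', fa⟩ := F.fa h2
    rcases S3106.result F'.ns F'.con F'.oX F'.h4 fa.a5 with ⟨h1, h3⟩ | ⟨h1, A, B, ⟨a⟩, ⟨b⟩, h3, h4, h5⟩
    exacts [(c.not_e16 F' fa h1 h3).elim, (c.not_es F' fa h1 a b h3 h4 h5).elim]
  obtain ⟨d, a, k⟩ := h.crit.exists_cy c.pS c.r4 F h2 ⟨h.mem, h.tri.sn⟩ h.tri.s_not hI
  refine ⟨d, a, ?_⟩
  have e : c.S ⊓ normalizer (R : Set G) = c.S := by
    by_contra hne
    obtain ⟨y, h1, h4, h3, -⟩ := SR4.step c.pS inf_le_left fun e => hne (le_antisymm inf_le_left e)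
    exact h4 ⟨h1, k.norm h3⟩
  rwa [e] at k

variable {d a : G}

theorem cn (h : Cy P R d a) {r : G} (hg : g ∈ P) (hr : r ∈ R) : g * r * g⁻¹ ∈ R :=
  (mem_normalizer_iff.1 (h.nm hg) r).1 hr

theorem cm (h : Cy P R d a) {u v : G} (hu : u ∈ P) (hv : v ∈ P) : ⁅u, v⁆ ∈ R :=
  h.der_le (commutator_mem_commutator hu hv)

theorem two (h : Cy P R d a) {u v κ : G} (hu : d * d * u ∈ R) (hv : d * d * v ∈ R) (hk : κ ∈ R) :
    u * κ * v ∈ R := by
  have := mul_mem (mul_mem (inv_mem h.tri.ss) (cn h (mul_mem h.mem h.mem)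
    (cn h (inv_mem (mul_mem h.mem h.mem)) (cn h (mul_mem h.mem h.mem) (mul_mem hu hk))))) hv
  rwa [show (d * d * (d * d))⁻¹ * (d * d * ((d * d)⁻¹ * (d * d * (d * d * u * κ) * (d * d)⁻¹) * (d * d)⁻¹⁻¹) *
    (d * d)⁻¹) * (d * d * v) = u * κ * v by group] at this

/-- The elements with square in `R`. -/
def M (h : Cy P R d a) : Subgroup G where
  carrier := {g | g ∈ P ∧ g * g ∈ R}
  one_mem' := ⟨one_mem _, by rw [one_mul]; exact one_mem _⟩
  mul_mem' := fun {u v} hu hv => ⟨mul_mem hu.1 hv.1, by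
    have := mul_mem (mul_mem hu.2 (cm h (inv_mem hu.1) hv.1)) hv.2
    rwa [show u * u * ⁅u⁻¹, v⁆ * (v * v) = u * v * (u * v) by rw [commutatorElement_def]; group] at this⟩
  inv_mem' := fun {u} hu => ⟨inv_mem hu.1, by rw [← mul_inv_rev]; exact inv_mem hu.2⟩

theorem idx (h : Cy P R d a) {u v : G} (hu : u ∈ P) (hv : v ∈ P) (h1 : u ∉ M h) (h2 : v ∉ M h) :
    u * v ∈ M h := ⟨mul_mem hu hv, by
  have := two h ((h.sq_or hu).resolve_left fun e => h1 ⟨hu, e⟩) ((h.sq_or hv).resolve_left fun e => h2 ⟨hv, e⟩)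
    (cm h (inv_mem hu) hv)
  rwa [show u * u * ⁅u⁻¹, v⁆ * (v * v) = u * v * (u * v) by rw [commutatorElement_def]; group] at this⟩

theorem four (h : Cy P R d a) (hg : g ∈ P) : g * g * (g * g) ∈ R := by
  rcases h.sq_or hg with e | e
  · exact mul_mem e e
  · simpa using two h e e (one_mem _)

theorem hN (h : Cy P R d a) {m y : G} (hm : m ∈ normalizer (P : Set G)) (hy : y ∈ P) : ⁅m, y⁆ ∈ M h := by
  have k : m * y * m⁻¹ ∈ M h ↔ y ∈ M h := by
    refine and_congr (mem_normalizer_iff.1 hm y).symm ?_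
    rw [show m * y * m⁻¹ * (m * y * m⁻¹) = m * (y * y) * m⁻¹ by group]
    exact (mem_normalizer_iff.1 (h.norm hm) _).symm
  rw [commutatorElement_def]
  by_cases e : y ∈ M h
  · exact mul_mem (k.2 e) (inv_mem e)
  · exact idx h ((mem_normalizer_iff.1 hm y).1 hy) (inv_mem hy) (k.not.2 e) fun e' => e (inv_mem_iff.1 e')

/-- A triple on a subgroup of index two. -/
theorem of_ix (h : Cy P R d a) (hK : K ≤ P) (hi : Ix P K s) (hx : x ∈ normalizer (K : Set G)) :
    supp K x ≤ M h := by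
  by_cases hM : K ≤ M h
  · exact (supp_le hx).trans hM
  obtain ⟨c, hc, hc'⟩ := SetLike.not_le_iff_exists.1 hM
  have xk : ∀ {u}, u ∈ K → x * u * x⁻¹ ∈ P := fun {u} hu => hK ((mem_normalizer_iff.1 hx u).1 hu)
  have W : ⁅P, P⁆ ≤ K := commutator_le.2 fun u hu v hv => phi_le_iff.2 (fun r hr => by
    by_cases e : r ∈ K
    exacts [mul_mem e e, hi.mul_mem hr hr e e]) (comm_mem_phi hu hv)
  let D := R.comap (MulAut.conj x).toMonoidHom
  have d1 : ⁅K, K⁆ ≤ D := commutator_le.2 fun u hu v hv => by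
    show x * ⁅u, v⁆ * x⁻¹ ∈ R
    rw [conjugate_commutatorElement]
    exact cm h (xk hu) (xk hv)
  have d2 : ∀ r ∈ R, r * r ∈ D := fun r hr => d1 (commutator_mono W W (h.phi_le (mem_phi hr)))
  have d3 : ∀ u ∈ K, u ∈ M h → u * u ∈ D := fun u hu hu' => by
    rcases h.uq u hu'.1 hu'.2 with e | e
    · exact d2 u e
    have r : c * c * u ∈ R := by
      simpa using two h ((h.sq_or (hK hc)).resolve_left fun e => hc' ⟨hK hc, e⟩) e (one_mem _)
    have f : c * c * (c * c) ∈ D := by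
      show x * (c * c * (c * c)) * x⁻¹ ∈ R
      have := four h (xk hc)
      rwa [show x * c * x⁻¹ * (x * c * x⁻¹) * (x * c * x⁻¹ * (x * c * x⁻¹)) = x * (c * c * (c * c)) * x⁻¹ by
        group] at this
    have := mul_mem (mul_mem (inv_mem f) (d1 (commutator_mem_commutator (mul_mem hc hc)
      (mul_mem (mul_mem hc hc) hu)))) (d2 _ r)
    rwa [show (c * c * (c * c))⁻¹ * ⁅c * c, c * c * u⁆ * (c * c * u * (c * c * u)) = u * u by
      rw [commutatorElement_def]; group] at this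
  refine (supp_le_idx (K := M h ⊓ K) hx inf_le_right (mem_normalizer_of_conj_mem fun u hu => ?_)
    fun u hu v hv h1 h2 => ⟨idx h (hK hu) (hK hv) (fun e => h1 ⟨e, hu⟩) fun e => h2 ⟨e, hv⟩, mul_mem hu hv⟩).trans
    inf_le_left
  refine ⟨⟨xk hu.2, ?_⟩, (mem_normalizer_iff.1 hx u).1 hu.2⟩
  rw [show x * u * x⁻¹ * (x * u * x⁻¹) = x * (u * u) * x⁻¹ by group]
  exact d3 u hu.2 hu.1

end CIz

theorem Ctx.two (c : Ctx G) (h : T1 c.S R x s) : T2 c.S R x s := by
  refine ⟨h, ?_⟩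
  by_contra hI
  obtain ⟨d, a, k⟩ := CIz.cy c h hI
  refine k.tri.s_not (c.span0 (X := CIz.M k) (fun m hm y hy => CIz.hN k hm hy) (fun K y t h1 hb => ?_) k.mem).2
  have le := (supp_le h1.tri.xn).trans h1.crit.le
  by_cases h2 : Ix (c.S ⊓ normalizer (K : Set G)) K t
  · rcases (hb ⟨h1, h2⟩).kind with e | e | e
    · exact CIz.of_ix k h1.crit.le e h1.tri.xn
    · exact fun u hu => ⟨le hu, by rw [e.sq u hu]; exact one_mem _⟩
    · obtain ⟨j, i, q, -⟩ := h1.tri.q8_gen e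
      have hj : j ∈ c.S := le (q.eq.ge (subset_closure (by simp)))
      have hi : i ∈ c.S := le (q.eq.ge (subset_closure (by simp)))
      have := inv_mem (CIz.cm k hi hj)
      rw [commutatorElement_def, q.inv, ← mul_inv_rev, inv_inv] at this
      exact fun u hu => ⟨le hu, zpowers_le.2 this (q.phi_eq.le (mem_phi hu))⟩
  · obtain ⟨d', a', k'⟩ := CIz.cy c h1 h2
    exact fun u hu => ⟨le hu, k.der_le (commutator_mono k'.le k'.le
      (k'.phi_le_comm (mem_phi (supp_le h1.tri.xn hu))))⟩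

end Cfsg.Agent.GHJ
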