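import Mathlib
import Cfsg.Agent.GHJ.Defs3
import Cfsg.Agent.GHJ.TriB
import Cfsg.Agent.GHJ.TriG

/-! All triples of index two: the four-group `U`. See `stubs/Cfsg/Agent/GHJ/PLAN2.md`. -/

set_option autoImplicit false
set_option linter.unusedSectionVars false

namespace Cfsg.Agent.GHJ

open Cfsg.Agent.Inv.Fz Cfsg.Agent.NE Subgroup
open Cfsg.Agent.Loc.Mss (mem_cent cent_le_norm norm_cent norm_inf norm_sup conj_mem_of_norm conj_mem_of_norm')
open scoped commutatorElement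

variable {G : Type*} [Group G] [Finite G] {S R₁ R₂ F : Subgroup G} {ρ s₁ z u x s₂ f v w a : G}

namespace EB

theorem der_le_of_four {T U : Subgroup G} (hU : U ≤ T) (hn : T ≤ normalizer (U : Set G))
    (hc : Nat.card T = 4 * Nat.card U) : ⁅T, T⁆ ≤ U := commutator_le.2 fun a ha b hb => by
  have : (U.subgroupOf T).Normal := (normal_subgroupOf_iff_le_normalizer hU).2 hn
  have : Fact (Nat.Prime 2) := ⟨Nat.prime_two⟩
  have h1 := card_eq_card_quotient_mul_card_subgroup (U.subgroupOf T)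
  rw [Nat.card_congr (subgroupOfEquivOfLe hU).toEquiv, hc] at h1
  have h2 : Nat.card (T ⧸ U.subgroupOf T) = 2 ^ 2 := (Nat.eq_of_mul_eq_mul_right Nat.card_pos h1).symm
  have h3 := (IsPGroup.isMulCommutative_of_card_eq_prime_sq h2).is_comm.comm
    (QuotientGroup.mk (⟨a, ha⟩ : T)) (QuotientGroup.mk (⟨b, hb⟩ : T))
  rw [← commutatorElement_eq_one_iff_mul_comm] at h3
  exact (QuotientGroup.eq_one_iff (N := U.subgroupOf T) ⁅(⟨a, ha⟩ : T), ⟨b, hb⟩⁆).1 h3

theorem hom_card {T : Subgroup G} {t : G} {n : ℕ} (h : Hom T x t n) : Nat.card T = 2 ^ n * 2 ^ n := by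
  have e : T = zpowers t ⊔ zpowers (x * t * x⁻¹) := by
    rw [h.eq, zpowers_eq_closure, zpowers_eq_closure, ← Subgroup.closure_union]; rfl
  rw [e, GT.PG.card_sup_of_inf_eq_bot (zpowers_le.2 (cent_le_norm _ (mem_cent.2 fun y hy =>
    (comm_zpowers h.comm hy).symm))) h.disj, Nat.card_zpowers, Nat.card_zpowers, BsA.ord_cj, h.ord]

theorem zU : z ∈ closure ({z, u} : Set G) := subset_closure (by simp)
theorem uU : u ∈ closure ({z, u} : Set G) := subset_closure (by simp)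

section
variable (h : EC S R₁ ρ s₁ z u)
include h

theorem le : R₁ ≤ S := h.bas.crit.le
theorem z2 : z * z = 1 := h.el.sq _ zU
theorem u2 : u * u = 1 := h.el.sq _ uU
theorem zu : z * u = u * z := h.cz u (le h h.u_mem)
theorem u1 : u ≠ 1 := fun e => h.z_ne (by simpa [e] using h.rz)
theorem uz : u ≠ z := fun e => u1 h (by simpa [e, z2 h] using h.ru)
theorem uz1 : u * z ≠ 1 := fun e => uz h (by rw [← mul_one u, ← z2 h, ← mul_assoc, e, one_mul])
theorem mz : v ∈ zpowers z ↔ v = 1 ∨ v = z := mem_zpowers_sq (z2 h)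
theorem cj_z (hw : w ∈ S) : w * z * w⁻¹ = z := conj_eq_of_comm (h.cz w hw).symm

theorem cj_u (hw : w ∈ S) : w * u * w⁻¹ = u ∨ w * u * w⁻¹ = u * z := by
  rcases h.ix w hw with e | e
  · exact .inl (conj_eq_of_comm ((h.mem w hw).1 e))
  · refine .inr (conj_inj (g := s₁) |>.1 ?_)
    rw [conj_conj, conj_eq_of_comm ((h.mem _ (le h e)).1 e), conj_mul', h.su, cj_z h h.bas.mem, mul_assoc, z2 h, mul_one]

end

end EB

open EB

namespace EC
variable (h : EC S R₁ ρ s₁ z u)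
include h

theorem memU : v ∈ closure {z, u} ↔ v = 1 ∨ v = z ∨ v = u ∨ v = u * z :=
  zu h ▸ (TriB.four_aux (z2 h) (u2 h) (zu h)).1 v

theorem fused : ∀ v ∈ closure {z, u}, ∀ w ∈ closure {z, u}, v ≠ 1 → w ≠ 1 → IsConj v w := by
  have k : ∀ v ∈ closure {z, u}, v ≠ 1 → IsConj z v := fun v hv v1 => by
    rcases h.memU.1 hv with e | e | e | e <;> rw [e]
    · exact (v1 e).elim
    · exact isConj_iff.2 ⟨ρ, h.rz⟩
    · exact (isConj_iff.2 ⟨ρ, h.rz⟩).trans (isConj_iff.2 ⟨ρ, h.ru⟩)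
  exact fun v hv w hw v1 w1 => (k v hv v1).symm.trans (k w hw w1)

theorem czU (hw : w ∈ R₁) : Cz w (closure {z, u}) := fun v hv => by
  have c1 : Commute w z := (h.cz w (le h hw)).symm
  have c2 : Commute w u := (h.mem w (le h hw)).1 hw
  rcases h.memU.1 hv with e | e | e | e <;> rw [e]
  exacts [(Commute.one_right w).eq, c1.eq, c2.eq, (c2.mul_right c1).eq]

theorem normU : S ≤ normalizer ((closure {z, u} : Subgroup G) : Set G) ∧
    ρ ∈ normalizer ((closure {z, u} : Subgroup G) : Set G) := by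
  have k : ∀ g : G, g * z * g⁻¹ ∈ closure ({z, u} : Set G) → g * u * g⁻¹ ∈ closure ({z, u} : Set G) →
      g ∈ normalizer ((closure {z, u} : Subgroup G) : Set G) := fun g a b =>
    cj_eq_iff.1 (cj_eq_of_le (by
      rw [BsA.cj_pair]
      exact TriB.le_of_gen rfl a b))
  refine ⟨fun g hg => k g ((cj_z h hg).symm ▸ zU) ?_, k ρ (h.rz.symm ▸ uU) (h.ru.symm ▸ mul_mem uU zU)⟩
  rcases cj_u h hg with e | e <;> rw [e]
  exacts [uU, mul_mem uU zU]

theorem commU (hw : w ∈ S) (hv : v ∈ closure {z, u}) : ⁅w, v⁆ ∈ zpowers z := by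
  have k : ⁅w, u⁆ ∈ zpowers z := by
    rw [commutatorElement_def]
    rcases cj_u h hw with e | e <;> rw [e]
    · rw [mul_inv_cancel]; exact one_mem _
    · rw [← zu h, mul_inv_cancel_right]; exact mem_zpowers _
  rcases h.memU.1 hv with e | e | e | e <;> rw [e]
  · simp
  · rw [commutatorElement_eq_one_iff_mul_comm.2 (h.cz w hw).symm]; exact one_mem _
  · exact k
  · rwa [commutatorElement_def, conj_mul', cj_z h hw, mul_inv_rev, mul_assoc, mul_inv_cancel_left]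

theorem U_le : (closure {z, u} : Subgroup G) ≤ supp R₁ ρ := by
  have a : z ∈ supp R₁ ρ := by
    have := (comm_mem_supp (x := ρ) h.u_mem).1
    rwa [commutatorElement_def, h.ru, ← zu h, mul_inv_cancel_right] at this
  have b := mul_mem (comm_mem_supp (x := ρ) h.z_mem).1 a
  rw [commutatorElement_def, h.rz, inv_mul_cancel_right] at b
  exact TriB.le_of_gen rfl a b

theorem fpfU (hv : v ∈ closure {z, u}) (e : ρ * v = v * ρ) : v = 1 := by
  replace e := conj_eq_of_comm e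
  rcases h.memU.1 hv with k | k | k | k <;> rw [k] at e ⊢
  · exact (uz h (h.rz.symm.trans e)).elim
  · exact (h.z_ne (mul_eq_left.1 (h.ru.symm.trans e))).elim
  · rw [conj_mul', h.ru, h.rz] at e
    exact (u1 h (mul_eq_left.1 e)).elim

theorem central (hw : w ∈ S) (h2 : w * w = 1) (hc : Cz w S) : w ∈ zpowers z := by
  have e := conj_eq_of_comm (hc s₁ h.bas.mem).symm
  rcases h.memU.1 (h.om w ((h.mem w hw).2 (hc u (le h h.u_mem))) h2 fun r hr => hc r (le h hr)) with k | k | k | k <;>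
    rw [k] at e ⊢
  · exact one_mem _
  · exact mem_zpowers _
  · exact (h.z_ne (mul_eq_left.1 (h.su.symm.trans e))).elim
  · rw [conj_mul', h.su, cj_z h h.bas.mem] at e
    exact (h.z_ne (mul_eq_left.1 e)).elim

theorem ss : s₁ * s₁ ∈ fix R₁ ρ := mem_fix.2 ⟨h.bas.tri.ss, h.bas.tri.sx⟩

theorem t16 (hc : Nat.card (supp R₁ ρ) = 16) :
    supp R₁ ρ ⊓ fix R₁ ρ = ⊥ ∧ (El 16 (supp R₁ ρ) ∨ ∃ a, Hom (supp R₁ ρ) ρ a 2) := by
  have tri := h.bas.tri
  have TR : supp R₁ ρ ≤ R₁ := supp_le tri.xn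
  have nU : supp R₁ ρ ≤ normalizer ((closure {z, u} : Subgroup G) : Set G) := (TR.trans (le h)).trans h.normU.1
  have d := der_le_of_four h.U_le nU (by rw [hc, h.el.card])
  have f0 : ∀ k ∈ supp R₁ ρ, ρ * k = k * ρ → k = 1 := fun k hk e =>
    h.fpfU (d (tri.od.fix_le_comm ⟨hk, mem_fix.2 ⟨TR hk, e⟩⟩)) e
  have m : ∀ K ≤ supp R₁ ρ, ρ ∈ normalizer (K : Set G) → Nat.card K % 3 = 1 := fun K hK hn =>
    TriA.card_mod Nat.prime_three hn (fun k hk => h.cube k (TR (hK hk))) fun k hk => f0 k (hK hk)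
  have nP : ρ ∈ normalizer (phi (supp R₁ ρ) : Set G) := norm_phi mem_norm_supp
  have pU : phi (supp R₁ ρ) ≤ closure {z, u} := by
    have hK : closure {z, u} ⊔ phi (supp R₁ ρ) ≤ supp R₁ ρ := sup_le h.U_le phi_le
    have h1 := m _ hK (norm_sup (X := zpowers ρ) (zpowers_le.2 h.normU.2) (zpowers_le.2 nP) (mem_zpowers ρ))
    have h2 := card_dvd_of_le hK
    have h3 := card_le_of_le (le_sup_left : closure {z, u} ≤ closure {z, u} ⊔ phi (supp R₁ ρ))
    rw [hc] at h2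
    rw [h.el.card] at h3
    have h4 := Nat.le_of_dvd (by norm_num) h2
    have h5 : Nat.card (closure {z, u} ⊔ phi (supp R₁ ρ) : Subgroup G) = 4 ∨
        Nat.card (closure {z, u} ⊔ phi (supp R₁ ρ) : Subgroup G) = 16 := by
      generalize Nat.card (closure {z, u} ⊔ phi (supp R₁ ρ) : Subgroup G) = k at *
      interval_cases k <;> omega
    rcases h5 with e | e
    · exact le_sup_right.trans (eq_of_le_of_card_ge le_sup_left (by rw [e, h.el.card])).ge
    · have := card_le_of_le (le_of_sup_phi tri.odV.two h.U_le (eq_of_le_of_card_ge hK (by rw [e, hc])).ge)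
      rw [hc, h.el.card] at this
      omega
  refine ⟨le_bot_iff.1 fun k hk => mem_bot.2 (f0 k hk.1 (mem_fix.1 hk.2).2), ?_⟩
  have h1 := m _ phi_le nP
  have h2 := card_le_of_le pU
  rw [h.el.card] at h2
  have h3 : Nat.card (phi (supp R₁ ρ)) = 1 ∨ Nat.card (phi (supp R₁ ρ)) = 4 := by omega
  rcases h3 with e | e
  · exact .inl ⟨hc, fun a ha => mem_bot.1 ((card_eq_one.1 e).le (mem_phi ha))⟩
  · obtain ⟨t, n, -, hT⟩ := tri.odV.hom (le_bot_iff.1 fun k hk => mem_bot.2 (f0 k (mem_fix.1 hk).1 (mem_fix.1 hk).2))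
      (by rw [hc, e])
    have := hom_card hT
    rw [hc, ← pow_add, show 16 = 2 ^ 4 by norm_num] at this
    obtain rfl : n = 2 := by have := Nat.pow_right_injective le_rfl this; omega
    exact .inr ⟨t, hT⟩

end EC

namespace EB
variable (h : EF S R₁ ρ s₁ z u R₂ x s₂ f F)
include h

theorem fF : f ∈ F := h.F_eq.ge (subset_closure (by simp))
theorem UF : closure {z, u} ≤ F :=
  TriB.le_of_gen rfl (h.F_eq.ge (subset_closure (by simp))) (h.F_eq.ge (subset_closure (by simp)))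
theorem le₂ : R₂ ≤ S := h.bas₂.crit.le
theorem FS : F ≤ S := h.F_le.trans (inf_le_right.trans (le₂ h))
theorem cF (hv : v ∈ F) (hw : w ∈ F) : v * w = w * v := comm_of_sq h.elF.sq hv hw
theorem xZ (hv : v ∈ zpowers z) : x * v * x⁻¹ = v := conj_eq_of_comm (comm_zpowers h.xz hv)
theorem ZU : zpowers z ≤ closure {z, u} := zpowers_le.2 zU

theorem F_ext : F = ext (closure {z, u}) f := by
  rw [h.F_eq, NE.ext, zpowers_eq_closure, ← Subgroup.closure_union]
  congr 1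
  ext; simp only [Set.mem_insert_iff, Set.mem_singleton_iff, Set.mem_union, or_assoc]

/-- `U = Z ∪ u Z`. -/
theorem splitU (hv : v ∈ closure {z, u}) : v ∈ zpowers z ∨ ∃ c ∈ zpowers z, v = u * c := by
  rcases h.toEC.memU.1 hv with e | e | e | e <;> rw [e]
  exacts [.inl (one_mem _), .inl (mem_zpowers _), .inr ⟨1, one_mem _, (mul_one _).symm⟩, .inr ⟨z, mem_zpowers _, rfl⟩]

theorem x3 (hv : v ∈ R₂) : x * (x * (x * v * x⁻¹) * x⁻¹) * x⁻¹ = v := by
  have := conj_eq_of_comm (h.cube₂ v hv)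
  calc _ = x ^ 3 * v * (x ^ 3)⁻¹ := by rw [pow_three]; group
    _ = v := this

end EB

namespace EF
variable (h : EF S R₁ ρ s₁ z u R₂ x s₂ f F)
include h

theorem memF : v ∈ F ↔ v ∈ closure {z, u} ∨ f * v ∈ closure {z, u} := by
  rw [F_ext h]
  exact (ext_elem h.el.sq (h.elF.sq f (fF h)) fun a ha => cF h (fF h) (UF h ha)).1 v

theorem f_not : f ∉ closure {z, u} := h.f_eq ▸ h.move

theorem commF (hw : w ∈ S) (hv : v ∈ F) : ⁅w, v⁆ ∈ closure {z, u} := by
  by_cases k : v ∈ closure {z, u}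
  · exact ZU h (h.toEC.commU hw k)
  · exact Ix.mul_mem (S := F) (s := f) (fun y hy => h.memF.1 hy) (conj_mem_of_norm (h.nF hw) hv) (inv_mem hv)
      (fun e => k ((conj_mem_norm (h.toEC.normU.1 hw)).1 e)) fun e => k (inv_mem_iff.1 e)

theorem C_le : S ⊓ centralizer (F : Set G) ≤ R₁ ⊓ R₂ := fun y hy =>
  ⟨(h.mem y hy.1).2 (mem_cent.1 hy.2 u (UF h uU)).symm, (h.mem₂ y hy.1).2 fun v hv => by
    rw [commutatorElement_eq_one_iff_mul_comm.2 (mem_cent.1 hy.2 v hv).symm]; exact one_mem _⟩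

theorem xC : x ∈ normalizer ((S ⊓ centralizer (F : Set G) : Subgroup G) : Set G) :=
  mem_normalizer_of_conj_mem fun _ hy => ⟨le₂ h (conj_mem_of_norm h.bas₂.tri.xn (h.C_le hy).2),
    conj_mem_of_norm (normalizer_le_normalizer_centralizer F h.xF) hy.2⟩

theorem nC : S ≤ normalizer ((S ⊓ centralizer (F : Set G) : Subgroup G) : Set G) :=
  norm_inf le_normalizer (norm_cent h.nF)

theorem memC (hw : w ∈ R₁) : w ∈ S ⊓ centralizer (F : Set G) ↔ w * f = f * w := by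
  refine ⟨fun k => (mem_cent.1 k.2 f (fF h)).symm, fun k => ⟨le h.toEC hw, mem_cent.2 fun v hv => ?_⟩⟩
  rcases h.memF.1 hv with e | e
  · exact (h.toEC.czU hw v e).symm
  · have := h.toEC.czU hw _ e
    rw [← mul_assoc, k, mul_assoc, mul_assoc] at this
    exact (mul_left_cancel this).symm

theorem UU (hv : v ∈ closure {z, u}) (e : x * v * x⁻¹ ∈ closure {z, u}) : v ∈ zpowers z := by
  rcases splitU h hv with k | ⟨c, hc, rfl⟩
  · exact k
  · rw [conj_mul', xZ h hc] at e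
    exact (h.move ((mul_mem_cancel_right (ZU h hc)).1 e)).elim

theorem fpfF (hv : v ∈ F) (e : ⁅x, v⁆ ∈ zpowers z) : v ∈ zpowers z := by
  have k : ∀ y c, c ∈ zpowers z → ⁅x, y * c⁆ = ⁅x, y⁆ := fun y c hc => by
    rw [commutatorElement_def, commutatorElement_def, conj_mul', xZ h hc]; group
  have fu : f * u⁻¹ ∉ closure {z, u} := fun e => h.f_not ((mul_mem_cancel_right (inv_mem uU)).1 e)
  have ff := h.elF.sq f (fF h)
  rcases h.memF.1 hv with e1 | e1
  · exact h.UU e1 ((mul_mem_cancel_right (inv_mem e1)).1 (ZU h e))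
  rw [← sq_cancel ff v] at e
  refine (fu ?_).elim
  rcases splitU h e1 with hc | ⟨c, hc, e2⟩
  · rw [k _ _ hc] at e
    have : x * (f * u⁻¹) * x⁻¹ = ⁅x, f⁆ := by rw [commutatorElement_def, conj_mul', ← conj_inv, ← h.f_eq]
    rw [conj_inj.1 (this.trans (xZ h e).symm)]
    exact ZU h e
  · rw [e2, ← mul_assoc, k _ _ hc] at e
    have e3 : ⁅x, f * u⁆ = x * f * x⁻¹ * u⁻¹ := by
      rw [commutatorElement_def, conj_mul', ← h.f_eq, cF h (fF h) (UF h uU)]; group
    have e4 : x * ⁅x, f * u⁆ * x⁻¹ = (f * u⁻¹)⁻¹ := by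
      rw [e3, conj_mul', ← conj_inv, ← h.f_eq, mul_inv_rev f, inv_inv]
      nth_rewrite 1 [h.f_eq]
      rw [x3 h h.u_mem₂]
    rw [← inv_mem_iff, ← e4, xZ h e]
    exact ZU h e

/-- An `E₁₆` over `F` that is centralised by `C_S(F)` modulo `U` is normalised by `x`. -/
theorem jlem (h4 : Rk 16 S) (hw : w ∈ S) (w2 : w * w = 1) (hc : Cz w F) (hF : w ∉ F)
    (hU : ∀ y ∈ S, Cz y F → ⁅y, w⁆ ∈ closure {z, u}) : x ∈ normalizer ((F ⊔ zpowers w : Subgroup G) : Set G) := by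
  have mC : ∀ y, y ∈ S ⊓ centralizer (F : Set G) ↔ y ∈ S ∧ Cz y F := fun y => and_congr_right fun _ => TriA.cz_iff.symm
  have wC := (mC w).2 ⟨hw, hc⟩
  obtain ⟨mA, sA, cA⟩ := ext_elem h.elF.sq w2 hc
  replace cA : Nat.card (ext F w) = 16 := by rw [cA hF, h.elF.card]
  have AS : ext F w ≤ S := ext_le.2 ⟨FS h, hw⟩
  change x ∈ normalizer (ext F w : Set G)
  obtain ⟨g, hg⟩ : ∃ g, g = x * w * x⁻¹ := ⟨_, rfl⟩
  obtain ⟨g', hg'⟩ : ∃ g', g' = x * g * x⁻¹ := ⟨_, rfl⟩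
  have hw' : w = x * g' * x⁻¹ := by rw [hg', hg, x3 h (h.C_le wC).2]
  have gC := (mC g).1 (hg ▸ conj_mem_of_norm h.xC wC)
  have gC' := (mC g').1 (hg' ▸ conj_mem_of_norm h.xC ((mC g).2 gC))
  have g2 : g * g = 1 := by rw [hg, ← conj_mul', w2]; group
  have g2' : g' * g' = 1 := by rw [hg', ← conj_mul', g2]; group
  by_cases gA : g ∈ ext F w
  · refine cj_eq_iff.1 (cj_eq_of_le ?_)
    rw [cj_ext, cj_eq_iff.2 h.xF]
    exact ext_le.2 ⟨le_ext _ _, hg ▸ gA⟩
  exfalso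
  have cj : ∀ a b : G, x * ⁅a, b⁆ * x⁻¹ = ⁅x * a * x⁻¹, x * b * x⁻¹⁆ := fun a b => by
    simp only [commutatorElement_def]; group
  have c1 : ⁅g', w⁆ ∈ zpowers z :=
    h.UU (hU g' gC'.1 gC'.2) (by rw [cj, ← hw', ← hg]; exact TriA.cinv.1 (hU g gC.1 gC.2))
  have c2 : ⁅w, g⁆ = ⁅g', w⁆ := by rw [← xZ h c1, cj, ← hw', ← hg]
  have c3 : ⁅g, g'⁆ = ⁅g', w⁆ := by rw [← xZ h c1, ← c2, cj, ← hg, ← hg']
  have cm : ∀ a b c : G, Cz a F → b * b = 1 → b * c ∈ F → ⁅a, c⁆ = ⁅a, b⁆ := fun a b c ha hb e => by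
    rw [← sq_cancel hb c, commutatorElement_def, commutatorElement_def, conj_mul', conj_eq_of_comm (ha _ e)]
    group
  have c0 : ∀ a c : G, Cz a F → c ∈ F → ⁅a, c⁆ = 1 := fun a c ha e =>
    commutatorElement_eq_one_iff_mul_comm.2 (ha c e)
  have cA' : ∀ a, Cz a F → ∀ y ∈ ext F w, ⁅a, y⁆ = 1 ∨ ⁅a, y⁆ = ⁅a, w⁆ := fun a ha y hy =>
    ((mA y).1 hy).imp (c0 a y ha) (cm a w y ha w2)
  have ne : ⁅g', w⁆ ≠ 1 := fun e => gA (h4.five (K := ⊥) AS bot_le (fun y hy => mem_bot.2 (sA y hy))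
    (by rw [cA, card_bot]) gC.1 (mem_bot.2 g2) fun y hy => mem_bot.2 ((cA' g gC.2 y hy).elim id fun k => by
      rw [k, ← commutatorElement_inv, c2, e, inv_one]))
  have ZA : zpowers z ≤ ext F w := ((ZU h).trans (UF h)).trans (le_ext _ _)
  have gw : ∀ y ∈ ext F w, ⁅g, y⁆ ∈ zpowers z := fun y hy => by
    rcases cA' g gC.2 y hy with k | k <;> rw [k]
    exacts [one_mem _, TriA.cinv.1 (c2 ▸ c1)]
  have gn := BsA.norm_of_comm fun y hy => ZA (gw y hy)
  have g1 : g * g ∈ ext F w := g2 ▸ one_mem _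
  have sq : ∀ y, g * y ∈ ext F w → y * y = ⁅g, g * y⁆ := fun y e => by
    rw [commutatorElement_def, inv_of_sq g2, inv_of_sq (sA _ e), sq_cancel g2, ← mul_assoc, mul_assoc y, g2, mul_one]
  have L : g' ∈ ext (ext F w) g := h4.five (K := zpowers z) (ext_le.2 ⟨AS, gC.1⟩) (ZA.trans (le_ext _ _))
    (fun y hy => ((mem_ext gn g1).1 hy).elim (fun e => sA y e ▸ one_mem _) fun e => sq y e ▸ gw _ e)
    (by rw [card_ext gn g1 gA, cA, Nat.card_zpowers, orderOf_eq_prime (by rw [pow_two, z2 h.toEC]) h.z_ne])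
    gC'.1 (g2' ▸ one_mem _) fun y hy => by
      have k : ∀ y ∈ ext F w, ⁅g', y⁆ ∈ zpowers z := fun y hy => by
        rcases cA' g' gC'.2 y hy with k | k <;> rw [k]
        exacts [one_mem _, c1]
      rcases (mem_ext gn g1).1 hy with e | e
      · exact k y e
      · have k1 : ⁅g', g⁆ ∈ zpowers z := TriA.cinv.1 (c3 ▸ c1)
        have k2 := k _ e
        rw [← sq_cancel g2 y, show ⁅g', g * (g * y)⁆ = ⁅g', g⁆ * (g * ⁅g', g * y⁆ * g⁻¹) by
          simp only [commutatorElement_def]; group, conj_eq_of_comm (comm_zpowers (h.cz g gC.1).symm k2)]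
        exact mul_mem k1 k2
  rcases (mem_ext gn g1).1 L with e | e
  · exact ne (commutatorElement_eq_one_iff_mul_comm.2 (comm_of_sq sA e (self_mem_ext _ _)))
  · have k := sq _ e
    rw [g2', show ⁅g, g * g'⁆ = g * ⁅g, g'⁆ * g⁻¹ by simp only [commutatorElement_def]; group, c3] at k
    exact ne (by simpa using k.symm)

end EF

end Cfsg.Agent.GHJ
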