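import Mathlib
import Cfsg.Agent.GHJ.Defs3
import Cfsg.Agent.GHJ.XC
import Cfsg.Agent.GHJ.HamB
import Cfsg.Agent.GHJ.FF

/-! Two groups of type X: the end. See `stubs/Cfsg/Agent/GHJ/PLAN2.md`. -/

set_option autoImplicit false
set_option linter.unusedSectionVars false

namespace Cfsg.Agent.GHJ

open Cfsg.Agent.Inv.Fz Cfsg.Agent.NE Subgroup
open scoped commutatorElement

variable {G : Type*} [Group G] [Finite G] {S R K N Θ Θ' H : Subgroup G} {x s g v a b a' b' y : G} {n n' : ℕ}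

namespace XE

open TriA

theorem cn {w k : G} (hg : g ∈ normalizer (zpowers w : Set G)) (hk : k ∈ normalizer (zpowers w : Set G)) :
    ⁅g, k⁆ * w = w * ⁅g, k⁆ := by
  obtain ⟨i, hi⟩ := (conj_mem_norm (inv_mem hg)).2 (mem_zpowers w)
  obtain ⟨j, hj⟩ := (conj_mem_norm (inv_mem hk)).2 (mem_zpowers w)
  dsimp only at hi hj
  have e : k⁻¹ * (g⁻¹ * w * g⁻¹⁻¹) * k⁻¹⁻¹ = g⁻¹ * (k⁻¹ * w * k⁻¹⁻¹) * g⁻¹⁻¹ := by
    rw [← hi, ← conj_zpow, ← hj, ← conj_zpow, ← hi, ← zpow_mul, ← zpow_mul, mul_comm]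
  calc ⁅g, k⁆ * w = g * k * (g⁻¹ * (k⁻¹ * w * k⁻¹⁻¹) * g⁻¹⁻¹) * g⁻¹ * k⁻¹ := by rw [commutatorElement_def]; group
    _ = _ := by rw [← e, commutatorElement_def]; group

theorem comm_mem (hg : g ∈ normalizer (K : Set G)) (hv : v ∈ K) : ⁅g, v⁆ ∈ K :=
  mul_mem ((conj_mem_norm hg).2 hv) (inv_mem hv)

variable {c : Ctx G} (h : XH c.S R x s Θ a b n Θ' a' b')
include h

theorem bS : b ∈ c.S := h.xt.le (DihA.bm h.td.dq)
theorem bS' : b' ∈ c.S := h.xt'.le (DihA.bm h.gd.dq)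

theorem mx : zpowers (b * b' * (b * b')) = zpowers a ∧ zz (b * b') (n + 1) = zz a n ∧ Mx (Θ ⊔ Θ') (b * b') b (n + 1) :=
  let k := h.td.dq.double h.gd.dq h.eq (h.xt.comm h.td.dq (bS' h)).1 h.swap
  ⟨k.1, k.2.1, k.2.2.1⟩

theorem nH : c.S ≤ normalizer ((Θ ⊔ Θ' : Subgroup G) : Set G) := Loc.Mss.norm_sup h.xt.norm h.xt'.norm
theorem le : Θ ⊔ Θ' ≤ c.S := sup_le h.xt.le h.xt'.le

theorem nC (hg : g ∈ normalizer (c.S : Set G)) (hg' : g ∈ normalizer ((Θ ⊔ Θ' : Subgroup G) : Set G)) :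
    g ∈ normalizer ((c.S ⊓ centralizer ((Θ ⊔ Θ' : Subgroup G) : Set G) : Subgroup G) : Set G) :=
  Loc.Mss.norm_inf (zpowers_le.2 hg) (Loc.Mss.norm_cent (zpowers_le.2 hg')) (mem_zpowers g)

theorem na (hy : y ∈ c.S) : y ∈ normalizer (zpowers (b * b') : Set G) := by
  refine cj_eq_iff.1 (cj_eq_of_le ?_)
  have l : zpowers a ≤ zpowers (b * b') := (mx h).1.ge.trans (zpowers_le.2 (mul_mem (mem_zpowers _) (mem_zpowers _)))
  rw [cj_zpowers, zpowers_le, show y * (b * b') * y⁻¹ = ⁅y, b⁆ * (b * ⁅y, b'⁆ * b⁻¹) * (b * b') by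
    simp only [commutatorElement_def]; group]
  exact mul_mem (mul_mem (l (h.xt.comm h.td.dq hy).1)
    (l ((conj_mem_norm (h.xt.na (bS h))).2 (h.eq.le (h.xt'.comm h.gd.dq hy).1)))) (mem_zpowers _)

theorem dec (hy : y ∈ c.S) : ∃ t ∈ Θ ⊔ Θ', ∃ k ∈ c.S, k * b = b * k ∧ y = k * t := by
  have k : ∀ y ∈ c.S, y ∈ cls Θ b → ∃ t ∈ Θ ⊔ Θ', ∃ k ∈ c.S, k * b = b * k ∧ y = k * t := fun y hy e => by
    obtain ⟨i, hi⟩ := h.td.dq.cls_decomp (h.xt.na hy) ((mem_cls (h.xt.norm hy)).1 e)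
    have m : a ^ i ∈ Θ := zpow_mem (BsA.am h.td.dq) i
    exact ⟨_, mem_sup_left (inv_mem m), _, mul_mem hy (h.xt.le m), hi, by group⟩
  rcases h.td.dq.ix_cls h.xt.norm h.xt.na (bS' h) (mt (mem_cls (h.xt.norm (bS' h))).1 h.swap) y hy with e | e
  · exact k y hy e
  · obtain ⟨t, ht, k, hk, e1, e2⟩ := k _ (mul_mem (bS' h) hy) e
    refine ⟨_, mul_mem ((conj_mem_norm (nH h (inv_mem hk))).2 (inv_mem (mem_sup_right (DihA.bm h.gd.dq)))) ht, k, hk,
      e1, ?_⟩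
    rw [eq_inv_mul_of_mul_eq e2]
    group

theorem good (hX : c.AllX) {R' : Subgroup G} {x' s' : G} (hb : Bas c.S R' x' s') :
    (El 4 (supp R' x') ∨ Q8 (supp R' x')) ∧ (supp R' x' ≤ Θ ⊔ Θ' ∨
      (supp R' x' ≤ c.S ⊓ centralizer ((Θ ⊔ Θ' : Subgroup G) : Set G) ∧ supp R' x' ⊓ (Θ ⊔ Θ') = ⊥)) := by
  have g := hb.kind.elim (fun k => c.xh_good h (hb.toT1.loc c.pS c.r4 k)) id
  refine ⟨g, ?_⟩
  obtain ⟨Θ₀, a₀, b₀, n₀, h₀, l⟩ : ∃ Θ₀ a₀ b₀ n₀, XG c.S Θ₀ a₀ b₀ n₀ ∧ supp R' x' ≤ Θ₀ := by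
    rcases g with k | k
    · obtain ⟨Θ₀, a₀, b₀, n₀, h1, h2⟩ := (hX R' x' s' hb.toT2).1 k
      exact ⟨Θ₀, a₀, b₀, n₀, ⟨⟨R', x', s', .inl h1⟩, h2⟩,
        TriB.le_of_gen h1.eq (pow_mem (BsA.am h1.dq) _) (DihA.bm h1.dq)⟩
    · obtain ⟨Θ₀, a₀, b₀, n₀, h1, h2⟩ := (hX R' x' s' hb.toT2).2 k
      exact ⟨Θ₀, a₀, b₀, n₀, ⟨⟨R', x', s', .inr h1⟩, h2⟩,
        TriB.le_of_gen h1.eq (pow_mem (BsA.am h1.dq) _) (DihA.bm h1.dq)⟩
  rcases c.xh_cases h h₀ with e | e | e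
  · exact .inl (l.trans (e.le.trans le_sup_left))
  · exact .inl (l.trans (e.le.trans le_sup_right))
  · refine .inr ⟨l.trans fun u hu => ⟨h₀.xt.le hu, cz_iff.1 fun v hv => commutatorElement_eq_one_iff_mul_comm.1
      (e.le ⟨cinv.1 (comm_mem (h₀.xt.norm (le h hv)) hu), comm_mem (nH h (h₀.xt.le hu)) hv⟩)⟩,
      eq_bot_iff.2 ((inf_le_inf_right _ l).trans e.le)⟩

end XE

open XE TriA

theorem Ctx.xh_span (c : Ctx G) (hX : c.AllX) (h : XH c.S R x s Θ a b n Θ' a' b') :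
    c.S ≤ Θ ⊔ Θ' ⊔ c.S ⊓ centralizer ((Θ ⊔ Θ' : Subgroup G) : Set G) := by
  have nX : c.S ≤ normalizer ((Θ ⊔ Θ' ⊔ c.S ⊓ centralizer ((Θ ⊔ Θ' : Subgroup G) : Set G) : Subgroup G) : Set G) :=
    Loc.Mss.norm_sup (nH h) fun g hg => nC h (le_normalizer hg) (nH h hg)
  have k : ∀ v ∈ c.S, (∀ k ∈ c.S, k * b = b * k →
      ⁅k, v⁆ ∈ Θ ⊔ Θ' ⊔ c.S ⊓ centralizer ((Θ ⊔ Θ' : Subgroup G) : Set G)) →
      ∀ u ∈ c.S, ⁅u, v⁆ ∈ Θ ⊔ Θ' ⊔ c.S ⊓ centralizer ((Θ ⊔ Θ' : Subgroup G) : Set G) := fun v hv e u hu => by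
    obtain ⟨t, ht, k, hk, e1, rfl⟩ := dec h hu
    exact (mul_mem (show k ∈ stab _ v from ⟨nX hk, e k hk e1⟩)
      ⟨nX (le h ht), mem_sup_left (cinv.1 (comm_mem (nH h hv) ht))⟩).2
  refine c.span (fun u hu v hv => k v hv (fun p hp e1 => cinv.1 (k p hp (fun q hq e2 => mem_sup_right
    ⟨comm_mem (le_normalizer hq) hp, ?_⟩) v hv)) u hu)
    (fun m hm o y hy => mem_sup_right ⟨comm_mem hm hy,
      cz_iff.1 ((od_of_odd c.pS hm o).comm_cz (c.xh_norm h hm o) (nH h hy))⟩) fun R' x' s' hb => ?_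
  · refine Loc.Mss.cent_comm (TriB.le_of_gen (mx h).2.2.eq ?_ ?_) (mem_zpowers ⁅q, p⁆) <;>
      rw [GT.centralizer_zpowers, mem_centralizer_singleton_iff]
    · exact (cn (na h hq) (na h hp)).symm
    · have c1 : Commute b q := e2.symm
      have c2 : Commute b p := e1.symm
      exact ((c1.mul_right c2).mul_right c1.inv_right).mul_right c2.inv_right
  · exact (good h hX hb).2.elim (fun e => e.trans le_sup_left) fun e => e.1.trans le_sup_right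

theorem Ctx.noXH (c : Ctx G) (hX : c.AllX) (h : XH c.S R x s Θ a b n Θ' a' b') : False := by
  have : Fact (Nat.Prime 2) := ⟨Nat.prime_two⟩
  obtain ⟨-, ez, hm⟩ := mx h
  have sp := c.xh_span hX h
  have gd := fun R' x' s' => good (R' := R') (x' := x') (s' := s') h hX
  have nC' : ∀ g ∈ normalizer (c.S : Set G), g ∈ normalizer ((Θ ⊔ Θ' : Subgroup G) : Set G) → _ := fun g => nC h
  have memC : ∀ y, y ∈ c.S ⊓ centralizer ((Θ ⊔ Θ' : Subgroup G) : Set G) ↔ y ∈ c.S ∧ Cz y (Θ ⊔ Θ') := fun y => by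
    rw [mem_inf, cz_iff]
  generalize c.S ⊓ centralizer ((Θ ⊔ Θ' : Subgroup G) : Set G) = C at sp gd nC' memC
  have nH' := nH h
  have HS := le h
  have nm := fun m hm o => c.xh_norm (g := m) h hm o
  have VH : supp R x ≤ Θ ⊔ Θ' :=
    (TriB.le_of_gen h.td.eq (pow_mem (BsA.am h.td.dq) _) (DihA.bm h.td.dq)).trans le_sup_left
  have zV : zz a n ∈ supp R x := h.td.eq.ge (subset_closure (by simp))
  have bV : b ∈ supp R x := h.td.eq.ge (subset_closure (by simp))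
  have zS : Cz (zz a n) c.S := (h.xt.comm h.td.dq (one_mem _)).2
  obtain ⟨z1, z2, zP⟩ := hm.zz_ne
  have cen := fun g => hm.center (g := g)
  rw [ez] at z1 z2 zP cen
  generalize zz a n = z at zV zS z1 z2 zP cen
  have ds : DS (Θ ⊔ Θ') := .inr ⟨_, _, _, hm, h.td.sq⟩
  have el := fun K => hm.el_le (K := K)
  have bA : b ∉ zpowers z := fun e => by
    have := ((cen b (VH bV)).2 e) _ (hm.eq.ge (subset_closure (Set.mem_insert _ _)))
    exact h.swap (by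
      rw [mul_assoc, mul_right_inj] at this
      rw [commutatorElement_eq_one_iff_mul_comm.2 this.symm]; exact one_mem _)
  generalize Θ ⊔ Θ' = H at sp gd nC' memC nH' HS nm VH zP cen ds el
  have CS : C ≤ c.S := fun y hy => ((memC y).1 hy).1
  have cC : ∀ y ∈ C, ∀ u ∈ H, y * u = u * y := fun y hy => ((memC y).1 hy).2
  have zC : z ∈ C := (memC z).2 ⟨HS (VH zV), fun u hu => zS u (HS hu)⟩
  have phiD : ∀ {R' : Subgroup G} {x' s' : G}, T2 c.S R' x' s' → El 4 (supp R' x') → ∀ K ≤ c.S,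
      (∀ k ∈ K, Cz k (supp R' x')) → phi K ≤ fix R' x' := fun t e K hK k =>
    (phi_mono fun y hy => (t.good c.pS (.inl e)).1 y (hK hy) (k y hy)).trans (t.tri.four_phi e)
  have zn : z ∉ phi C := fun e => z1 ((h.td.t2.tri.four_disj h.td.four).le
    ⟨zV, phiD h.td.t2 h.td.four C CS (fun k hk u hu => cC k hk u (VH hu)) e⟩)
  obtain ⟨C₀, l0, -, p0, d0, s0⟩ := (od_of_odd (x := 1) (c.pS.to_le CS) (one_mem _) (by simp)).compl
    (zpowers_le.2 zC) (one_mem _) (fun u hu r hr => (comm_zpowers (zS r (CS hr)).symm hu).symm)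
    (eq_bot_iff.2 fun u hu => ((mem_zpowers_sq z2).1 hu.1).elim id fun e => (zn (e ▸ hu.2)).elim)
  have z0 : z ∉ C₀ := fun e => z1 (d0.le ⟨mem_zpowers z, e⟩)
  have zN : z ∈ normalizer (C₀ : Set G) := mem_normalizer_of_conj_mem fun u hu => by
    rwa [conj_eq_of_comm (zS u (CS (l0 hu)))]
  have m0 : ∀ y ∈ C, y ∈ C₀ ∨ z * y ∈ C₀ := fun y hy =>
    (mem_ext zN (z2 ▸ one_mem _)).1 ((sup_comm (zpowers z) C₀).le (s0 hy))
  have dj : H ⊓ C₀ = ⊥ := eq_bot_iff.2 fun u hu => d0.le ⟨(cen u hu.1).1 (cC u (l0 hu.2)), hu.2⟩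
  have eS : c.S = H ⊔ C₀ := le_antisymm (sp.trans (sup_le le_sup_left (s0.trans
    (sup_le_sup_right (zpowers_le.2 (VH zV)) _)))) (sup_le HS (l0.trans CS))
  have np : ¬ DS C₀ := fun k => c.not_prod ds k (fun u hu y hy => (cC y (l0 hy) u hu).symm) dj eS
  by_cases ha : ∃ R' x' s', Bas c.S R' x' s' ∧ El 4 (supp R' x') ∧ supp R' x' ≤ C ∧ supp R' x' ⊓ H = ⊥
  · obtain ⟨R', x', s', hb, e4, VC, VH'⟩ := ha
    have t := hb.toT2
    have dV := t.tri.four_disj e4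
    have zD : z ∈ fix R' x' := phiD t e4 H HS (fun k hk u hu => (cC u (VC hu) k hk).symm) zP
    obtain ⟨a1, a2, a3⟩ := ext_elem e4.sq z2 fun u hu => zS u (CS (VC hu))
    have c8 := a3 fun e => z1 (dV.le ⟨e, zD⟩)
    have EC : ext (supp R' x') z ≤ C := ext_le.2 ⟨VC, zC⟩
    have key : ∀ d ∈ C, d ∈ fix R' x' → d ∈ zpowers z := fun d h1 h2 => by
      by_contra h3
      obtain ⟨e, he, e1, e2⟩ := exists_pow_not_mem c.pS (CS h1) h3
      have eC := zpowers_le.2 h1 he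
      have eD := zpowers_le.2 h2 he
      have ee : e * e = 1 := ((mem_zpowers_sq z2).1 e2).resolve_right fun k => zn (k ▸ mem_phi eC)
      obtain ⟨-, b2, b3⟩ := ext_elem a2 ee fun u hu => by
        rcases (a1 u).1 hu with k | k
        · exact (t.tri.four_cz e4 k e eD.1).symm
        · have := t.tri.four_cz e4 k e eD.1
          rw [mul_assoc, ← mul_assoc e, ← zS e (CS eC), mul_assoc, mul_right_inj] at this
          exact this.symm
      have c16 := b3 fun k => e1 (((a1 e).1 k).elim (fun k => (mem_bot.1 (dV.le ⟨k, eD⟩)).symm ▸ one_mem _) fun k =>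
        (mul_mem_cancel_left (mem_zpowers z)).1 ((mem_bot.1 (dV.le ⟨k, mul_mem zD eD⟩)).symm ▸ one_mem _))
      have EC' := ext_le.2 ⟨EC, eC⟩
      exact bA ((cen b (VH bV)).1 (cC b (EC' (c.r4.mem_el16 ⟨by rw [c16, c8, e4.card], b2⟩ (EC'.trans CS) (HS (VH bV))
        h.td.sq fun u hu => (cC u (EC' hu) b (VH bV)).symm))))
    have c4 := Ix.card_le (s := z) (M := C₀) m0 EC
    have c5 : 2 * Nat.card (ext (supp R' x') z ⊓ C₀ : Subgroup G) ≤ Nat.card (ext (supp R' x') z) := by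
      rw [← (ext_elem (A := ext (supp R' x') z ⊓ C₀) (fun u hu => a2 u hu.1) z2
        fun u hu => zS u (CS (l0 hu.2))).2.2 fun e => z0 e.2]
      exact card_le_of_le (ext_le.2 ⟨inf_le_left, self_mem_ext _ _⟩)
    refine np (ds_of_four (V := ext (supp R' x') z ⊓ C₀) (c.pS.to_le (l0.trans CS))
      ⟨by have := e4.card; omega, fun u hu => a2 u hu.1⟩ inf_le_right fun y hy k => ⟨?_, hy⟩)
    have yS := CS (l0 hy)
    obtain ⟨u, hu, d, hd, rfl⟩ := t.tri.od.decomp ((t.good c.pS (.inl e4)).1 y yS fun u hu => by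
      rcases m0 u (VC hu) with e | e
      · exact k u ⟨le_ext _ _ hu, e⟩
      · have := k _ ⟨mul_mem (self_mem_ext _ _) (le_ext _ _ hu), e⟩
        rwa [← mul_assoc, ← zS y yS, mul_assoc, mul_assoc, mul_right_inj] at this)
    exact mul_mem (le_ext _ _ hu) (mem_sup_right (key d ((mul_mem_cancel_left (VC hu)).1 (l0 hy)) hd))
  have nS : ∀ m ∈ normalizer (c.S : Set G), Odd (orderOf m) → m ∈ normalizer (H : Set G) := fun m hm o =>
    Loc.Mss.cent_le_norm _ (cz_iff.1 (nm m hm o))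
  have nW : ∀ g ∈ normalizer (c.S : Set G), g ∈ normalizer (H : Set G) →
      g ∈ normalizer ((phi C ⊓ centralizer (c.S : Set G) : Subgroup G) : Set G) := fun g h1 h2 =>
    Loc.Mss.norm_inf (zpowers_le.2 (norm_phi (nC' g h1 h2))) (Loc.Mss.norm_cent (zpowers_le.2 h1)) (mem_zpowers g)
  have sq : ∀ y ∈ C, y * y = 1 := by
    refine phi_le_iff.1 (show phi C ≤ ⊥ from by_contra fun ne => ?_)
    obtain ⟨w, w1, w2, -, w3⟩ := exists_central_mod c.pS le_normalizer_of_normal (phi_le.trans CS)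
      (fun g hg => norm_phi (nC' g (le_normalizer hg) (nH' hg))) ne
    obtain ⟨R', x', s', hb, y, -, hy, e⟩ := c.exists_move (X := phi C ⊓ centralizer (c.S : Set G))
      (inf_le_left.trans (phi_le.trans CS)) (fun g hg => nW g (le_normalizer hg) (nH' hg))
      (fun m hm o => nW m hm (nS m hm o))
      (fun e => w2 (e.le ⟨w1, fun r hr => comm_of_conj_eq (mul_inv_eq_one.1 (w3 r hr))⟩))
      fun u hu v hv r _ => by
        rw [commutatorElement_eq_one_iff_mul_comm.2 (hv.2 u (CS (phi_le hu.1))), one_mul, mul_one]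
    suffices k : x' * y = y * x' from e (by rwa [conj_eq_of_comm k])
    obtain ⟨k | k, k'⟩ := gd R' x' s' hb
    · exact (mem_fix.1 (phiD hb.toT2 k C CS (fun y hy u hu =>
        cC y hy u (k'.resolve_right (fun e => ha ⟨R', x', s', hb, k, e⟩) hu)) hy.1)).2
    · exact hb.toT2.q8_central k (CS (phi_le hy.1)) (cz_iff.2 hy.2)
  have c4 : Nat.card C₀ ≤ 4 := by
    simpa using c.r4.four (VH.trans HS) bot_le h.td.four.sq (by simpa using h.td.four.card) (l0.trans CS)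
      (eq_bot_iff.2 ((inf_le_inf_right _ VH).trans dj.le))
      (fun u hu y hy => commutatorElement_eq_one_iff_mul_comm.2 (cC y (l0 hy) u (VH hu))) ⊥ C₀ bot_le le_rfl
      fun y hy => sq y (l0 hy)
  have ne : ¬ c.S ≤ H := fun e => by
    obtain ⟨E, hE, k⟩ := c.rank3
    have := el E (hE.trans e) k.sq
    have := k.card
    omega
  obtain ⟨g, hg, hg'⟩ := SetLike.not_le_iff_exists.1 ne
  obtain ⟨k, hk⟩ := IsPGroup.iff_card.1 (c.pS.to_le (l0.trans CS))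
  have c2 : Nat.card C₀ = 2 := by
    have k2 : k ≤ 2 := (Nat.pow_le_pow_iff_right one_lt_two).1 (hk ▸ c4)
    interval_cases k
    · exact (ne (eS.le.trans (sup_le le_rfl ((card_eq_one.1 hk).le.trans bot_le)))).elim
    · exact hk
    · exact (np (.inl ⟨hk, fun y hy => sq y (l0 hy)⟩)).elim
  obtain ⟨R', x', s', hb, e⟩ := c.span2 (ix_of_card HS hg hg' (by
      rw [eS, GT.CopAct.card_sup_of_inf_eq_bot ((l0.trans CS).trans nH') dj, c2, mul_comm])) ne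
    fun m hm o y _ hy => (conj_mem_norm (nS m hm o)).2 hy
  obtain ⟨k | k, k'⟩ := gd R' x' s' hb
  · exact ha ⟨R', x', s', hb, k, k'.resolve_left e⟩
  · obtain ⟨z', q⟩ := k.qz
    have := card_le_of_le (show supp R' x' ≤ zpowers z' from fun u hu => by_contra fun e' =>
      q.ne ((q.sq_eq hu e').symm.trans (sq u ((k'.resolve_left e).1 hu))))
    rw [q.card, q.cardZ] at this
    omega

end Cfsg.Agent.GHJ
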