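import Mathlib
import Cfsg.Agent.GHJ.Defs3
import Cfsg.Agent.GHJ.UPa
import Cfsg.Agent.GHJ.E2a
import Cfsg.Agent.GHJ.XAa
import Cfsg.Agent.GHJ.XAb

/-! All triples of index two: the subgroup `F`. See `stubs/Cfsg/Agent/GHJ/PLAN2.md`. -/

set_option autoImplicit false
set_option linter.unusedSectionVars false

namespace Cfsg.Agent.GHJ

open Cfsg.Agent.Inv.Fz Cfsg.Agent.NE Subgroup
open Cfsg.Agent.Loc.Mss (mem_cent conj_mem_of_norm conj_mem_of_norm')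
open scoped commutatorElement

variable {G : Type*} [Group G] [Finite G] {S R₁ R₂ F : Subgroup G} {ρ s₁ z u x s₂ f v w a : G}

namespace E2

open EB UPL

variable {g c y r k k' t t' : G}

/-- The three conjugates `u`, `f`, `g` of `u` under `x`. -/
structure Dt (S R₁ : Subgroup G) (ρ s₁ z u : G) (R₂ : Subgroup G) (x s₂ f g : G) : Prop
    extends EH S R₁ ρ s₁ z u R₂ x s₂ where
  loc : Loc S R₂ x s₂
  cube₂ : Cz (x ^ 3) R₂
  xu : x * u * x⁻¹ = f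
  xf : x * f * x⁻¹ = g

theorem cm_cj (x r k : G) : ⁅r, x * k * x⁻¹⁆ = x * ⁅x⁻¹ * r * x, k⁆ * x⁻¹ := by
  simp only [commutatorElement_def]
  group

theorem cm_sq (ha : k * k = 1) (hb : k' * k' = 1) : ⁅k, k'⁆ = k * k' * (k * k') := by
  rw [commutatorElement_def, inv_of_sq ha, inv_of_sq hb, mul_assoc (k * k')]

namespace Dt

variable (h : Dt S R₁ ρ s₁ z u R₂ x s₂ f g)
include h

theorem le₂ : R₂ ≤ S := h.loc.le
theorem xn : x ∈ normalizer (R₂ : Set G) := h.loc.tri.xn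
theorem fR : f ∈ R₂ := h.xu ▸ conj_mem_of_norm h.xn h.u_mem₂
theorem gR : g ∈ R₂ := h.xf ▸ conj_mem_of_norm h.xn h.fR
theorem uS : u ∈ S := h.le₂ h.u_mem₂
theorem fS : f ∈ S := h.le₂ h.fR
theorem gS : g ∈ S := h.le₂ h.gR
theorem f2 : f * f = 1 := h.xu ▸ sq_conj (u2 h.toEC) x
theorem g2 : g * g = 1 := h.xf ▸ sq_conj h.f2 x
theorem f_not : f ∉ closure {z, u} := h.xu ▸ h.move
theorem xg : x * g * x⁻¹ = u := by
  rw [← h.xf, ← h.xu]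
  calc _ = x ^ 3 * u * (x ^ 3)⁻¹ := by rw [pow_three]; group
    _ = u := conj_eq_of_comm (h.cube₂ u h.u_mem₂)
theorem zc (hc : c ∈ zpowers z) (hy : y ∈ S) : y * c = c * y := comm_zpowers (h.cz y hy).symm hc
theorem xc (hc : c ∈ zpowers z) : x * c * x⁻¹ = c := conj_eq_of_comm (comm_zpowers h.xz hc)
theorem xc' (hc : c ∈ zpowers z) : x⁻¹ * c * x = c := by
  conv_lhs => rw [← h.xc hc]
  group
theorem cx (hk : ∀ r ∈ R₂, ⁅r, k⁆ ∈ zpowers z) : ∀ r ∈ R₂, ⁅r, x * k * x⁻¹⁆ ∈ zpowers z := fun r hr => by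
  have := hk _ (conj_mem_of_norm' h.xn hr)
  rwa [cm_cj, h.xc this]
theorem cu (hy : y ∈ S) : ⁅y, u⁆ ∈ zpowers z := h.toEC.commU hy uU
theorem cf : ∀ r ∈ R₂, ⁅r, f⁆ ∈ zpowers z := h.xu ▸ h.cx fun _ hr => h.cu (h.le₂ hr)
theorem cg : ∀ r ∈ R₂, ⁅r, g⁆ ∈ zpowers z := h.xf ▸ h.cx h.cf
theorem sh (hr : ⁅r, k⁆ ∈ zpowers z) : ⁅x * r * x⁻¹, x * k * x⁻¹⁆ = ⁅r, k⁆ := by rw [← cj_cm, h.xc hr]
theorem cmZ (hk : k ∈ S) (hr : ⁅r, k'⁆ ∈ zpowers z) : ⁅r, k * k'⁆ = ⁅r, k⁆ * ⁅r, k'⁆ := by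
  rw [cm_mul, conj_eq_of_comm (h.zc hr hk)]

theorem out (hk : k ∈ R₂) (h1 : ∀ r ∈ R₂, ⁅r, x * k * x⁻¹⁆ ∈ zpowers z) (hc : c ∈ zpowers z)
    (e : s₂ * k * s₂⁻¹ = c * (x * k' * x⁻¹)) (hy : y ∈ S) (hy' : y ∉ R₂) :
    ∃ c ∈ zpowers z, y * (x * k * x⁻¹) * y⁻¹ = c * k' := by
  have h2 := h1 _ (coset h.loc hy hy')
  refine ⟨_, mul_mem h2 hc, ?_⟩
  have h3 := h.loc.tri.conj_conj hk
  rw [e, show x⁻¹ * (c * (x * k' * x⁻¹)) * x = x⁻¹ * c * x * k' by group, h.xc' hc] at h3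
  rw [mul_assoc _ c, ← h3, ← conj_eq_of_comm (h.zc h2 h.loc.mem), commutatorElement_def]
  group

theorem of (hy : y ∈ S) (hy' : y ∉ R₂) : ∃ c ∈ zpowers z, y * f * y⁻¹ = c * g := by
  have := h.out (k' := g) h.u_mem₂ (h.xu ▸ h.cf) (h.cu h.loc.mem)
    (by rw [h.xg, commutatorElement_def, inv_mul_cancel_right]) hy hy'
  rwa [h.xu] at this

theorem og (hy : y ∈ S) (hy' : y ∉ R₂) : ∃ c ∈ zpowers z, y * g * y⁻¹ = c * f := by
  obtain ⟨c, hc, e⟩ := h.of h.loc.mem h.loc.tri.s_not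
  have := h.out (k' := f) h.fR (h.xf ▸ h.cg) hc (by rw [h.xf, e]) hy hy'
  rwa [h.xf] at this

theorem fg : f * g ∉ zpowers z := fun e => h.f_not (by
  have h1 := h.xc' e
  rw [← h.xf, show x⁻¹ * (f * (x * f * x⁻¹)) * x = x⁻¹ * f * x * f by group, h.xf,
    show x⁻¹ * f * x = u by rw [← h.xu]; group] at h1
  exact (mul_mem_cancel_left uU).1 (h1 ▸ zpowers_le.2 zU e))

theorem ne : ¬ R₁ ≤ R₂ ∧ ¬ R₂ ≤ R₁ := by
  have c1 := h.ix.card (le h.toEC) h.bas.mem h.bas.tri.s_not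
  have c2 := h.loc.ix.card h.le₂ h.loc.mem h.loc.tri.s_not
  have k : R₁ ≠ R₂ := fun e => h.f_not (h.om f (e ▸ h.fR) h.f2
    (h.xu ▸ cz_conj (fun r hr => (h.toEC.czU hr u uU).symm) (e ▸ h.xn)))
  exact ⟨fun e => k (eq_of_le_of_card_ge e (by omega)), fun e => k (eq_of_le_of_card_ge e (by omega)).symm⟩

theorem c12 : ⁅f, g⁆ = ⁅u, f⁆ := by rw [← h.sh (h.cf u h.u_mem₂), h.xu, h.xf]
theorem c20 : ⁅g, u⁆ = ⁅u, f⁆ := by rw [← h.c12, ← h.sh (h.cg f h.fR), h.xf, h.xg]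

/-! ### The good case -/

theorem good (h3 : u * f * g ∈ zpowers z) : EF S R₁ ρ s₁ z u R₂ x s₂ f (closure {z, u, f}) := by
  have ec := h.toEC
  have z2 := z2 ec
  have ZU : zpowers z ≤ closure {z, u} := zpowers_le.2 zU
  have ufg : u * f = u * f * g * g := by rw [mul_assoc _ g, h.g2, mul_one]
  have uf : u * f = f * u := cm1.1 (by
    rw [cm_sq (u2 ec) h.f2, ufg, mul_assoc (u * f * g), ← mul_assoc g, h.zc h3 h.gS, mul_assoc _ g g, h.g2, mul_one]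
    rcases (mz ec).1 h3 with e | e <;> rw [e]
    exacts [one_mul _, z2])
  have f1 : f ∈ R₁ := (h.mem f h.fS).2 uf.symm
  have eF : closure {z, u, f} = ext (closure {z, u}) f := by
    rw [NE.ext, zpowers_eq_closure, ← Subgroup.closure_union]
    congr 1
    ext; simp only [Set.mem_insert_iff, Set.mem_singleton_iff, Set.mem_union, or_assoc]
  obtain ⟨mF, sF, cF⟩ := ext_elem h.el.sq h.f2 (ec.czU f1)
  rw [← eF] at mF sF cF
  have UF : closure {z, u} ≤ closure {z, u, f} := eF ▸ le_ext _ _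
  have fF : f ∈ closure {z, u, f} := eF ▸ self_mem_ext _ _
  have gF : g ∈ closure {z, u, f} := (mul_mem_cancel_left (mul_mem (UF uU) fF)).1 (UF (ZU h3))
  have leF : ∀ {K : Subgroup G}, z ∈ K → u ∈ K → f ∈ K → closure {z, u, f} ≤ K := fun a b c =>
    eF ▸ ext_le.2 ⟨TriB.le_of_gen rfl a b, c⟩
  have nrm : ∀ y : G, y * z * y⁻¹ ∈ closure {z, u, f} → y * u * y⁻¹ ∈ closure {z, u, f} →
      y * f * y⁻¹ ∈ closure {z, u, f} → y ∈ normalizer (closure {z, u, f} : Subgroup G) := fun y a b c =>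
    mem_normalizer_of_conj_mem fun v hv => leF (K := (closure {z, u, f}).comap (MulAut.conj y).toMonoidHom) a b c hv
  have gu : ∀ c ∈ zpowers z, ∃ c' ∈ zpowers z, c * g * f⁻¹ = u * c' := fun c hc =>
    ⟨_, mul_mem h3 hc, by
      rw [← mul_assoc, ← h.zc hc h.gS, mul_assoc g, ← h.zc hc (inv_mem h.fS), ← mul_assoc, ← mul_assoc u,
        ← mul_assoc u, u2 ec, one_mul, inv_of_sq h.f2, cm1.1 (h.c12.trans (cm1.2 uf))]⟩
  have out : ∀ y ∈ S, y ∉ R₂ → ∃ c ∈ zpowers z, ⁅y, f⁆ = u * c := fun y hy hy' => by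
    obtain ⟨c, hc, e⟩ := h.of hy hy'
    exact commutatorElement_def y f ▸ e ▸ gu c hc
  have cf : ∀ y ∈ S, ⁅y, f⁆ ∈ closure {z, u} := fun y hy => by
    by_cases e : y ∈ R₂
    · exact ZU (h.cf y e)
    · obtain ⟨c, hc, e⟩ := out y hy e
      exact e ▸ mul_mem uU (ZU hc)
  have m2 : ∀ y ∈ S, y ∈ R₂ ↔ ∀ v ∈ closure {z, u, f}, ⁅y, v⁆ ∈ zpowers z := fun y hy => by
    refine ⟨fun e v hv => ?_, fun e => by_contra fun e' => ?_⟩
    · rcases (mF v).1 hv with e1 | e1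
      · exact ec.commU hy e1
      · rw [← sq_cancel h.f2 v, h.cmZ h.fS (ec.commU hy e1)]
        exact mul_mem (h.cf y e) (ec.commU hy e1)
    · obtain ⟨c, hc, e1⟩ := out y hy e'
      rcases (mz ec).1 ((mul_mem_cancel_right hc).1 (e1 ▸ e f fF)) with e2 | e2
      exacts [u1 ec e2, uz ec e2]
  have pr : ∀ r ∈ R₂, ⁅r, u⁆ * ⁅r, f⁆ * ⁅r, g⁆ = 1 := fun r hr => by
    rw [← h.cmZ h.uS (h.cf r hr), ← h.cmZ (mul_mem h.uS h.fS) (h.cg r hr), cm1, h.zc h3 (h.le₂ hr)]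
  have s1 : ∀ r ∈ R₂, ⁅x * r * x⁻¹, f⁆ = ⁅r, u⁆ ∧ ⁅x * r * x⁻¹, g⁆ = ⁅r, f⁆ ∧ ⁅x * r * x⁻¹, u⁆ = ⁅r, g⁆ :=
    fun r hr => ⟨h.xu ▸ h.sh (h.cu (h.le₂ hr)), h.xf ▸ h.sh (h.cf r hr), by rw [← h.sh (h.cg r hr), h.xg]⟩
  obtain ⟨r, r2, ru, rf⟩ : ∃ r ∈ R₂, ⁅r, u⁆ = 1 ∧ ⁅r, f⁆ = z := by
    obtain ⟨r, hr, hr'⟩ := SetLike.not_le_iff_exists.1 h.ne.2
    have e := ((mz ec).1 (h.cu (h.le₂ hr))).resolve_left fun e => hr' ((h.mem r (h.le₂ hr)).2 (cm1.1 e))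
    have hx := conj_mem_of_norm h.xn hr
    have p := pr r hr
    rcases (mz ec).1 (h.cf r hr) with e1 | e1 <;> rw [e, e1] at p
    · refine ⟨_, conj_mem_of_norm h.xn hx, by rw [(s1 _ hx).2.2, (s1 r hr).2.1, e1], ?_⟩
      rw [(s1 _ hx).1, (s1 r hr).2.2, eq_inv_of_mul_eq_one_right p, mul_one, inv_of_sq z2]
    · exact ⟨_, hx, by rwa [z2, one_mul, ← (s1 r hr).2.2] at p, by rw [(s1 r hr).1, e]⟩
  have r1 : r ∈ R₁ := (h.mem r (h.le₂ r2)).2 (cm1.1 ru)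
  obtain ⟨s, s1', s2⟩ := SetLike.not_le_iff_exists.1 h.ne.1
  have zS := le ec h.z_mem
  have cz : ∀ y ∈ R₁, y * f = f * y → Cz y (closure {z, u, f}) := fun y hy e v hv =>
    (mem_centralizer_singleton_iff.1 (leF (K := centralizer {y}) (mem_centralizer_singleton_iff.2 (h.cz y (le ec hy)))
      (mem_centralizer_singleton_iff.2 (ec.czU hy u uU).symm) (mem_centralizer_singleton_iff.2 e.symm) hv)).symm
  refine { h.toEH with
    f_eq := h.xu.symm, F_eq := rfl, elF := ⟨by rw [cF h.f_not, h.el.card], sF⟩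
    F_le := leF ⟨h.z_mem, h.loc.center_le zS h.cz⟩ ⟨h.u_mem, h.u_mem₂⟩ ⟨f1, h.fR⟩
    nF := fun y hy => nrm y ((cj_z ec hy).symm ▸ UF zU) (UF (conj_mem_of_norm (ec.normU.1 hy) uU)) ?_
    xF := nrm x ((h.xc (mem_zpowers z)).symm ▸ UF zU) (h.xu.symm ▸ fF) (h.xf.symm ▸ gF)
    cube₂ := h.cube₂, mem₂ := m2, card := ?_, onto := fun v hv => ?_, commf := fun y hy => cf y (le ec hy)
    fpf := fun y hy e => ?_ }
  · simpa [commutatorElement_def] using mul_mem (UF (cf y hy)) fF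
  · have i1 : Ix (R₁ ⊓ R₂) (S ⊓ centralizer (closure {z, u, f} : Subgroup G)) r := fun y hy => by
      rcases (mz ec).1 (h.cf y hy.2) with e | e
      · exact .inl ⟨le ec hy.1, TriA.cz_iff.1 (cz y hy.1 (cm1.1 e))⟩
      · exact .inr ⟨le ec (mul_mem r1 hy.1), TriA.cz_iff.1 (cz _ (mul_mem r1 hy.1) (cm1.1 (by
          rw [mul_cm, e, rf, cj_z ec (le ec r1), z2])))⟩
    have i2 : Ix R₁ (R₁ ⊓ R₂) s := fun y hy => (em (y ∈ R₂)).imp (fun e => ⟨hy, e⟩) fun e =>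
      ⟨mul_mem s1' hy, h.loc.ix.mul_mem (le ec s1') (le ec hy) s2 e⟩
    rw [h.ix.card (le ec) h.bas.mem h.bas.tri.s_not, i2.card inf_le_left s1' fun e => s2 e.2,
      i1.card (fun y hy => ⟨(h.mem y hy.1).2 (mem_cent.1 hy.2 u (UF uU)).symm, (m2 y hy.1).2 fun v hv =>
        cm1.2 (mem_cent.1 hy.2 v hv).symm ▸ one_mem _⟩) ⟨r1, r2⟩
        fun e => h.z_ne (rf.symm.trans (cm1.2 (mem_cent.1 e.2 f fF).symm))]
    omega
  · have e1 : ⁅s * r, f⁆ = ⁅s, f⁆ * z := by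
      rw [mul_cm, rf, cj_z ec (le ec s1'), h.cz _ (ec.U_le.trans ((supp_le h.bas.tri.xn).trans (le ec)) (cf s (le ec s1')))]
    obtain ⟨c, hc, e⟩ := out s (le ec s1') s2
    rcases ec.memU.1 hv with rfl | rfl | e2 | e2
    · exact ⟨1, one_mem _, by simp⟩
    · exact ⟨r, r1, rf⟩
    · rcases (mz ec).1 hc with e3 | e3 <;> rw [e3] at e
      exacts [⟨s, s1', by rw [e, e2, mul_one]⟩, ⟨_, mul_mem s1' r1, by rw [e1, e, e2, mul_assoc, z2, mul_one]⟩]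
    · rcases (mz ec).1 hc with e3 | e3 <;> rw [e3] at e
      exacts [⟨_, mul_mem s1' r1, by rw [e1, e, e2, mul_one]⟩, ⟨s, s1', by rw [e, e2]⟩]
  · have k : ∀ v ∈ closure {z, u, f}, ⁅x * y * x⁻¹, v⁆ = ⁅y, v⁆ := fun v hv => by
      rw [show x * y * x⁻¹ = ⁅x, y⁆ * y by simp [commutatorElement_def], mul_cm, cm1.2 (e v hv), mul_one,
        conj_eq_of_comm (e _ (UF (ZU ((m2 y (h.le₂ hy)).1 hy v hv))))]
    have p := pr y hy
    have e1 := (k f fF).symm.trans (s1 y hy).1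
    rw [← k g gF, (s1 y hy).2.1, e1] at p
    have e2 : ⁅y, u⁆ = 1 := ((mz ec).1 (h.cu (h.le₂ hy))).resolve_right fun e2 => h.z_ne (by
      rwa [e2, z2, one_mul] at p)
    exact cz y ((h.mem y (h.le₂ hy)).2 (cm1.1 e2)) (cm1.1 (e1.trans e2))

/-! ### The conjugates of `u` do not commute -/

theorem xa (e : ⁅u, f⁆ = z) : XA S R₁ ρ s₁ (f * g) (u * f) 2 := by
  have ec := h.toEC
  have z2 := z2 ec
  have aa : f * g * (f * g) = z := by rw [← cm_sq h.f2 h.g2, h.c12, e]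
  have zz' : zz (f * g) 2 = z := by rw [← aa, ← pow_two]; rfl
  have ZA : zpowers z ≤ zpowers (f * g) := zpowers_le.2 (aa ▸ mul_mem (mem_zpowers _) (mem_zpowers _))
  have ai : g * f = (f * g)⁻¹ := by rw [mul_inv_rev, inv_of_sq h.f2, inv_of_sq h.g2]
  have ua : u * (f * g) = f * g * u := cm1.1 (by
    rw [h.cmZ h.fS (h.cg u h.u_mem₂), ← commutatorElement_inv g u, h.c20, mul_inv_cancel])
  have na : S ≤ normalizer (zpowers (f * g) : Set G) := fun y hy => by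
    have k : y * (f * g) * y⁻¹ ∈ zpowers (f * g) := by
      by_cases e : y ∈ R₂
      · have := mul_mem (ZA (mul_mem (h.cf y e) (h.cg y e))) (mem_zpowers _)
        rwa [← h.cmZ h.fS (h.cg y e), commutatorElement_def, inv_mul_cancel_right] at this
      · obtain ⟨c, hc, e1⟩ := h.of hy e
        obtain ⟨c', hc', e2⟩ := h.og hy e
        rw [conj_mul', e1, e2, mul_assoc, ← mul_assoc g, h.zc hc' h.gS, mul_assoc, ai]
        exact mul_mem (ZA hc) (mul_mem (ZA hc') (inv_mem (mem_zpowers _)))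
    refine mem_normalizer_of_conj_mem ?_
    rintro _ ⟨n, rfl⟩
    have := zpow_mem k n
    rwa [conj_zpow] at this
  refine ⟨h.bas.toT1.loc h.loc.p h.loc.r4 h.ix, le_rfl, ?_, (h.mem _ (mul_mem h.fS h.gS)).2 ua.symm, na,
    mul_mem h.uS h.fS, fun k => h.z_ne ?_, fun y hy => ?_, ?_, .inr ?_, fun k => uz ec ?_⟩
  · refine orderOf_eq_prime_pow (p := 2) (n := 1) (by rw [pow_one, pow_two, aa]; exact h.z_ne) ?_
    rw [show 2 ^ (1 + 1) = 2 * 2 by norm_num, pow_mul, pow_two (f * g), aa, pow_two, z2]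
  · rw [← e, cm1, (h.mem f h.fS).1 ((mul_mem_cancel_left h.u_mem).1 k)]
  · rw [cm_mul]
    refine mul_mem (ZA (h.cu hy)) (conj_mem_of_norm (na h.uS) ?_)
    by_cases e : y ∈ R₂
    · exact ZA (h.cf y e)
    · obtain ⟨c, hc, e1⟩ := h.of hy e
      rw [commutatorElement_def, e1, mul_assoc, inv_of_sq h.f2, ai]
      exact mul_mem (ZA hc) (inv_mem (mem_zpowers _))
  · rw [← conj_conj, ← mul_assoc f f, h.f2, one_mul, inv_of_sq h.f2, ai, ← conj_inv, conj_eq_of_comm ua]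
  · rw [zz', ← e, cm_sq (u2 ec) h.f2]
  · rw [zz'] at k
    rw [← h.rz, conj_eq_of_comm k]

/-! ### The conjugates of `u` commute -/

theorem shift (hk : ∀ r ∈ R₁, ⁅r, k⁆ = 1 ∨ ⁅r, k⁆ = t) :
    ∀ r ∈ R₁, ⁅r, ρ * k * ρ⁻¹⁆ = 1 ∨ ⁅r, ρ * k * ρ⁻¹⁆ = ρ * t * ρ⁻¹ := fun r hr => by
  rw [cm_cj]
  rcases hk _ (conj_mem_of_norm' h.bas.tri.xn hr) with e | e <;> simp [e]

theorem cmU (hk : k ∈ R₁) (hr : ⁅r, k'⁆ ∈ closure {z, u}) : ⁅r, k * k'⁆ = ⁅r, k⁆ * ⁅r, k'⁆ := by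
  rw [cm_mul, conj_eq_of_comm (h.toEC.czU hk _ hr)]

omit h in
theorem two {p q : G} (h1 : p = 1 ∨ p = t) (h2 : q = 1 ∨ q = t') (tt : t * t = 1) (ne : t ≠ t') (e : p * q = 1) :
    p = 1 := h1.elim id fun e1 => by
  rcases h2 with e2 | e2 <;> rw [e2] at e
  · rwa [mul_one] at e
  · rw [e1] at e
    exact (ne (mul_left_cancel (tt.trans e.symm))).elim

theorem bad (h3 : u * f * g ∉ zpowers z) (e : ⁅u, f⁆ = 1) : False := by
  have ec := h.toEC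
  have z2 := z2 ec
  have u2 := u2 ec
  have uz2 : u * z * (u * z) = 1 := h.el.sq _ (mul_mem uU zU)
  have ZU : zpowers z ≤ closure {z, u} := zpowers_le.2 zU
  have fg := cm1.1 (h.c12.trans e)
  have f1 : f ∈ R₁ := (h.mem f h.fS).2 (cm1.1 e).symm
  have g1 : g ∈ R₁ := (h.mem g h.gS).2 (cm1.1 (h.c20.trans e))
  obtain ⟨w, hw⟩ : ∃ w, w = f * g := ⟨_, rfl⟩
  have w1 : w ∈ R₁ := hw ▸ mul_mem f1 g1
  have w2 : w * w = 1 := by rw [hw, ← cm_sq h.f2 h.g2, cm1, fg]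
  have wU : w ∉ closure {z, u} := fun k => by
    rcases ec.memU.1 k with k | k | k | k
    · exact h.fg (hw ▸ k ▸ one_mem _)
    · exact h.fg (hw ▸ k ▸ mem_zpowers _)
    · exact h3 (by rw [mul_assoc, ← hw, k, u2]; exact one_mem _)
    · exact h3 (by rw [mul_assoc, ← hw, k, sq_cancel u2]; exact mem_zpowers _)
  have c0 : ∀ r ∈ R₁, ⁅r, w⁆ = 1 ∨ ⁅r, w⁆ = z := fun y hy => (mz ec).1 (by
    by_cases e : y ∈ R₂
    · rw [hw, h.cmZ h.fS (h.cg y e)]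
      exact mul_mem (h.cf y e) (h.cg y e)
    · obtain ⟨c, hc, e1⟩ := h.of (le ec hy) e
      obtain ⟨c', hc', e2⟩ := h.og (le ec hy) e
      rw [hw, commutatorElement_def, conj_mul', e1, e2, mul_assoc c, ← mul_assoc g, h.zc hc' h.gS, mul_assoc c', ← fg,
        ← mul_assoc c, mul_inv_cancel_right]
      exact mul_mem hc hc')
  have c1 := h.shift c0
  have c2 := h.shift c1
  rw [h.rz] at c1 c2
  rw [h.ru] at c2
  have xn := h.bas.tri.xn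
  have n0 : ¬ Cz w R₁ := fun k => wU (h.om w w1 w2 k)
  have n1 : ¬ Cz (ρ * w * ρ⁻¹) R₁ := fun k => n0 (by simpa [mul_assoc] using cz_conj k (inv_mem xn))
  have w1' := conj_mem_of_norm xn w1
  have w1'' := conj_mem_of_norm xn w1'
  have w2' := sq_conj w2 ρ
  have w2'' := sq_conj w2' ρ
  have wU' : ρ * w * ρ⁻¹ ∉ closure {z, u} := fun k => wU ((conj_mem_norm ec.normU.2).1 k)
  have wU'' : ρ * (ρ * w * ρ⁻¹) * ρ⁻¹ ∉ closure {z, u} := fun k => wU' ((conj_mem_norm ec.normU.2).1 k)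
  generalize ρ * (ρ * w * ρ⁻¹) * ρ⁻¹ = w'' at *
  generalize ρ * w * ρ⁻¹ = w' at *
  have mU : ∀ {p t : G}, t ∈ closure {z, u} → p = 1 ∨ p = t → p ∈ closure {z, u} := fun ht k => by
    rcases k with k | k <;> rw [k]
    exacts [one_mem _, ht]
  have zuz : z ≠ u * z := fun k => u1 ec (mul_eq_right.1 k.symm)
  have uuz : u ≠ u * z := fun k => h.z_ne (mul_eq_left.1 k.symm)
  have cm : ∀ {k k' t t' : G}, k ∈ R₁ → k' ∈ R₁ → (∀ r ∈ R₁, ⁅r, k⁆ = 1 ∨ ⁅r, k⁆ = t) →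
      (∀ r ∈ R₁, ⁅r, k'⁆ = 1 ∨ ⁅r, k'⁆ = t') → t * t = 1 → t ≠ t' → k' * k = k * k' := fun a b c d e f =>
    cm1.1 (two (c _ b) (d _ a) e f (by rw [← commutatorElement_inv, inv_mul_cancel]))
  have co : ∀ {k k' t t' : G}, k ∈ R₁ → (∀ r ∈ R₁, ⁅r, k⁆ = 1 ∨ ⁅r, k⁆ = t) →
      (∀ r ∈ R₁, ⁅r, k'⁆ = 1 ∨ ⁅r, k'⁆ = t') → t * t = 1 → t ≠ t' → t' ∈ closure {z, u} →
      k * k' ∈ closure {z, u} → Cz k R₁ := fun a c d e f i j r hr =>
    (cm1.1 (two (c r hr) (d r hr) e f (by rw [← h.cmU a (mU i (d r hr)), cm1, ec.czU hr _ j]))).symm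
  have cz : ∀ {A : Subgroup G} {k y : G}, Cz y A → y * k = k * y → Cz y (ext A k) := fun a b =>
    fun v hv => (mem_centralizer_singleton_iff.1 (ext_le.2 ⟨fun v hv => mem_centralizer_singleton_iff.2 (a v hv).symm,
      mem_centralizer_singleton_iff.2 b.symm⟩ hv)).symm
  obtain ⟨m0, s0, k0⟩ := ext_elem h.el.sq w2 (ec.czU w1)
  obtain ⟨m1, s1, k1⟩ := ext_elem s0 w2' (cz (ec.czU w1') (cm w1 w1' c0 c1 z2 (uz ec).symm))
  have el : El 16 (ext (ext (closure {z, u}) w) w') := ⟨by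
    rw [k1 fun k => ((m0 _).1 k).elim wU' fun k => n0 (co w1 c0 c1 z2 (uz ec).symm uU k), k0 wU, h.el.card], s1⟩
  have UR : closure {z, u} ≤ R₁ := TriB.le_of_gen rfl h.z_mem h.u_mem
  have AS : ext (ext (closure {z, u}) w) w' ≤ S := (ext_le.2 ⟨ext_le.2 ⟨UR, w1⟩, w1'⟩).trans (le ec)
  have fw : ⁅f, w⁆ = 1 := by rw [cm1, hw, ← mul_assoc, mul_assoc f g, ← fg, mul_assoc]
  have fw' : ⁅f, w'⁆ = 1 := by
    have uzU : u * z ∈ closure {z, u} := mul_mem uU zU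
    rcases (m1 _).1 (h.loc.r4.mem_el16 el AS (le ec w1'') w2'' (cz (cz (ec.czU w1'') (cm w1 w1'' c0 c2 z2 zuz))
      (cm w1' w1'' c1 c2 u2 uuz))) with k | k <;> rcases (m0 _).1 k with k | k
    · exact (wU'' k).elim
    · exact (n0 (co w1 c0 c2 z2 zuz uzU k)).elim
    · exact (n1 (co w1' c1 c2 u2 uuz uzU k)).elim
    · have e1 := cm1.2 (ec.czU f1 _ k)
      rw [cm_mul, fw, one_mul, conj_eq_one_iff, h.cmU w1' (mU uzU (c2 f f1))] at e1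
      exact two (c1 f f1) (c2 f f1) u2 uuz e1
  have fA := h.loc.r4.mem_el16 el AS h.fS h.f2 (cz (cz (ec.czU f1) (cm1.1 fw)) (cm1.1 fw'))
  obtain ⟨s, s1', s2⟩ := SetLike.not_le_iff_exists.1 h.ne.1
  obtain ⟨K, hK⟩ := TriB.exists_fx' s ((le ec).trans ec.normU.1)
  have sf := ((hK f).1 (ext_le.2 ⟨ext_le.2 ⟨fun v hv => (hK v).2 ⟨UR hv, ZU (ec.commU (le ec s1') hv)⟩,
    (hK w).2 ⟨w1, mU zU (c0 s s1')⟩⟩, (hK w').2 ⟨w1', mU uU (c1 s s1')⟩⟩ fA)).2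
  obtain ⟨c, hc, e1⟩ := h.of (le ec s1') s2
  rw [commutatorElement_def, e1, mul_assoc, inv_of_sq h.f2, ← fg, ← hw] at sf
  exact wU ((mul_mem_cancel_left (ZU hc)).1 sf)

end Dt

end E2

theorem Ctx.exists_ef (c : Ctx G) (h : EH c.S R₁ ρ s₁ z u R₂ x s₂) : ∃ f F, EF c.S R₁ ρ s₁ z u R₂ x s₂ f F := by
  have d : E2.Dt c.S R₁ ρ s₁ z u R₂ x s₂ _ _ :=
    ⟨h, h.bas₂.toT1.loc c.pS c.r4 h.ix₂, h.cube3 c.pS c.r4, rfl, rfl⟩
  generalize x * (x * u * x⁻¹) * x⁻¹ = g at d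
  generalize x * u * x⁻¹ = f at d
  refine ⟨f, _, d.good (by_contra fun h3 => ?_)⟩
  rcases (EB.mz h.toEC).1 (d.cf u h.u_mem₂) with e | e
  · exact d.bad h3 e
  have xa := d.xa e
  have e1 : u * f * (f * g * u) = u * g * u⁻¹ := by
    rw [mul_assoc u, mul_assoc f g, sq_cancel d.f2, inv_of_sq (EB.u2 h.toEC), mul_assoc]
  refine c.x2a_end xa (t := f * g * u) (mul_mem (xa.hom.1.eq ▸ subset_closure (by simp)) (h.toEC.U_le EB.uU))
    (by rw [e1]; exact UPL.sq_conj d.g2 u) ?_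
  rw [e1, show zz (f * g) 2 = z by rw [← e, ← d.c12, E2.cm_sq d.f2 d.g2, ← pow_two]; rfl]
  exact ((((isConj_iff.2 ⟨ρ, h.rz⟩).trans (isConj_iff.2 ⟨x, d.xu⟩)).trans (isConj_iff.2 ⟨x, d.xf⟩)).trans
    (isConj_iff.2 ⟨u, rfl⟩)).symm

end Cfsg.Agent.GHJ
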