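import Mathlib
import Cfsg.Agent.GHJ.Defs3
import Cfsg.Agent.GHJ.EB
import Cfsg.Agent.GHJ.Aft
import Cfsg.Agent.GHJ.E6a

/-! All triples of index two: a Sylow 2-subgroup of `Aut G₂(3)`. See `stubs/Cfsg/Agent/GHJ/PLAN2.md`. -/

set_option autoImplicit false
set_option linter.unusedSectionVars false

namespace Cfsg.Agent.GHJ

open Cfsg.Agent.Inv.Fz Cfsg.Agent.NE Subgroup
open scoped commutatorElement

variable {G : Type*} [Group G] [Finite G] {S R₁ R₂ F : Subgroup G} {ρ s₁ z u x s₂ f v w a : G}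

namespace E6

variable {T : Subgroup G} {g : G}

/-- The element with the given coordinates. -/
def tau (ρ a : G) (y : V) : G := a ^ y.1.val * (ρ * a * ρ⁻¹) ^ y.2.val

theorem pw_add (h : a ^ 4 = 1) (p q : ZMod 4) : a ^ (p + q).val = a ^ p.val * a ^ q.val := by
  rw [ZMod.val_add, ← pow_eq_pow_mod _ h, pow_add]

theorem pw_eq (h : orderOf a = 2 ^ 2) {p : ZMod 4} (e : a ^ p.val = 1) : p = 0 :=
  (ZMod.val_eq_zero p).1 (Nat.eq_zero_of_dvd_of_lt (h.symm.dvd.trans (orderOf_dvd_of_pow_eq_one e)) (ZMod.val_lt p))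

theorem tau0 : tau ρ a (0, 0) = 1 := by simp [tau]
theorem tau1 : tau ρ a (1, 0) = a := show a ^ 1 * _ ^ 0 = a by simp
theorem tau2 : tau ρ a (0, 1) = ρ * a * ρ⁻¹ := show a ^ 0 * _ ^ 1 = _ by simp

theorem next {n : ℕ} (h : Hom T ρ a n) (hn : ρ ∈ normalizer (T : Set G)) : Hom T ρ (ρ * a * ρ⁻¹) n where
  ord := (BsA.ord_cj _ _).trans h.ord
  eq := by rw [← BsA.cj_pair, ← h.eq, cj_eq_iff.2 hn]
  comm := conj_comm ρ h.comm
  disj := by rw [← cj_zpowers ρ a, ← cj_zpowers ρ (ρ * a * ρ⁻¹), ← cj_inf, h.disj, cj_bot]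
  sum := by rw [← conj_mul', ← conj_mul', h.sum, mul_one, mul_inv_cancel]

theorem m_cancel {p y₁ y₂ : E} (h : m p y₁ = m p y₂) : y₁ = y₂ := by
  have k : ∀ (i j k : Bool) (x y : V), cd i aC (cd j aD (cd k aS x)) = cd i aC (cd j aD (cd k aS y)) → x = y := by
    decide +kernel
  simp only [m, E.mk.injEq, add_right_inj, Bool.xor_right_inj] at h
  obtain ⟨h1, h2, h3, h4⟩ := h
  rw [h3, Bool.xor_left_inj, Bool.xor_right_inj] at h2
  exact E.ext (k _ _ _ _ _ h1) h2 h3 h4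

section
variable (h : Hom T ρ a 2)
include h

theorem a4 : a ^ 4 = 1 := orderOf_dvd_iff_pow_eq_one.1 (h.ord ▸ dvd_rfl)

theorem tau_add (p q : V) : tau ρ a (p + q) = tau ρ a p * tau ρ a q := by
  have b4 : (ρ * a * ρ⁻¹) ^ 4 = 1 := by rw [conj_pow, a4 h, mul_one, mul_inv_cancel]
  simp only [tau, Prod.fst_add, Prod.snd_add, pw_add (a4 h), pw_add b4]
  exact ((show Commute _ _ from h.comm).pow_pow _ _).mul_mul_mul_comm _ _

theorem tau_pow (p : V) (n : ℕ) : tau ρ a p ^ n = tau ρ a ((n : ZMod 4) * p.1, (n : ZMod 4) * p.2) := by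
  induction n with
  | zero => simp [tau0]
  | succ n ih => rw [pow_succ, ih, ← tau_add h]; congr 1; ext <;> simp [add_mul]

theorem conj_tau {p q : V} (hp : g * a * g⁻¹ = tau ρ a p) (hq : g * (ρ * a * ρ⁻¹) * g⁻¹ = tau ρ a q) (y : V) :
    g * tau ρ a y * g⁻¹ = tau ρ a (lin p q y) := by
  rw [tau, conj_mul', ← conj_pow, ← conj_pow (a := g), hp, hq, tau_pow h, tau_pow h, ← tau_add h]
  simp [lin]

theorem tau_neg (p : V) : tau ρ a (-p) = (tau ρ a p)⁻¹ :=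
  eq_inv_of_mul_eq_one_left (by rw [← tau_add h, neg_add_cancel]; exact tau0)

theorem memT : g ∈ T ↔ ∃ y, tau ρ a y = g := by
  rw [h.eq]
  refine ⟨fun k => ?_, ?_⟩
  · induction k using closure_induction with
    | mem x hx => rcases hx with rfl | rfl; exacts [⟨_, tau1⟩, ⟨_, tau2⟩]
    | one => exact ⟨_, tau0⟩
    | mul _ _ _ _ p q => obtain ⟨p, rfl⟩ := p; obtain ⟨q, rfl⟩ := q; exact ⟨_, tau_add h p q⟩
    | inv _ _ p => obtain ⟨p, rfl⟩ := p; exact ⟨_, tau_neg h p⟩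
  · rintro ⟨y, rfl⟩
    exact mul_mem (pow_mem (subset_closure (by simp)) _) (pow_mem (subset_closure (by simp)) _)

theorem tau_inj {p q : V} (e : tau ρ a p = tau ρ a q) : p = q := by
  have k : tau ρ a (p - q) = 1 := by rw [sub_eq_add_neg, tau_add h, tau_neg h, e, mul_inv_cancel]
  have k1 : a ^ (p - q).1.val = 1 := mem_bot.1 (h.disj.le (mem_inf.2 ⟨pow_mem (mem_zpowers _) _, by
    rw [eq_inv_of_mul_eq_one_left k]; exact inv_mem (pow_mem (mem_zpowers _) _)⟩))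
  rw [tau, k1, one_mul] at k
  exact sub_eq_zero.1 (Prod.ext (pw_eq h.ord k1) (pw_eq ((BsA.ord_cj _ _).trans h.ord) k))

theorem tau3 : tau ρ a (3, 3) = ρ * (ρ * a * ρ⁻¹) * ρ⁻¹ := by
  have : tau ρ a (1, 0) * tau ρ a (0, 1) * tau ρ a (3, 3) = 1 := by rw [← tau_add h, ← tau_add h]; exact tau0
  rw [tau1, tau2, ← h.sum] at this
  exact mul_left_cancel this

theorem rho_tau (y : V) : ρ * tau ρ a y * ρ⁻¹ = tau ρ a (om y) := conj_tau h tau2.symm (tau3 h).symm y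

theorem fix_tau (hg : ρ * g = g * ρ) {p : V} (hp : g * a * g⁻¹ = tau ρ a p) (y : V) :
    g * tau ρ a y * g⁻¹ = tau ρ a (lin p (om p) y) := by
  refine conj_tau h hp ?_ y
  rw [← rho_tau h, ← hp, NE.conj_conj, NE.conj_conj, hg]

end

theorem cdl {f : V → V} (b : Bool) (h : ∀ y, g * tau ρ a y * g⁻¹ = tau ρ a (f y)) (y : V) :
    cond b g 1 * tau ρ a y = tau ρ a (cd b f y) * cond b g 1 := by
  cases b
  · simp [cd]
  · simp [cd, ← h]

theorem dih {c d s : G} (cc : c * c = 1) (dd : d * d = 1) (ss : s * s = 1) (dc : d * c = c * d) (sc : s * c = c * s)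
    (sd : s * d = c * (d * s)) (i j k i' j' k' : Bool) :
    cond i c 1 * (cond j d 1 * cond k s 1) * (cond i' c 1 * (cond j' d 1 * cond k' s 1)) =
      cond ((i ^^ i') ^^ (k && j')) c 1 * (cond (j ^^ j') d 1 * cond (k ^^ k') s 1) := by
  have cc' : ∀ y, c * (c * y) = y := fun y => by rw [← mul_assoc, cc, one_mul]
  have dd' : ∀ y, d * (d * y) = y := fun y => by rw [← mul_assoc, dd, one_mul]
  have dc' : ∀ y, d * (c * y) = c * (d * y) := fun y => by rw [← mul_assoc, dc, mul_assoc]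
  have sc' : ∀ y, s * (c * y) = c * (s * y) := fun y => by rw [← mul_assoc, sc, mul_assoc]
  have sd' : ∀ y, s * (d * y) = c * (d * (s * y)) := fun y => by rw [← mul_assoc, sd, mul_assoc, mul_assoc]
  cases i <;> cases j <;> cases k <;> cases i' <;> cases j' <;> cases k' <;>
    simp only [cond, Bool.xor_false, Bool.xor_true, Bool.not_false, Bool.not_true, Bool.and_true, Bool.and_false,
      mul_one, one_mul, mul_assoc, cc, dd, ss, dc, sc, sd, cc', dd', dc', sc', sd']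

theorem core (h₁ : Tri R₁ ρ s₁) (h : Hom (supp R₁ ρ) ρ a 2) (el : El 4 (fix R₁ ρ))
    (faith : ∀ d ∈ fix R₁ ρ, Cz d (supp R₁ ρ) → d = 1) (hs : s₁ * (a * a) = a * a * s₁) (hS : R₁ ≤ S) (hs₁ : s₁ ∈ S)
    (hi : Ix S R₁ s₁) : ∃ φ, Md S φ := by
  have tT : ∀ y, tau ρ a y ∈ supp R₁ ρ := fun y => (memT h).2 ⟨y, rfl⟩
  have aT : a ∈ supp R₁ ρ := tau1 (ρ := ρ) (a := a) ▸ tT _
  have TR := supp_le h₁.xn
  have uniq : ∀ d ∈ fix R₁ ρ, ∀ d' ∈ fix R₁ ρ, d * a * d⁻¹ = d' * a * d'⁻¹ → d = d' := fun d hd d' hd' e => by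
    have k := mul_mem (inv_mem hd') hd
    refine (inv_mul_eq_one.1 (faith _ k fun t ht => ?_)).symm
    obtain ⟨y, rfl⟩ := (memT h).1 ht
    have := fix_tau h (mem_fix.1 k).2 (p := (1, 0)) (by rw [tau1, ← NE.conj_conj, e]; group) y
    rw [(by decide : ∀ y, lin (1, 0) (om (1, 0)) y = y)] at this
    exact mul_inv_eq_iff_eq_mul.1 this
  have exl : ∀ d ∈ fix R₁ ρ, ∃ y, d * a * d⁻¹ = tau ρ a (lam y) := fun d hd => by
    obtain ⟨p, hp⟩ := (memT h).1 ((conj_mem_norm (le_norm_supp hd.1)).2 aT)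
    have := fix_tau h (mem_fix.1 hd).2 hp.symm p
    rw [hp, NE.conj_conj, el.sq d hd, one_mul, inv_one, mul_one] at this
    have k : ∀ p : V, (1, 0) = lin p (om p) p → ∃ y, p = lam y := by decide
    obtain ⟨y, rfl⟩ := k p (tau_inj h (tau1.trans this))
    exact ⟨y, hp.symm⟩
  have exd : ∀ y, ∃ d ∈ fix R₁ ρ, d * a * d⁻¹ = tau ρ a (lam y) := fun y => by
    choose! f hf using exl
    have : Function.Bijective fun d : fix R₁ ρ => f d := (Nat.bijective_iff_injective_and_card _).2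
      ⟨fun d d' e => Subtype.ext (uniq _ d.2 _ d'.2 (by rw [hf _ d.2, hf _ d'.2]; exact congrArg _ (congrArg _ e))),
        by rw [el.card]; simp⟩
    obtain ⟨d, rfl⟩ := this.2 y
    exact ⟨d, d.2, hf _ d.2⟩
  obtain ⟨s, h', sS, sa⟩ : ∃ s, Tri R₁ ρ s ∧ s ∈ S ∧ s * a * s⁻¹ = a := by
    obtain ⟨p, hp⟩ := (memT h).1 ((conj_mem_norm (inv_mem h₁.s_supp)).2 aT)
    have k : ∀ p : V, p + p = (1, 0) + (1, 0) → ∃ y, p = lam y := by decide
    obtain ⟨y, rfl⟩ := k p (tau_inj h (by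
      rw [tau_add h, tau_add h, hp, tau1, ← conj_mul', mul_assoc, inv_inv, ← hs, inv_mul_cancel_left]))
    obtain ⟨d, hd, e⟩ := exd y
    exact ⟨s₁ * d, h₁.mul_fix hd, mul_mem hs₁ (hS hd.1), by rw [← NE.conj_conj, e, hp]; group⟩
  have aS' : ∀ y, s * tau ρ a y * s⁻¹ = tau ρ a (aS y) := conj_tau h (sa.trans tau1.symm) (by
    have := rho_tau h (3, 3)
    rw [show om (3, 3) = (1, 0) by decide, tau1] at this
    rw [h'.conj_conj (TR aT), sa, mul_assoc, inv_mul_eq_iff_eq_mul]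
    exact (mul_inv_eq_iff_eq_mul.1 this).symm)
  obtain ⟨c, hc, ca⟩ := exd (true, false)
  obtain ⟨d, hd, da⟩ := exd (false, true)
  have aC' : ∀ y, c * tau ρ a y * c⁻¹ = tau ρ a (aC y) := fix_tau h (mem_fix.1 hc).2 ca
  have aD' : ∀ y, d * tau ρ a y * d⁻¹ = tau ρ a (aD y) := fix_tau h (mem_fix.1 hd).2 da
  have ss : s * s = 1 := uniq _ (mem_fix.2 ⟨h'.ss, h'.sx⟩) _ (one_mem _) (by rw [← NE.conj_conj, sa, sa]; group)
  have sa' : s⁻¹ * a * s⁻¹⁻¹ = a := by rw [inv_eq_of_mul_eq_one_right ss]; exact sa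
  have dc : d * c = c * d := by
    have := el.sq _ (mul_mem hd hc)
    rw [← inv_eq_of_mul_eq_one_right this, mul_inv_rev, inv_eq_of_mul_eq_one_right (el.sq c hc),
      inv_eq_of_mul_eq_one_right (el.sq d hd)]
  have sc : s * c * s⁻¹ = c := uniq _ ((conj_mem_norm h'.s_fix).2 hc) _ hc (by
    rw [← NE.conj_conj, ← NE.conj_conj, sa', ca, aS']; rfl)
  have sd : s * d * s⁻¹ = c * d := uniq _ ((conj_mem_norm h'.s_fix).2 hd) _ (mul_mem hc hd) (by
    rw [← NE.conj_conj, ← NE.conj_conj, ← NE.conj_conj, sa', da, aS', aC']; rfl)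
  have cD : ∀ i j : Bool, cond i c 1 * cond j d 1 ∈ fix R₁ ρ := fun i j =>
    mul_mem (by cases i; exacts [one_mem _, hc]) (by cases j; exacts [one_mem _, hd])
  have cA : ∀ i j : Bool, cond i c 1 * cond j d 1 * a * (cond i c 1 * cond j d 1)⁻¹ =
      tau ρ a (cd i aC (cd j aD (1, 0))) := fun i j => by
    rw [mul_inv_eq_iff_eq_mul, ← mul_assoc, ← cdl i aC', mul_assoc, mul_assoc, ← cdl j aD', tau1]
  let φ : E → G := fun e => tau ρ a e.t * (cond e.i c 1 * (cond e.j d 1 * cond e.k s 1))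
  have mul : ∀ p q, φ (m p q) = φ p * φ q := fun p q => by
    have e1 : cond p.i c 1 * (cond p.j d 1 * cond p.k s 1) * tau ρ a q.t =
        tau ρ a (cd p.i aC (cd p.j aD (cd p.k aS q.t))) * (cond p.i c 1 * (cond p.j d 1 * cond p.k s 1)) := by
      rw [mul_assoc, mul_assoc, cdl _ aS', ← mul_assoc (cond p.j d 1), cdl _ aD', mul_assoc, ← mul_assoc (cond p.i c 1),
        cdl _ aC', mul_assoc]
    simp only [φ, m]
    rw [tau_add h, ← dih (el.sq c hc) (el.sq d hd) ss dc (mul_inv_eq_iff_eq_mul.1 sc)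
      ((mul_inv_eq_iff_eq_mul.1 sd).trans (mul_assoc _ _ _)), mul_assoc (tau ρ a p.t), mul_assoc (tau ρ a p.t),
      ← mul_assoc _ (tau ρ a q.t), e1, mul_assoc (tau ρ a _)]
  have o1 : φ one = 1 := by simp [φ, one, tau0]
  have ker : ∀ e, φ e = 1 → e = one := by
    rintro ⟨t, i, j, k⟩ e
    simp only [φ] at e
    rw [← mul_assoc (cond i c 1), ← mul_assoc] at e
    cases k
    · rw [cond_false, mul_one] at e
      have k1 := cA i j
      have k2 : Commute (tau ρ a t) (tau ρ a (1, 0)) := by rw [Commute, SemiconjBy, ← tau_add h, ← tau_add h, add_comm]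
      rw [tau1] at k2
      rw [← inv_eq_of_mul_eq_one_right e, k2.inv_left.eq, mul_inv_cancel_right] at k1
      have k3 : ∀ i j : Bool, (1, 0) = cd i aC (cd j aD (1, 0)) → i = false ∧ j = false := by decide
      obtain ⟨rfl, rfl⟩ := k3 i j (tau_inj h (tau1.trans k1))
      rw [cond_false, cond_false, mul_one, mul_one] at e
      rw [tau_inj h (e.trans tau0.symm)]; rfl
    · have := (eq_inv_of_mul_eq_one_right e).symm ▸ inv_mem (mul_mem (TR (tT t)) (cD i j).1)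
      exact absurd this h'.s_not
  have mR : ∀ r ∈ R₁, ∃ e, φ e = r := fun r hr => by
    obtain ⟨t, ht, d', hd', rfl⟩ := h₁.od.decomp hr
    obtain ⟨p, rfl⟩ := (memT h).1 ht
    obtain ⟨y, e⟩ := exl d' hd'
    have k : ∀ y, ∃ i j : Bool, cd i aC (cd j aD (1, 0)) = lam y := by decide
    obtain ⟨i, j, k⟩ := k y
    exact ⟨⟨p, i, j, false⟩, by simp only [φ, cond_false, mul_one, uniq _ (cD i j) _ hd' (by rw [cA, k, e])]⟩
  refine ⟨φ, mul, fun p q e => ?_, fun g => ⟨fun hg => ?_, ?_⟩⟩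
  · obtain ⟨y, k, -⟩ := exists_inv q
    exact m_cancel ((ker _ (by rw [mul, e, ← mul, k, o1])).trans k.symm)
  · by_cases k : g ∈ R₁
    · exact mR g k
    · obtain ⟨e, he⟩ := mR _ (hi.mul_mem hg sS k h'.s_not)
      exact ⟨m e g3, by rw [mul, he]; simp [φ, g3, tau0, mul_assoc, ss]⟩
  · rintro ⟨e, rfl⟩
    simp only [φ]
    rw [← mul_assoc (cond e.i c 1)]
    exact mul_mem (hS (TR (tT _))) (mul_mem (hS (cD _ _).1) (by cases e.k; exacts [one_mem _, sS]))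

end E6

theorem Ctx.not128 (c : Ctx G) (hE : c.AllE) (h : EC c.S R₁ ρ s₁ z u) (hT : T128 R₁ ρ a) : False := by
  have k : ∀ b, Hom (supp R₁ ρ) ρ b 2 → z = b * b → False := fun b hb e => by
    obtain ⟨φ, hφ⟩ := E6.core h.bas.tri hb hT.el hT.faith (e ▸ (h.cz _ h.bas.mem).symm) h.bas.crit.le h.bas.mem h.ix
    exact E6.not_md c hE hφ
  have zT : z ∈ supp R₁ ρ := by simpa [h.ru] using (comm_mem_supp (x := ρ) h.u_mem).2.2
  obtain ⟨p, hp⟩ := (E6.memT hT.hom).1 zT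
  have k2 : ∀ p : E6.V, p + p = (0, 0) → p = (0, 0) ∨ p = (1, 0) + (1, 0) ∨ p = (0, 1) + (0, 1) ∨ p = (3, 3) + (3, 3) := by
    decide
  have h2 := E6.next hT.hom mem_norm_supp
  rcases k2 p (E6.tau_inj hT.hom (by
    rw [E6.tau_add hT.hom, hp, E6.tau0]; exact h.el.sq z (subset_closure (by simp)))) with rfl | rfl | rfl | rfl
  · exact h.z_ne (hp.symm.trans E6.tau0)
  · exact k _ hT.hom (by rw [← hp, E6.tau_add hT.hom, E6.tau1])
  · exact k _ h2 (by rw [← hp, E6.tau_add hT.hom, E6.tau2])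
  · exact k _ (E6.next h2 mem_norm_supp) (by rw [← hp, E6.tau_add hT.hom, E6.tau3 hT.hom])

end Cfsg.Agent.GHJ
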