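import Mathlib
import Cfsg.Agent.GHJ.Defs3
import Cfsg.Agent.GHJ.EB
import Cfsg.Agent.GHJ.HamB
import Cfsg.Agent.GHJ.HamP
import Cfsg.Agent.GHJ.E4
import Cfsg.Agent.GHJ.E5b

/-! All triples of index two: order 64. See `stubs/Cfsg/Agent/GHJ/PLAN2.md`. -/

set_option autoImplicit false
set_option linter.unusedSectionVars false

namespace Cfsg.Agent.GHJ

open Cfsg.Agent.Inv.Fz Cfsg.Agent.NE Subgroup
open scoped commutatorElement

variable {G : Type*} [Group G] [Finite G] {S R₁ R₂ F : Subgroup G} {ρ s₁ z u x s₂ f v w a : G}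

/-- If `F` is self-centralising the squares in `R₂` lie in `⟨z⟩`. -/
theorem EF.sq2 (h : EF S R₁ ρ s₁ z u R₂ x s₂ f F) (hC : ∀ y ∈ S, Cz y F → y ∈ F) : ∀ y ∈ R₂, y * y ∈ zpowers z := by
  have RS := h.bas₂.crit.le
  have xn := h.bas₂.tri.xn
  have FR : F ≤ R₂ := h.F_le.trans inf_le_right
  have zF : z ∈ F := h.F_eq ▸ subset_closure (by simp)
  have z2 := h.elF.sq z zF
  have cz : ∀ y ∈ R₂, ∀ c ∈ zpowers z, y * c * y⁻¹ = c := fun y hy c hc =>
    conj_eq_of_comm (comm_zpowers (h.cz y (RS hy)).symm hc)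
  have sz : ∀ c ∈ zpowers z, c * c = 1 := fun c hc => h.elF.sq c (zpowers_le.2 zF hc)
  have m := fun y hy => (h.mem₂ y (RS hy)).1 hy
  have sF : ∀ y ∈ R₂, y * y ∈ F := fun y hy => hC _ (RS (mul_mem hy hy)) fun v hv =>
    UPL.cm1.1 (by rw [UPL.mul_cm, cz y hy _ (m y hy v hv), sz _ (m y hy v hv)])
  have cF : ∀ a ∈ R₂, ∀ b ∈ R₂, ⁅a, b⁆ ∈ F := fun a ha b hb => phi_le_iff.2 sF (comm_mem_phi ha hb)
  intro y hy
  have y1 := (conj_mem_norm xn).2 hy
  have y2 := (conj_mem_norm xn).2 y1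
  have e2 : x * (x * (x * y * x⁻¹) * x⁻¹) * x⁻¹ = y :=
    (by rw [pow_three]; group : _ = x ^ 3 * y * (x ^ 3)⁻¹).trans (conj_eq_of_comm (h.cube₂ y hy))
  generalize e1 : x * (x * y * x⁻¹) * x⁻¹ = y₂ at *
  generalize e0 : x * y * x⁻¹ = y₁ at *
  have p := mul_mem (mul_mem hy y1) y2
  have pF : y * y₁ * y₂ ∈ F := hC _ (RS p) (h.fpf _ p fun v hv => comm_of_sq h.elF.sq (by
    rw [commutatorElement_def, conj_mul', conj_mul', e0, e1, e2,
      show y₁ * y₂ * y * (y * y₁ * y₂)⁻¹ = ⁅y₁ * y₂, y⁆ by group]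
    exact cF _ (mul_mem y1 y2) _ hy) hv)
  have c1 : ⁅y₁, y⁆ ∈ zpowers z := h.fpfF (cF _ y1 _ hy) (by
    have e : y₂ = y₁⁻¹ * (y⁻¹ * (y * y₁ * y₂)) := by group
    have k := TriA.cinv.1 (m _ y1 _ pF)
    rw [commutatorElement_def x, UPL.cj_cm, e1, e0, e]
    generalize y * y₁ * y₂ = w at k
    rw [show ⁅y₁⁻¹ * (y⁻¹ * w), y₁⁆ * ⁅y₁, y⁆⁻¹ = (y * y₁)⁻¹ * ⁅w, y₁⁆ * (y * y₁)⁻¹⁻¹ *
      ((y * y₁)⁻¹ * ⁅y₁, y⁆ * (y * y₁)⁻¹⁻¹ * ⁅y₁, y⁆⁻¹) by group, cz _ (inv_mem (mul_mem hy y1)) _ k]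
    exact mul_mem k (m _ (inv_mem (mul_mem hy y1)) _ (cF _ y1 _ hy)))
  have c2 : y₁ * (y * y) = y * y * y₁ := UPL.cm1.1 (by rw [UPL.cm_mul, cz y hy _ c1, sz _ c1])
  have c3 : y₂ * (y * y) = y * y * y₂ := by
    have k : y * y₁ * y₂ * (y * y) = y * y * (y * y₁ * y₂) := comm_of_sq h.elF.sq pF (sF y hy)
    refine mul_left_cancel (a := y * y₁) ?_
    rw [← mul_assoc, k, ← mul_assoc (y * y₁), mul_assoc y y₁ (y * y), c2]
    simp only [mul_assoc]
  by_contra n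
  have l : zpowers z ≤ F ⊓ centralizer {y} := zpowers_le.2 ⟨zF, mem_centralizer_singleton_iff.2 (h.cz y (RS hy))⟩
  have w : y * y ∈ F ⊓ centralizer {y} := ⟨sF y hy, mem_centralizer_singleton_iff.2 (mul_assoc _ _ _)⟩
  have xz : x ∈ normalizer (zpowers z : Set G) := mem_normalizer_of_conj_mem fun c hc => by
    rwa [conj_eq_of_comm (comm_zpowers h.xz hc)]
  refine n (h.fpfF (sF y hy) ((ix_of_card l w n (E5b.between l inf_le_left
    (by rw [h.elF.card, UPL.card_zp2 z2 h.z_ne]) (fun k => n (k w)) fun k => n ?_)).mul_mem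
      ⟨(conj_mem_norm h.xF).2 (sF y hy), mem_centralizer_singleton_iff.2 ?_⟩ (inv_mem w)
      (fun k => n ((conj_mem_norm xz).1 k)) fun k => n (inv_mem_iff.1 k)))
  · rw [h.elF.sq y (hC y (RS hy) fun v hv => (mem_centralizer_singleton_iff.1 (k hv).2).symm)]
    exact one_mem _
  · simpa only [e2] using (conj_comm x c3).symm

theorem Ctx.not64 (c : Ctx G) (h : EF c.S R₁ ρ s₁ z u R₂ x s₂ f F) (hc : Nat.card c.S = 64) : False := by
  have t := h.bas.tri
  have od := t.od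
  have RS := h.bas.crit.le
  have fF : f ∈ F := h.F_eq ▸ subset_closure (by simp)
  have FR : F ≤ R₁ := h.F_le.trans inf_le_left
  have CF : c.S ⊓ centralizer (F : Set G) ≤ F := (eq_of_le_of_card_ge (H := F) (fun v hv => mem_inf.2
    ⟨RS (FR hv), mem_centralizer_iff.2 fun w hw => comm_of_sq h.elF.sq hw hv⟩) (by
      have := h.card
      rw [h.elF.card]
      omega)).ge
  have s2 := h.sq2 fun y hy k => CF ⟨hy, TriA.cz_iff.1 k⟩
  have mF : ∀ r ∈ R₁, r * f = f * r → r ∈ F := fun r hr k => CF ((h.memC hr).2 k)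
  have zU : z ∈ closure {z, u} := subset_closure (by simp)
  have uU : u ∈ closure {z, u} := subset_closure (by simp)
  have eU := h.el
  have ρU := h.normU.2
  have SU := h.normU.1
  have UF : closure {z, u} ≤ F := fun v hv => h.memF.2 (.inl hv)
  have memF := fun v => h.memF (v := v)
  have memU := fun v => h.memU (v := v)
  have czU := fun w => h.czU (w := w)
  have fpf := fun v => h.fpfU (v := v)
  have fU := h.f_not
  have m0 := h.commf
  have om := h.om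
  have UT := h.U_le
  obtain ⟨r, hr, ru⟩ := h.onto u uU
  generalize (closure {z, u} : Subgroup G) = U at *
  have sU := eU.sq
  have UR := UF.trans FR
  have u1 : u ≠ 1 := fun e => h.z_ne (conj_eq_one_iff.1 (h.rz.trans e))
  have uz : u ≠ z := fun e => h.z_ne (conj_eq_one_iff.1 (h.rz.trans (conj_eq_one_iff.1 (h.ru.trans (e ▸ sU u uU)))))
  have cR : Nat.card R₁ = 32 := by
    have := h.ix.card RS h.bas.mem t.s_not
    omega
  have sq : ∀ y ∈ R₁, y * y ∈ U := fun y hy => by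
    refine ((memF _).1 (mF _ (mul_mem hy hy) (UPL.cm1.1 ?_))).elim id fun k => ?_
    · rw [UPL.mul_cm, conj_eq_of_comm (czU y hy _ (m0 y hy)), sU _ (m0 y hy)]
    · rw [h.elF.sq y (mF y hy (mul_right_cancel (b := y * y) ?_))]
      · exact one_mem _
      · rw [mul_assoc, czU y hy _ k]
        simp only [mul_assoc]
  have cT : Nat.card (supp R₁ ρ) = 16 := by
    rcases t.sec (c.r4' R₁) UR le_rfl t.xn ρU sq (by
      by_contra! k
      have e := le_antisymm (supp_le_of t.xn (RS.trans SU) UR k) UT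
      exact u1 (fpf u uU (mem_fix.1 (t.four_phi (e ▸ eU) (ru ▸ comm_mem_phi hr (FR fF)))).2)) with k | k
    · rw [sup_eq_left.2 UT, eU.card] at k
      exact k.1
    · rw [eU.card] at k
      omega
  obtain ⟨dj, hT⟩ := h.t16 cT
  have TR := supp_le t.xn
  have e : supp R₁ ρ ⊔ fix R₁ ρ = R₁ := le_antisymm (sup_le TR inf_le_left) fun r hr => by
    obtain ⟨p, hp, q, hq, rfl⟩ := od.decomp hr
    exact mul_mem_sup hp hq
  have cD := GT.PG.card_sup_of_inf_eq_bot (H := fix R₁ ρ) (inf_le_left.trans le_norm_supp) ((inf_comm _ _).trans dj)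
  rw [sup_comm, e, cT, cR] at cD
  obtain ⟨d, hd, d1⟩ := SetLike.not_le_iff_exists.1 fun k : fix R₁ ρ ≤ ⊥ => by
    rw [le_bot_iff.1 k, card_bot] at cD
    omega
  have sD : ∀ y ∈ fix R₁ ρ, y * y = 1 := fun y hy => fpf _ (sq y hy.1) (mem_fix.1 (mul_mem hy hy)).2
  have mD : ∀ y ∈ fix R₁ ρ, y = 1 ∨ y = d := fun y hy => (ix_of_card bot_le hd d1 (by rw [card_bot]; omega) y hy).imp id
    fun k => (eq_inv_of_mul_eq_one_right k).trans (inv_of_sq (sD d hd))
  have ds : s₁ * d = d * s₁ := comm_of_conj_eq ((mD _ ((conj_mem_norm t.s_fix).2 hd)).resolve_left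
    fun k => d1 (conj_eq_one_iff.1 k))
  have nT : c.S ≤ normalizer (supp R₁ ρ : Set G) :=
    UPL.norm_P (h.bas.toT1.loc c.pS c.r4 h.ix) le_norm_supp t.s_supp
  have key : ∀ y ∈ c.S, y ∉ R₁ → s₁ * s₁ * (y * y) ∈ supp R₁ ρ := fun y hy n => by
    obtain ⟨p, hp, q, hq, e⟩ := od.decomp ((h.ix y hy).resolve_left n)
    have k : s₁ * q = q * s₁ := (mD q hq).elim (fun k => by rw [k, mul_one, one_mul]) fun k => k ▸ ds
    have : s₁ * s₁ * (y * y) = s₁ * p * s₁⁻¹ * (q * p * q⁻¹) := by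
      rw [eq_inv_mul_of_mul_eq e, inv_of_sq (sD q hq), ← mul_assoc (s₁ * p * s₁⁻¹), ← mul_assoc (s₁ * p * s₁⁻¹),
        mul_assoc (s₁ * p), show s₁⁻¹ * q = q * s₁⁻¹ from (Commute.inv_left k).eq]
      group
    exact this ▸ mul_mem ((conj_mem_norm t.s_supp).2 hp) ((conj_mem_norm (le_norm_supp hq.1)).2 hp)
  have ss : s₁ * s₁ = 1 := by
    obtain ⟨y, y1, y2⟩ := SetLike.not_le_iff_exists.1 fun k : R₂ ≤ R₁ => by
      have := h.ix₂.card h.bas₂.crit.le h.bas₂.mem h.bas₂.tri.s_not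
      rcases (UPL.mem_zp2 (sU z zU)).1 (ru ▸ (h.mem₂ r (RS hr)).1 ((eq_of_le_of_card_ge k (by omega)).ge hr) f fF)
        with k | k
      exacts [u1 k, uz k]
    exact mem_bot.1 (dj.le ⟨(mul_mem_cancel_right (UT (zpowers_le.2 zU (s2 y y1)))).1 (key y (h.bas₂.crit.le y1) y2),
      h.ss⟩)
  have su : ⁅s₁, u⁆ = z := by
    rw [commutatorElement_def, h.su, comm_of_sq sU uU zU, mul_inv_cancel_right]
  rcases hT with k | ⟨a, k⟩
  · have n : f ∉ supp R₁ ρ := fun i => by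
      have := card_le_of_le fun y hy => mF y (TR hy) (comm_of_sq k.sq hy i)
      rw [cT, h.elF.card] at this
      omega
    obtain ⟨v, hv, e⟩ : ∃ v ∈ supp R₁ ρ, ⁅v, f⁆ = u := by
      rcases ix_of_card TR (FR fF) n (by omega) r hr with i | i
      · exact ⟨r, i, ru⟩
      · exact ⟨_, i, by rw [UPL.mul_cm, ru, commutatorElement_self, mul_one, conj_eq_of_comm (czU f (FR fF) u uU)]⟩
    refine c.not_ut4 k (TR.trans RS) nT hc (fun y hy => ?_) h.bas.mem (RS (FR fF)) hv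
      (by rw [← commutatorElement_inv v, e, inv_of_sq (sU u uU), su]; exact h.z_ne)
    by_cases i : y ∈ R₁
    · exact UT (sq y i)
    · simpa only [ss, one_mul] using key y hy i
  have ab : ∀ p ∈ supp R₁ ρ, ∀ q ∈ supp R₁ ρ, p * q = q * p := fun p hp q hq => by
    rw [k.eq] at hp hq
    refine (closure_le (centralizer {q})).2 ?_ hp |> mem_centralizer_singleton_iff.1
    rintro w hw
    refine mem_centralizer_singleton_iff.2 (((closure_le (centralizer {w})).2 ?_ hq |> mem_centralizer_singleton_iff.1).symm)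
    rintro _ (rfl | rfl) <;> rcases hw with rfl | rfl <;> refine mem_centralizer_singleton_iff.2 ?_
    exacts [rfl, k.comm, k.comm.symm, rfl]
  have sm : ∀ p ∈ supp R₁ ρ, ∀ q ∈ supp R₁ ρ, p * q * (p * q) = p * p * (q * q) := fun p hp q hq => by
    rw [mul_assoc, ← mul_assoc q, ← ab p hp q hq]
    simp only [mul_assoc]
  have gen : ∀ p ∈ supp R₁ ρ, ∀ q ∈ supp R₁ ρ, p * p ≠ 1 → q * q ≠ 1 → p * p ≠ q * q → ∀ K : Subgroup G, p ∈ K → q ∈ K →
      supp R₁ ρ ≤ K := fun p hp q hq p1 q1 n K pK qK => by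
    by_contra i
    have l : U ≤ supp R₁ ρ ⊓ K := fun v hv => ⟨UT hv, by
      rcases eU.mem4 (sq p (TR hp)) (sq q (TR hq)) p1 q1 n hv with rfl | rfl | rfl | rfl
      exacts [one_mem _, mul_mem pK pK, mul_mem qK qK, mul_mem (mul_mem pK pK) (mul_mem qK qK)]⟩
    have p2 : p ∉ U := fun j => p1 (sU p j)
    have := sU _ ((ix_of_card l ⟨hp, pK⟩ p2 (E5b.between l inf_le_left (by rw [cT, eU.card]) (fun j => p2 (j ⟨hp, pK⟩))
      fun j => i (j.trans inf_le_right))).mul_mem ⟨hp, pK⟩ ⟨hq, qK⟩ p2 fun j => q1 (sU q j))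
    rw [sm p hp q hq] at this
    exact n ((eq_inv_of_mul_eq_one_left this).trans (inv_of_sq (sU _ (sq q (TR hq)))))
  have cT := fun {p} => (conj_mem_norm (x := p) (mem_norm_supp (R := R₁) (x := ρ))).2
  obtain ⟨v, hv, vu⟩ : ∃ v ∈ supp R₁ ρ, v * v = u := by
    have ha : a ∈ supp R₁ ρ := k.eq ▸ subset_closure (by simp)
    rcases (memU _).1 (sq a (TR ha)) with i | i | i | i
    · have := orderOf_dvd_of_pow_eq_one ((pow_two a).trans i)
      rw [k.ord] at this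
      exact absurd this (by decide)
    · exact ⟨_, cT ha, by rw [← conj_mul', i, h.rz]⟩
    · exact ⟨a, ha, i⟩
    · exact ⟨_, cT (cT ha), by
        rw [← conj_mul', ← conj_mul', i, conj_mul' ρ u, h.ru, h.rz, mul_assoc u z u, ← comm_of_sq sU uU zU,
          sq_cancel (sU u uU), h.rz]⟩
  have sT := fun {p} => (conj_mem_norm (x := p) t.s_supp).2
  have sz : ∀ v ∈ supp R₁ ρ, v * v = u → v * (s₁ * v * s₁⁻¹) * (v * (s₁ * v * s₁⁻¹)) = z := fun v hv e => by
    rw [sm v hv _ (sT hv), ← conj_mul', e, h.su, sq_cancel (sU u uU)]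
  have w1 := mul_mem hv (sT hv)
  have w2 := sz v hv vu
  have w3 : s₁ * (v * (s₁ * v * s₁⁻¹)) * s₁⁻¹ = v * (s₁ * v * s₁⁻¹) := by
    rw [conj_mul', conj_conj, ss, one_mul, inv_one, mul_one, ab _ (sT hv) v hv]
  generalize v * (s₁ * v * s₁⁻¹) = w at w1 w2 w3
  have dρ := (mem_fix.1 hd).2
  have w4 : ρ * w * ρ⁻¹ * (ρ * w * ρ⁻¹) = u := by rw [← conj_mul', w2, h.rz]
  have dw : ⁅d, w⁆ = z := by
    have e : s₁ * ⁅d, w⁆ * s₁⁻¹ = ⁅d, w⁆ := by rw [UPL.cj_cm, conj_eq_of_comm ds, w3]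
    rcases (memU _).1 (phi_le_iff.2 sq (comm_mem_phi hd.1 (TR w1))) with i | i | i | i
    · have i := UPL.cm1.1 i
      have j := gen w w1 _ (cT w1) (w2 ▸ h.z_ne) (w4 ▸ u1) (w2 ▸ w4 ▸ uz.symm) (centralizer {d})
        (mem_centralizer_singleton_iff.2 i.symm) (mem_centralizer_singleton_iff.2 (by
          simpa only [conj_eq_of_comm dρ] using (conj_comm ρ i).symm))
      refine (d1 (fpf d (om d hd.1 (sD d hd) fun y hy => ?_) dρ)).elim
      obtain ⟨p, hp, q, hq, rfl⟩ := od.decomp hy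
      rw [← mul_assoc, ← mem_centralizer_singleton_iff.1 (j hp), mul_assoc, comm_of_sq sD hd hq, mul_assoc]
    · exact i
    · rw [i, h.su] at e
      exact absurd (mul_eq_left.1 e) h.z_ne
    · rw [i, conj_mul', h.su, conj_eq_of_comm (h.cz _ h.bas.mem).symm, mul_assoc, sU z zU, mul_one] at e
      exact absurd (mul_eq_left.1 e.symm) h.z_ne
  have da : ⁅d, ρ * w * ρ⁻¹⁆ = u := by rw [← h.rz, ← dw, UPL.cj_cm, conj_eq_of_comm dρ]
  have ha := cT w1
  generalize ρ * w * ρ⁻¹ = a at w4 da ha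
  have a4 : a * a * (a * a) = 1 := w4 ▸ sU u uU
  refine c.not_gs (k := 0) (a := a) (b := s₁ * a * s₁⁻¹) (t := s₁) (u := d) ⟨by rw [← a4, ← pow_two, ← pow_two, ← pow_mul]; rfl,
    ab a ha _ (sT ha), ss, sD d hd, ds, by group, ?_⟩ (by rw [show 2 ^ (0 + 1) = 2 from rfl, pow_two, sz a ha w4]; exact h.z_ne)
    (le_antisymm (fun y hy => ?_) ((closure_le _).2 ?_))
  · rw [← w4, commutatorElement_def, mul_inv_eq_iff_eq_mul, mul_inv_eq_iff_eq_mul] at da
    rw [da, inv_eq_of_mul_eq_one_left (by rwa [mul_assoc (a * a)] : a * a * a * a = 1)]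
  · have k1 : R₁ ≤ closure {a, s₁ * a * s₁⁻¹, s₁, d} := fun y hy => by
      obtain ⟨p, hp, q, hq, rfl⟩ := od.decomp hy
      refine mul_mem (gen a ha _ (sT ha) (w4 ▸ u1) (fun i => u1 (conj_eq_one_iff.1 (by rw [← w4, conj_mul', i])))
        (by rw [← conj_mul', w4, h.su]; exact fun i => h.z_ne (mul_eq_left.1 i.symm)) _
        (subset_closure (by simp)) (subset_closure (by simp)) hp) ?_
      rcases mD q hq with rfl | rfl
      exacts [one_mem _, subset_closure (by simp)]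
    exact (h.ix y hy).elim (fun i => k1 i) fun i => (mul_mem_cancel_left (subset_closure (by simp))).1 (k1 i)
  · rintro _ (rfl | rfl | rfl | rfl)
    exacts [RS (TR ha), RS (TR (sT ha)), h.bas.mem, RS hd.1]

end Cfsg.Agent.GHJ
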