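import Mathlib
import Cfsg.Agent.GHJ.Defs3
import Cfsg.Agent.GHJ.EB
import Cfsg.Agent.GHJ.FF
import Cfsg.Agent.GHJ.U
import Cfsg.Agent.GHJ.E4
import Cfsg.Agent.GHJ.E5b

/-! All triples of index two: the conjugates of `F` generate `E₁₆`. See `stubs/Cfsg/Agent/GHJ/PLAN2.md`. -/

set_option autoImplicit false
set_option linter.unusedSectionVars false

namespace Cfsg.Agent.GHJ

open Cfsg.Agent.Inv.Fz Cfsg.Agent.NE Subgroup
open scoped commutatorElement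

variable {G : Type*} [Group G] [Finite G] {S R₁ R₂ F : Subgroup G} {ρ s₁ z u x s₂ f v w a : G}

namespace E7

variable {K L M N : Subgroup G} {d : G}

theorem norm_mid (h2 : ∀ k ∈ K, k * k ∈ L) (hL : L ≤ M) (hM : M ≤ K) : K ≤ normalizer (M : Set G) :=
  norm_of_comm fun _ hy _ ha => hL (phi_le_iff.2 h2 (comm_mem_phi hy (hM ha)))

/-- No invariant step of order two in a section without fixed points. -/
theorem no_two (od : Od K ρ) (h2 : ∀ k ∈ K, k * k ∈ L) (hf : ∀ k ∈ K, ⁅ρ, k⁆ ∈ L → k ∈ L) (hL : L ≤ M) (hM : M ≤ N)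
    (hN : N ≤ K) (ρM : ρ ∈ normalizer (M : Set G)) (ρN : ρ ∈ normalizer (N : Set G)) :
    Nat.card N ≠ 2 * Nat.card M := fun c => by
  obtain ⟨k, k1, k2⟩ := SetLike.not_le_iff_exists.1 fun e : N ≤ M => by
    have := card_le_of_le e
    have : 0 < Nat.card M := Nat.card_pos
    omega
  obtain ⟨d, hd, e⟩ := od.lift (hM.trans hN) ρM (hN k1) (norm_mid h2 hL (hM.trans hN) (hN k1))
    ((ix_of_card hM k1 k2 c).mul_mem ((conj_mem_norm ρN).2 k1) (inv_mem k1) (fun e => k2 ((conj_mem_norm ρM).1 e))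
      fun e => k2 (inv_mem_iff.1 e))
  exact k2 (inv_mem_iff.1 ((mul_mem_cancel_right (hL (hf d hd.1 (UPL.cm1.2 (mem_fix.1 hd).2 ▸ one_mem _)))).1 e))

/-- An involution that commutes with `ρ` acts freely. -/
theorem free_comm (od : Od K ρ) (hL : L ≤ K) (h2 : ∀ k ∈ K, k * k ∈ L) (c : Nat.card K = 16 * Nat.card L)
    (ρL : ρ ∈ normalizer (L : Set G)) (dK : d ∈ normalizer (K : Set G)) (dL : d ∈ normalizer (L : Set G))
    (dd : d * d = 1) (e : ρ * d = d * ρ)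
    (hf : ∀ k ∈ K, ⁅ρ, k⁆ ∈ L → k ∈ L) {y : G} (hy : y ∈ K) (hm : ⁅d, y⁆ ∉ L) :
    ∀ k ∈ K, ⁅d, k⁆ ∈ L → ∃ u ∈ K, k⁻¹ * ⁅d, u⁆ ∈ L := fun k hk hd => by
  have nL := norm_mid h2 le_rfl hL
  have KK : ⁅K, K⁆ ≤ L := TriB.der_le_phi.trans (phi_le_iff.2 h2)
  have m : ∀ y ∈ K, ⁅d, y⁆ ∈ K := fun y hy => mul_mem ((conj_mem_norm dK).2 hy) (inv_mem hy)
  have y' := (conj_mem_norm od.xn).2 hy
  have cj : ∀ y, ρ * ⁅d, y⁆ * ρ⁻¹ = ⁅d, ρ * y * ρ⁻¹⁆ := fun y => by rw [UPL.cj_cm, conj_eq_of_comm e]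
  obtain ⟨X, hX⟩ := exists_fx d nL
  have mX : ∀ y ∈ K, ⁅d, y⁆ ∈ X := fun y hy => (hX _).2 ⟨m y hy, by
    have : ⁅d, ⁅d, y⁆⁆ = (⁅d, y⁆ * ⁅d, y⁆)⁻¹ := by
      simp only [commutatorElement_def, mul_inv_rev, inv_inv, inv_of_sq dd, mul_assoc, sq_cancel dd]
    exact this ▸ inv_mem (h2 _ (m y hy))⟩
  have sw : ∀ {w}, w * k ∈ L → k⁻¹ * w ∈ L := fun {w} a => by
    rw [show k⁻¹ * w = (k * k)⁻¹ * (k * (w * k) * k⁻¹) by group]
    exact mul_mem (inv_mem (h2 k hk)) ((conj_mem_norm (nL hk)).2 a)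
  obtain ⟨a1, a2, a3, a4⟩ := TriB.step KK le_rfl hL (fun g hg => mul_mem hg hg) (m y hy) (h2 _ (m y hy))
  obtain ⟨b1, b2, -, b4⟩ := TriB.step KK (le_ext _ _) a2 a3 (m _ y') (h2 _ (m _ y'))
  have n : ⁅d, ρ * y * ρ⁻¹⁆ ∉ ext L ⁅d, y⁆ := fun i => by
    rw [← cj] at i
    rcases (a1 _).1 i with i | i
    · exact hm ((conj_mem_norm ρL).1 i)
    · refine hm (hf _ (m y hy) ?_)
      have := (conj_mem_norm (nL (inv_mem (m y hy)))).2 (mul_mem i (inv_mem (h2 _ (m y hy))))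
      generalize ⁅d, y⁆ = p at this
      rwa [show p⁻¹ * (p * (ρ * p * ρ⁻¹) * (p * p)⁻¹) * p⁻¹⁻¹ = ⁅ρ, p⁆ by group] at this
  have LX : L ≤ X := fun l hl => (hX l).2 ⟨hL hl, mul_mem ((conj_mem_norm dL).2 hl) (inv_mem hl)⟩
  have XK : X ≤ K := fun l hl => ((hX l).1 hl).1
  have cI := b4 n
  rw [a4 hm] at cI
  have XI : X ≤ ext (ext L ⁅d, y⁆) ⁅d, ρ * y * ρ⁻¹⁆ := by
    by_contra i
    have := E5b.between (ext_le.2 ⟨ext_le.2 ⟨LX, mX y hy⟩, mX _ y'⟩) XK (by omega) i fun j => hm ((hX y).1 (j hy)).2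
    exact no_two od h2 hf LX XK le_rfl (mem_normalizer_of_conj_mem fun l hl => (hX _).2
      ⟨(conj_mem_norm od.xn).2 (XK hl), cj l ▸ (conj_mem_norm ρL).2 ((hX l).1 hl).2⟩) od.xn (by omega)
  rcases (b1 k).1 (XI ((hX k).2 ⟨hk, hd⟩)) with i | i <;> rcases (a1 _).1 i with i | i
  · exact ⟨1, one_mem _, by simpa using i⟩
  · exact ⟨y, hy, sw i⟩
  · exact ⟨_, y', sw i⟩
  · refine ⟨y * (ρ * y * ρ⁻¹), mul_mem hy y', sw ?_⟩
    have j := (conj_mem_norm (nL (m y hy))).2 (KK (commutator_mem_commutator hy (m _ y')))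
    rw [UPL.cm_mul]
    generalize ⁅d, ρ * y * ρ⁻¹⁆ = q at i j
    generalize ⁅d, y⁆ = p at i j
    rw [show p * (y * q * y⁻¹) * k = p * ⁅y, q⁆ * p⁻¹ * (p * (q * k)) by group]
    exact mul_mem j i

end E7

theorem Ctx.e7 (c : Ctx G) (h : EF c.S R₁ ρ s₁ z u R₂ x s₂ f F) (hne : ρ * f * ρ⁻¹ ∉ F)
    (hr : f * (ρ * f * ρ⁻¹) * (ρ * (ρ * f * ρ⁻¹) * ρ⁻¹) ∈ closure {z, u}) : False := by
  have hS := c.pS
  have h4 := c.r4
  obtain ⟨⟨v₁, hv₁, sw₁⟩, -⟩ := E4.swap h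
  have t := h.bas.tri
  have od := t.od
  have RS := h.bas.crit.le
  have loc := h.bas.toT1.loc hS h4 h.ix
  have fF : f ∈ F := h.F_eq ▸ subset_closure (by simp)
  have FR : F ≤ R₁ := h.F_le.trans inf_le_left
  have q0 := h.elF.sq f fF
  have m0 := h.commf
  have m1 := E4.comm_cj h.toEC m0
  have q1 := UPL.sq_conj q0 ρ
  have r0 := FR fF
  have r1 := (conj_mem_norm t.xn).2 r0
  have e2 := E4.cube h.toEC r0
  generalize e1 : ρ * (ρ * f * ρ⁻¹) * ρ⁻¹ = f₂ at *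
  generalize e0 : ρ * f * ρ⁻¹ = f₁ at *
  have zU : z ∈ closure {z, u} := subset_closure (by simp)
  have uU : u ∈ closure {z, u} := subset_closure (by simp)
  have eU := h.el
  have ρU := h.normU.2
  have SU := h.normU.1
  have UF : closure {z, u} ≤ F := fun v hv => h.memF.2 (.inl hv)
  have memF := fun v => h.memF (v := v)
  have czU := fun w => h.czU (w := w)
  have fpf := fun v => h.fpfU (v := v)
  have fU := h.f_not
  have jl := fun w => h.jlem (w := w) h4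
  have fus := h.fused
  generalize (closure {z, u} : Subgroup G) = U at *
  have sU := eU.sq
  have UR := UF.trans FR
  have f2 : f₂ = f₁ * (f * (f * f₁ * f₂)) := by simp only [mul_assoc, sq_cancel q0, sq_cancel q1]
  have c0 : f * f₁ = f₁ * f := UPL.cm1.1 (fpf _ (m1 f r0) (comm_of_conj_eq (by
    rw [UPL.cj_cm, e0, e1, f2, UPL.cm_mul, UPL.cm_mul, commutatorElement_self, one_mul, UPL.cm1.2 (czU _ r1 _ hr),
      mul_one, mul_inv_cancel, mul_one, conj_eq_of_comm (czU _ r1 _ (m0 _ r1)), ← commutatorElement_inv,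
      inv_of_sq (sU _ (m1 f r0))])))
  have cF : ∀ a ∈ F, f₁ * a = a * f₁ := TriA.cz_iff.2 ((h.memC r1).2 c0.symm).2
  obtain ⟨a1, a2, a3⟩ := ext_elem h.elF.sq q1 cF
  have eA : El 16 (ext F f₁) := ⟨by rw [a3 hne, h.elF.card], a2⟩
  have xA : x ∈ normalizer (ext F f₁ : Set G) := jl f₁ (RS r1) q1 cF hne fun y hy k =>
    m1 y (h.C_le ⟨hy, TriA.cz_iff.1 k⟩).1
  have FA : F ≤ ext F f₁ := le_ext _ _
  have A1 : f₁ ∈ ext F f₁ := self_mem_ext _ _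
  have AR : ext F f₁ ≤ R₁ := ext_le.2 ⟨FR, r1⟩
  have A2 : f₂ ∈ ext F f₁ := f2 ▸ mul_mem A1 (FA (mul_mem fF (UF hr)))
  have RA : ∀ r ∈ R₁, ∀ a ∈ ext F f₁, ⁅r, a⁆ ∈ U := fun r hr a ha => by
    obtain ⟨X, hX⟩ := exists_fx r (RS.trans SU)
    exact ((hX a).1 ((ext_le (K := X)).2 ⟨fun y hy => (hX y).2 ⟨FR hy, h.commF (RS hr) hy |> fun k => by
      rcases (memF y).1 hy with k | k
      · exact UPL.cm1.2 (czU r hr y k) ▸ one_mem _
      · rw [← sq_cancel q0 y, UPL.cm_mul, UPL.cm1.2 (czU r hr _ k), mul_one, mul_inv_cancel, mul_one]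
        exact m0 r hr⟩, (hX _).2 ⟨r1, m1 r hr⟩⟩ ha)).2
  have ρA : ρ ∈ normalizer (ext F f₁ : Set G) := cj_eq_iff.1 (cj_eq_of_le (by
    rw [cj_ext, ext_le, e1]
    refine ⟨cj_le_iff.2 fun y hy => ?_, A2⟩
    exact ((memF y).1 hy).elim (fun k => FA (UF ((conj_mem_norm ρU).2 k))) fun k => (mul_mem_cancel_left A1).1 (by
      have := FA (UF ((conj_mem_norm ρU).2 k))
      rwa [conj_mul', e0] at this)))
  have SA : c.S ≤ normalizer (ext F f₁ : Set G) := UPL.norm_P loc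
    (norm_of_comm fun r hr y hy => FA (UF (RA r hr y hy))) (cj_eq_iff.1 (cj_eq_of_le (by
      rw [cj_ext, ext_le, sw₁, cj_eq_iff.2 (h.nF h.bas.mem)]
      exact ⟨FA, mul_mem (FA (UF hv₁)) A2⟩)))
  have fA : ∀ a ∈ ext F f₁, ⁅ρ, a⁆ ∈ U → a ∈ U := fun a ha k => by
    obtain ⟨X, hX⟩ := exists_fx ρ (RS.trans SU)
    have n : ∀ {w}, w * a ∈ U → ⁅ρ, w⁆ ∈ U := fun {w} i => ((hX w).1 ((mul_mem_cancel_right ((hX a).2 ⟨AR ha, k⟩)).1
      ((hX _).2 ⟨UR i, mul_mem ((conj_mem_norm ρU).2 i) (inv_mem i)⟩))).2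
    rcases (a1 a).1 ha with i | i <;> rcases (memF _).1 i with i | i
    · exact i
    · exact absurd ((mul_mem_cancel_right (inv_mem fF)).1 (UF (e0 ▸ n i))) hne
    · have := n i
      rw [commutatorElement_def, e1, inv_of_sq q1, comm_of_sq a2 A2 A1] at this
      exact absurd ((mul_mem_cancel_right this).1 (mul_assoc f _ _ ▸ hr)) fU
    · have := n (w := f * f₁) (by rwa [mul_assoc])
      rw [commutatorElement_def, conj_mul', e0, e1, inv_of_sq (a2 _ (mul_mem (FA fF) A1)),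
        comm_of_sq a2 (mul_mem A1 A2) (mul_mem (FA fF) A1), comm_of_sq a2 A1 A2, ← mul_assoc] at this
      exact absurd (UF ((mul_mem_cancel_left hr).1 this)) hne
  generalize ext F f₁ = A at *
  have UA := UF.trans FA
  have f1 : ∀ a ∈ A, ⁅ρ, a⁆ ∈ (⊥ : Subgroup G) → a ∈ (⊥ : Subgroup G) := fun a ha k =>
    fpf a (fA a ha (mem_bot.1 k ▸ one_mem _)) (UPL.cmb.1 k)
  have CR : c.S ⊓ centralizer (A : Set G) ≤ R₁ ⊓ R₂ := (inf_le_inf_left _ (centralizer_le FA)).trans h.C_le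
  have nC : ∀ {R g}, R ≤ c.S → c.S ⊓ centralizer (A : Set G) ≤ R → g ∈ normalizer (R : Set G) →
      g ∈ normalizer (A : Set G) → g ∈ normalizer ((c.S ⊓ centralizer (A : Set G) : Subgroup G) : Set G) :=
    fun h0 h1 h2 h3 => mem_normalizer_of_conj_mem fun y hy =>
      ⟨h0 ((conj_mem_norm h2).2 (h1 hy)), TriA.cz_iff.1 (Cz.conj (TriA.cz_iff.2 hy.2) h3)⟩
  have AC : A ≤ c.S ⊓ centralizer (A : Set G) := fun a ha =>
    ⟨RS (AR ha), mem_centralizer_iff.2 fun y hy => comm_of_sq eA.sq hy ha⟩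
  have CA : c.S ⊓ centralizer (A : Set G) ≤ A := by
    by_contra k
    obtain ⟨E, hE, AE, nE⟩ := UPL.exists_omz AC (inf_le_left.trans SA)
    have SE : c.S ≤ normalizer (E : Set G) := fun g hg => nE g (nC le_rfl inf_le_left (le_normalizer hg) (SA hg)) (SA hg)
    have ρE := nE ρ (nC RS (CR.trans inf_le_left) t.xn ρA) ρA
    have xE := nE x (nC h.bas₂.crit.le (CR.trans inf_le_right) h.bas₂.tri.xn xA) xA
    have EC : E ≤ c.S ⊓ centralizer (A : Set G) := fun y hy => ((hE y).1 hy).1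
    have ER : E ≤ R₁ := EC.trans (CR.trans inf_le_left)
    have sE : ∀ y ∈ E, y * y ∈ A := fun y hy => ((hE y).1 hy).2.1
    have cE : ∀ y ∈ E, ∀ a ∈ A, a * y = y * a := fun y hy => (EC hy).2
    have inv : ∀ y ∈ E, y * y = 1 → y ∈ A := fun y hy q => h4.mem_el16 eA (AR.trans RS) (RS (ER hy)) q
      fun a ha => (cE y hy a ha).symm
    have fE : ∀ y ∈ E, ⁅ρ, y⁆ ∈ A → y ∈ A := fun y hy i => by
      obtain ⟨d, hd, e⟩ := (od.mono ER ρE).lift AE ρA hy (SA (RS (ER hy))) i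
      have : d = 1 := by
        by_contra n
        obtain ⟨w, w1, w2, w3⟩ := exists_pow_two hS (RS (ER hd.1)) n
        exact w2 (f1 w (inv w (zpowers_le.2 hd.1 w1) w3) (UPL.cmb.2 (comm_zpowers (mem_fix.1 hd).2 w1)))
      rwa [this, mul_one, inv_mem_iff] at e
    have sq : ∀ y ∈ E, ∀ w, w * y ∈ A → w * w = y * y := fun y hy w i => by
      have e : w = w * y * y⁻¹ := by group
      rw [e, ← inv_of_sq (eA.sq _ (sE y hy))]
      generalize w * y = a at i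
      rw [mul_assoc, ← mul_assoc y⁻¹, ← cE _ (inv_mem hy) a i, mul_assoc, sq_cancel (eA.sq a i), mul_inv_rev]
    obtain ⟨e, g1, g2, g3, g4⟩ := exists_central_mod hS SA inf_le_left
      (fun g hg => nC le_rfl inf_le_left (le_normalizer hg) (SA hg)) k
    have eE : e ∈ E := (hE e).2 ⟨g1, g3, fun r hr => g4 r hr.1⟩
    have ez : e * e = z := by
      refine ((UPL.mem_zp2 (sU z zU)).1 (h.central (mul_mem g1.1 g1.1) (eA.sq _ g3) fun s hs => ?_)).resolve_left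
        fun i => g2 (inv e eE i)
      refine (comm_of_conj_eq ?_).symm
      rw [conj_mul']
      exact sq e eE _ (by simpa only [mul_assoc, inv_mul_cancel_left] using mul_mem (g4 s hs) g3)
    have eE' := (conj_mem_norm ρE).2 eE
    have eu : ρ * e * ρ⁻¹ * (ρ * e * ρ⁻¹) = u := by rw [← conj_mul', ez, h.rz]
    have fin : ¬ ∀ y ∈ E, y * y ∈ U := fun i => fU (by
      have := i _ ((conj_mem_norm xE).2 eE')
      rwa [← conj_mul', eu, ← h.f_eq] at this)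
    have EE : ⁅E, E⁆ ≤ A := TriB.der_le_phi.trans (phi_le_iff.2 sE)
    rcases t.sec (h4.mono RS) AE ER ρE ρA sE ⟨e, eE, fun i => g2 (fE e eE i)⟩ with i | i
    · have cE' : Nat.card E = 4 * Nat.card A := by
        rw [← i.1, le_antisymm (sup_le (supp_le ρE) AE) fun y hy => ?_]
        obtain ⟨p, hp, d, hd, rfl⟩ := (od.mono ER ρE).decomp hy
        exact mul_mem_sup hp (fE d hd.1 (UPL.cm1.2 (mem_fix.1 hd).2 ▸ one_mem _))
      have n : ∀ y ∈ E, y * (ρ * y * ρ⁻¹) ∈ A → y ∈ A := fun y hy i => fE y hy (by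
        have := (conj_mem_norm (SA (RS (ER (inv_mem hy))))).2 (mul_mem i (inv_mem (sE y hy)))
        rwa [show y⁻¹ * (y * (ρ * y * ρ⁻¹) * (y * y)⁻¹) * y⁻¹⁻¹ = ⁅ρ, y⁆ by group] at this)
      obtain ⟨b1, b2, b3, b4⟩ := TriB.step EE le_rfl AE (fun g hg => mul_mem hg hg) eE g3
      obtain ⟨d1, d2, -, d4⟩ := TriB.step EE (le_ext _ _) b2 b3 eE' (sE _ eE')
      have d5 := (eq_of_le_of_card_ge d2 (by
        rw [d4 fun i => ((b1 _).1 i).elim (fun i => g2 ((conj_mem_norm ρA).1 i)) fun i => g2 (n e eE i), b4 g2, cE']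
        omega)).ge
      have d6 : ∀ y ∈ E, y ∈ A ∨ e * y ∈ A ∨ ρ * e * ρ⁻¹ * y ∈ A ∨ e * (ρ * e * ρ⁻¹) * y ∈ A := fun y hy => by
        rcases (d1 y).1 (d5 hy) with i | i <;> rcases (b1 _).1 i with i | i
        exacts [.inl i, .inr (.inl i), .inr (.inr (.inl i)), .inr (.inr (.inr (by rwa [mul_assoc])))]
      have eE'' := (conj_mem_norm ρE).2 eE'
      refine fin fun y hy => ?_
      rcases d6 y hy with i | i | i | i
      · exact eA.sq y i ▸ one_mem _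
      · exact sq y hy _ i ▸ ez ▸ zU
      · exact sq y hy _ i ▸ eu ▸ uU
      · rw [← sq y hy _ i]
        rcases d6 _ eE'' with j | j | j | j
        · exact absurd ((conj_mem_norm ρA).1 ((conj_mem_norm ρA).1 j)) g2
        · have := (conj_mem_norm (SA (RS (ER (inv_mem eE))))).2 j
          rw [show ∀ a, e⁻¹ * (e * a) * e⁻¹⁻¹ = a * e from fun a => by group] at this
          conv at this => arg 2; arg 2; rw [← E4.cube h.toEC (ER eE)]
          exact absurd ((conj_mem_norm ρA).1 ((conj_mem_norm ρA).1 (n _ eE'' this))) g2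
        · exact absurd ((conj_mem_norm ρA).1 (n _ eE' j)) g2
        · rw [sq _ eE'' _ j, ← conj_mul', eu]
          exact (conj_mem_norm ρU).2 uU
    · have F := fun {t} ht => ff (t := t) h4 (ER.trans RS) ht bot_le AE (by rw [eA.card, card_bot]) i.1 eA.sq sE
        (fun y hy a ha => UPL.cmb.2 (cE y hy a ha).symm) (UPL.nbot t) (SA ht) (SE ht)
      by_cases s2 : s₁ * s₁ = 1
      · exact F h.bas.mem (s2 ▸ one_mem _)
          (UPL.free3 bot_le eA.sq ρA (UPL.nbot ρ) (SA h.bas.mem) f1 (fun k hk => h.cube k (AR hk)) fun k hk =>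
            UPL.cmb.2 (t.inv k (AR hk)))
          (UPL.free3 AE sE ρE ρA (SE h.bas.mem) fE (fun k hk => h.cube k (ER hk)) fun k hk =>
            UPL.cm1.2 (t.inv k (ER hk)) ▸ one_mem _)
      obtain ⟨d, w1, w2, w3⟩ := exists_pow_two hS (RS t.ss) s2
      obtain ⟨dR, dρ⟩ := mem_fix.1 (zpowers_le.2 h.ss w1)
      obtain ⟨a, ha, n⟩ : ∃ a ∈ A, ⁅d, a⁆ ∉ (⊥ : Subgroup G) := by
        by_contra! n
        exact w2 (f1 d (h4.mem_el16 eA (AR.trans RS) (RS dR) w3 fun a ha => UPL.cmb.1 (n a ha)) (UPL.cmb.2 dρ))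
      have fr := E7.free_comm (od.mono AR ρA) bot_le eA.sq (by rw [eA.card, card_bot]) (UPL.nbot ρ) (SA (RS dR))
        (UPL.nbot d) w3 dρ f1 ha n
      by_cases m : ∃ y ∈ E, ⁅d, y⁆ ∉ A
      · obtain ⟨y, hy, m⟩ := m
        exact F (RS dR) (w3 ▸ one_mem _) fr
          (E7.free_comm (od.mono ER ρE) AE sE i.1 ρA (SE (RS dR)) (SA (RS dR)) w3 dρ fE hy m)
      push Not at m
      refine fin fun y hy => ?_
      obtain ⟨w, hw, j⟩ := fr _ (sE y hy) (UPL.cmb.2 (comm_of_conj_eq (by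
        rw [conj_mul']
        refine sq y hy _ ?_
        simpa only [commutatorElement_def, mul_assoc, inv_mul_cancel_left] using mul_mem (m y hy) (sE y hy))))
      exact inv_mul_eq_one.1 j ▸ RA d dR w hw
  have cA : ∀ y ∈ R₁, (∀ a ∈ A, y * a = a * y) → y ∈ A := fun y hy k =>
    CA ⟨RS hy, mem_centralizer_iff.2 fun a ha => (k a ha).symm⟩
  have bl : ∀ g ∈ R₁, ∀ k ∈ R₁, ∀ a ∈ A, ⁅g * k, a⁆ = ⁅k, a⁆ * ⁅g, a⁆ := fun g hg k hk a ha => by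
    rw [UPL.mul_cm, conj_eq_of_comm (czU g hg _ (RA k hk a ha))]
  have br : ∀ g ∈ R₁, ∀ a ∈ A, ∀ b ∈ A, ⁅g, a * b⁆ = ⁅g, a⁆ * ⁅g, b⁆ := fun g hg a ha b hb => by
    rw [UPL.cm_mul, conj_eq_of_comm (czU a (AR ha) _ (RA g hg b hb))]
  have sR : ∀ r ∈ R₁, r * r ∈ A := fun r hr => cA _ (mul_mem hr hr) fun a ha =>
    UPL.cm1.1 (by rw [bl r hr r hr a ha, sU _ (RA r hr a ha)])
  have gen : ∀ y ∈ R₁, ∀ a ∈ A, y * a = a * y → ⁅y, ρ * a * ρ⁻¹⁆ = 1 → y ∈ A ∨ a ∈ U := fun y hy a ha k1 k2 => by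
    by_contra! n
    have l : U ≤ A ⊓ centralizer {y} := fun v hv => ⟨UA hv, mem_centralizer_singleton_iff.2 (czU y hy v hv).symm⟩
    have m : a ∈ A ⊓ centralizer {y} := ⟨ha, mem_centralizer_singleton_iff.2 k1.symm⟩
    exact n.2 (fA a ha ((ix_of_card l m n.2 (E5b.between l inf_le_left (by rw [eA.card, eU.card]) (fun k => n.2 (k m))
      fun k => n.1 (cA y hy fun b hb => (mem_centralizer_singleton_iff.1 (k hb).2).symm))).mul_mem
        ⟨(conj_mem_norm ρA).2 ha, mem_centralizer_singleton_iff.2 (UPL.cm1.1 k2).symm⟩ (inv_mem m)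
        (fun k => n.2 ((conj_mem_norm ρU).1 k)) fun k => n.2 (inv_mem_iff.1 k)))
  have fin : ∀ H, H ≤ R₁ → A ≤ H → Nat.card H = 64 → (∀ y ∈ H, ∀ a ∈ A, y * a = a * y → y ∈ A ∨ a ∈ U) →
      ρ ∈ normalizer (H : Set G) → False := fun H h1 h2 h3 h4 h5 => by
    obtain ⟨B, -, k⟩ := fpf64 (h1.trans RS) eA eU UA h2 h3 (fun y hy => sR y (h1 hy)) (fun y hy => RA y (h1 hy)) h4 h5 ρA fA
    exact c.not_l34 k fus
  by_cases lin : ∀ y ∈ R₁, ⁅ρ, y⁆ ∈ A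
  · have nd : ∀ y ∈ R₁, ∀ a ∈ A, y * a = a * y → y ∈ A ∨ a ∈ U := fun y hy a ha k => gen y hy a ha k (by
      have a' := (conj_mem_norm ρA).2 ha
      have := congrArg (fun g => ρ * g * ρ⁻¹) (UPL.cm1.2 k)
      simp only [mul_one, mul_inv_cancel] at this
      rwa [UPL.cj_cm, show ρ * y * ρ⁻¹ = ⁅ρ, y⁆ * y by group, bl _ (AR (lin y hy)) y hy _ a',
        UPL.cm1.2 (comm_of_sq eA.sq (lin y hy) a'), mul_one] at this)
    refine fin R₁ le_rfl AR ?_ nd t.xn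
    have e : c.S ⊓ centralizer (F : Set G) = A := le_antisymm (fun y hy => (nd y (h.C_le hy).1 f (FA fF)
      (hy.2 f fF).symm).resolve_right fU) (AC.trans (inf_le_inf_left _ (centralizer_le FA)))
    have h1 := h.ix.card RS h.bas.mem t.s_not
    have h2 := h.card
    rw [e, eA.card] at h2
    omega
  push Not at lin
  obtain ⟨y, hy, n⟩ := lin
  obtain ⟨Q, _, π, p1, p2⟩ := exists_ab AR sR
  have p0 : π 1 = 1 := by simpa using p1 1 (one_mem _) 1 (one_mem _)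
  have pA : ∀ g ∈ R₁, π g = 1 ↔ g ∈ A := fun g hg => by rw [← p0, p2 g hg 1 (one_mem _), mul_one, inv_mem_iff]
  have cm := fun {g} => (conj_mem_norm (x := g) t.xn).2
  let φ : R₁ →* Q := MonoidHom.mk' (fun g => π g * π (ρ * g * ρ⁻¹) * π (ρ * (ρ * g * ρ⁻¹) * ρ⁻¹)) fun a b => by
    rw [coe_mul, conj_mul', conj_mul', p1 _ a.2 _ b.2, p1 _ (cm a.2) _ (cm b.2), p1 _ (cm (cm a.2)) _ (cm (cm b.2))]
    ac_rfl
  have mφ : ∀ g, g ∈ φ.ker.map R₁.subtype ↔ g ∈ R₁ ∧ g * (ρ * g * ρ⁻¹) * (ρ * (ρ * g * ρ⁻¹) * ρ⁻¹) ∈ A := fun g => by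
    have k : ∀ hg : g ∈ R₁, φ ⟨g, hg⟩ = 1 ↔ g * (ρ * g * ρ⁻¹) * (ρ * (ρ * g * ρ⁻¹) * ρ⁻¹) ∈ A := fun hg => by
      rw [← pA _ (mul_mem (mul_mem hg (cm hg)) (cm (cm hg))), p1 _ (mul_mem hg (cm hg)) _ (cm (cm hg)), p1 _ hg _ (cm hg)]
      rfl
    exact ⟨fun ⟨a, h1, h2⟩ => ⟨h2 ▸ a.2, (k (h2 ▸ a.2)).1 (by subst h2; exact h1)⟩, fun i => ⟨⟨g, i.1⟩, (k _).2 i.2, rfl⟩⟩
  have rR : ⁅ρ, y⁆ ∈ R₁ := mul_mem (cm hy) (inv_mem hy)
  have r3 : ⁅ρ, y⁆ ∈ φ.ker.map R₁.subtype := ⟨⟨ρ * y * ρ⁻¹, cm hy⟩ * ⟨y, hy⟩⁻¹, by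
    rw [SetLike.mem_coe, MonoidHom.mem_ker, map_mul, map_inv, mul_inv_eq_one]
    simp only [φ, MonoidHom.mk'_apply, E4.cube h.toEC hy]
    ac_rfl, rfl⟩
  generalize ⁅ρ, y⁆ = r at n rR r3
  have r4 := ((mφ r).1 r3).2
  have RR : ⁅R₁, R₁⁆ ≤ A := TriB.der_le_phi.trans (phi_le_iff.2 sR)
  obtain ⟨b1, b2, b3, b4⟩ := TriB.step RR le_rfl AR (fun g hg => mul_mem hg hg) rR (sR r rR)
  obtain ⟨-, d2, -, d4⟩ := TriB.step RR (le_ext _ _) b2 b3 (cm rR) (sR _ (cm rR))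
  have H0 : r ∈ ext (ext A r) (ρ * r * ρ⁻¹) := le_ext _ _ (self_mem_ext _ _)
  have H1 : ρ * r * ρ⁻¹ ∈ ext (ext A r) (ρ * r * ρ⁻¹) := self_mem_ext _ _
  have AH : A ≤ ext (ext A r) (ρ * r * ρ⁻¹) := (le_ext _ _).trans (le_ext _ _)
  have Hφ : ext (ext A r) (ρ * r * ρ⁻¹) ≤ φ.ker.map R₁.subtype := ext_le.2 ⟨ext_le.2 ⟨fun a ha => (mφ a).2 ⟨AR ha,
    mul_mem (mul_mem ha ((conj_mem_norm ρA).2 ha)) ((conj_mem_norm ρA).2 ((conj_mem_norm ρA).2 ha))⟩, r3⟩,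
    (mφ _).2 ⟨cm rR, by simpa only [conj_mul'] using (conj_mem_norm ρA).2 r4⟩⟩
  refine fin _ d2 AH ?_ (fun g hg a ha k => ?_) (cj_eq_iff.1 (cj_eq_of_le ?_))
  · rw [d4 fun i => ((b1 _).1 i).elim (fun i => n ((conj_mem_norm ρA).1 i)) fun i =>
      n ((conj_mem_norm ρA).1 ((conj_mem_norm ρA).1 ((mul_mem_cancel_left i).1 r4))), b4 n, eA.card]
  · obtain ⟨gR, g3⟩ := (mφ g).1 (Hφ hg)
    have a' := (conj_mem_norm ρA).2 ha
    have a'' := (conj_mem_norm ρA).2 a'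
    have a3 : a * (ρ * a * ρ⁻¹) * (ρ * (ρ * a * ρ⁻¹) * ρ⁻¹) ∈ U := fA _ (mul_mem (mul_mem ha a') a'') (by
      rw [commutatorElement_def, conj_mul', conj_mul', E4.cube h.toEC (AR ha), comm_of_sq eA.sq (mul_mem a' a'') ha,
        ← mul_assoc, mul_inv_cancel]
      exact one_mem _)
    have k0 := UPL.cm1.2 k
    have k1 : ⁅ρ * g * ρ⁻¹, ρ * a * ρ⁻¹⁆ = 1 := by rw [← UPL.cj_cm, k0, mul_one, mul_inv_cancel]
    have k2 := UPL.cm1.2 (czU _ (cm gR) _ a3)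
    have k3 := UPL.cm1.2 (comm_of_sq eA.sq g3 ha)
    rw [br _ (cm gR) _ (mul_mem ha a') _ a'', br _ (cm gR) _ ha _ a', k1, mul_one, ← UPL.cj_cm] at k2
    rw [bl _ (mul_mem gR (cm gR)) _ (cm (cm gR)) _ ha, bl _ gR _ (cm gR) _ ha, k0, mul_one] at k3
    conv at k3 => lhs; arg 1; arg 2; rw [← E4.cube h.toEC (AR ha)]
    rw [← UPL.cj_cm, ← UPL.cj_cm] at k3
    have pU := (conj_mem_norm ρU).2 (RA g gR _ a')
    refine gen g gR a ha k (conj_eq_one_iff.1 (fpf _ pU (comm_of_conj_eq ?_)))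
    rw [eq_inv_of_mul_eq_one_left k3, eq_inv_of_mul_eq_one_left k2, inv_inv]
  · rw [cj_ext, cj_ext, ext_le, ext_le, cj_eq_iff.2 ρA]
    exact ⟨⟨AH, H1⟩, (mul_mem_cancel_left (mul_mem H0 H1)).1 (AH r4)⟩

end Cfsg.Agent.GHJ
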