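import Mathlib
import Cfsg.Agent.GHJ.Defs3
import Cfsg.Agent.GHJ.DihB
import Cfsg.Agent.GHJ.XAb
import Cfsg.Agent.GHJ.Aft

/-! Quaternion groups of type X. See `stubs/Cfsg/Agent/GHJ/PLAN2.md`. -/

set_option autoImplicit false
set_option linter.unusedSectionVars false

namespace Cfsg.Agent.GHJ

open Cfsg.Agent.Inv.Fz Cfsg.Agent.NE Subgroup
open scoped commutatorElement

variable {G : Type*} [Group G] [Finite G] {S R K N Θ Θ' H : Subgroup G} {x s g v a b a' b' y : G} {n n' : ℕ}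

theorem XD.ix (h : XD S R x s Θ a b 1) (hS : IsPGroup 2 S) : Ix S R s := fun y hy => by
  have e : supp R x = Θ := by rw [h.td.eq, h.td.dq.eq]; simp [zz]
  exact h.td.t2.two y ⟨hy, ((h.td.t2.good hS (.inl h.td.four)).2 y hy).1 (e ▸ h.xt.norm hy)⟩

theorem Ctx.noXQ (c : Ctx G) (hX : c.AllX) (hD : ∀ R x s Θ a b n, XD c.S R x s Θ a b n → n = 1)
    (h : TQ c.S R x s Θ a b n) (ht : XT c.S Θ a b) : False := by
  have q := h.dq
  have mx := q.mx h.two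
  have zS : zz a n ∈ c.S := ht.le (pow_mem (BsA.am q) _)
  have zc := (ht.comm q (one_mem _)).2
  obtain ⟨R', x', s', hb, hm⟩ := c.exists_move_z zS q.zz_ne.1 zc fun m hm ho =>
    mx.fix_z (od_of_odd c.pS hm ho) c.r4 ht.le ht.norm
  have hi : Ix c.S R' s' := by
    rcases hb.kind with e | e | e
    · exact e
    · obtain ⟨Θ₀, a₀, b₀, n₀, h1, h2⟩ := (hX R' x' s' hb.toT2).1 e
      obtain rfl := hD _ _ _ _ _ _ _ ⟨h1, h2⟩
      exact XD.ix ⟨h1, h2⟩ c.pS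
    · exact absurd (hb.toT2.q8_central e zS zc) hm
  have l := hb.toT1.loc c.pS c.r4 hi
  have aR := ht.a_mem q hi l.le
  have bn : b ∉ R' := fun e => hm (mx.fix_z l.tri.od (c.r4' _) (TriB.le_of_gen q.eq aR e) (l.le.trans ht.norm))
  have xa : XA c.S R' x' s' a b n :=
    ⟨l, h.two, q.ord, aR, ht.na, ht.le (DihA.bm q), bn, fun y hy => (ht.comm q hy).1, q.inv, .inr h.sq, hm⟩
  obtain ⟨c₀, hc, c2, cb, ca⟩ := xa.root
  obtain ⟨j1, j2, -⟩ := q.jj_sq h.two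
  have cj : c₀ * jj a n = jj a n * c₀ := comm_zpowers ca (DihA.jA q)
  have cV : Cz c₀ (supp R x) := by
    refine TriA.cz_iff.2 (Loc.Mss.cent_comm (A := supp R x) (B := zpowers c₀) (TriB.le_of_gen h.eq ?_ ?_) (mem_zpowers c₀))
    exacts [Loc.Mss.mem_cent.2 fun y hy => (comm_zpowers cj.symm hy).symm,
      Loc.Mss.mem_cent.2 fun y hy => (comm_zpowers cb.symm hy).symm]
  have cS : c₀ ∈ c.S := l.le (supp_le l.tri.xn hc)
  have cD := (h.t2.tri.q8_fix h.q8 ((h.t2.good c.pS (.inr h.q8)).1 c₀ cS cV)).2 cV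
  obtain ⟨g, g1, g2⟩ := h.t2.tri.q8_move h.q8 (u := jj a n) (v := b) (h.eq.ge (subset_closure (.inl rfl)))
    (h.eq.ge (subset_closure (.inr rfl))) (j1 ▸ q.zz_ne.1) (h.sq ▸ q.zz_ne.1)
  have aT : a ∈ supp R' x' := xa.hom.1.eq.ge (subset_closure (.inl rfl))
  have sq : ∀ {u : G}, c₀ * u = u * c₀ → u * u = zz a n → u * c₀ * (u * c₀) = 1 := fun {u} e1 e2 => by
    rw [mul_assoc, ← mul_assoc c₀, e1, mul_assoc, c2, ← mul_assoc, e2, q.zz_ne.2.1]
  have k := xa.conj_z (mul_mem (pow_mem aT _) hc : jj a n * c₀ ∈ _) (fun e => by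
    rw [eq_inv_of_mul_eq_one_right e] at cb
    refine DihA.j_ne q h.two ?_
    rw [← j2]
    exact (conj_eq_of_comm (Commute.inv_left_iff.1 cb).symm.eq).symm) (sq cj j1)
  refine c.x2a_end xa hc (sq cb h.sq) (IsConj.trans (isConj_iff.2 ⟨g, ?_⟩).symm k)
  rw [conj_mul', g2, conj_eq_of_comm (g1 _ cD)]

end Cfsg.Agent.GHJ
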