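import Mathlib
import Cfsg.Agent.GHJ.Defs3
import Cfsg.Agent.GHJ.DihB
import Cfsg.Agent.GHJ.UPa

/-! The structure of `S` in the configurations `Y×` and `Y∘`. See `stubs/Cfsg/Agent/GHJ/PLAN2.md`. -/

set_option autoImplicit false
set_option linter.unusedSectionVars false
set_option linter.unusedVariables false

namespace Cfsg.Agent.GHJ

open Cfsg.Agent.Inv.Fz Cfsg.Agent.NE Subgroup
open scoped commutatorElement

variable {G : Type*} [Group G] [Finite G] {S R K N Θ Θ' H : Subgroup G} {x s g v a b a' b' y : G} {n n' : ℕ}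

namespace YA

theorem c3 (g y b : G) : g * y * g⁻¹ * (g * b * g⁻¹) * (g * y * g⁻¹)⁻¹ = g * (y * b * y⁻¹) * g⁻¹ := by group

theorem cc (g y : G) (K : Subgroup G) : cj (g * y * g⁻¹) (cj g K) = cj g (cj y K) := by
  rw [cj_cj, cj_cj, inv_mul_cancel_right]

theorem allS {p : G → Prop} (hg : g ∈ normalizer (S : Set G)) : (∀ w ∈ S, p w) ↔ ∀ w ∈ S, p (g * w * g⁻¹) := by
  conv_lhs => rw [← cj_eq_iff.2 hg, BsA.all_cj]

theorem cmem (hg : g ∈ normalizer (K : Set G)) (hv : v ∈ K) : ⁅g, v⁆ ∈ K :=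
  mul_mem ((conj_mem_norm hg).2 hv) (inv_mem hv)

theorem ixcard (h : Ix S K s) (hs : s ∈ S) (h1 : s ∉ K) : Nat.card S = 2 * Nat.card (S ⊓ K : Subgroup G) :=
  Ix.card (K := S ⊓ K) (fun w hw => (h w hw).imp (fun k => ⟨hw, k⟩) fun k => ⟨mul_mem hs hw, k⟩) inf_le_left hs
    fun k => h1 k.2

theorem ninv (h : g ∉ K) : g⁻¹ ∉ K := mt inv_mem_iff.1 h

theorem bm (hq : DQ Θ a b n) : b ∈ Θ := hq.eq ▸ subset_closure (by simp)

theorem zmem (hq : DQ Θ a b n) : zz a n ∈ Θ := pow_mem (BsA.am hq) _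

theorem fixz (hq : DQ Θ a b n) (hg : g ∈ normalizer (zpowers a : Set G)) : g * zz a n * g⁻¹ = zz a n := by
  obtain ⟨u, ⟨k, rfl⟩, e⟩ := act_odd hq.ord hg
  rw [zz, ← conj_pow, e, ← pow_mul, mul_comm, pow_mul, pow_succ, pow_mul, pow_two, hq.zz_ne.2.1, one_pow, one_mul]

end YA

open BsA YA UPL TriA

namespace YB
variable (h : YB S Θ a b y)
include h

theorem yy : y * y ∈ normalizer (Θ : Set G) := h.ix.mul_mem h.mem h.mem h.not_norm h.not_norm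
theorem norm' (hg : g ∈ S) : g ∈ normalizer (cj y Θ : Set G) ↔ g ∈ normalizer (Θ : Set G) := by
  rw [← cj_normalizer, mem_cj, mul_assoc]
  refine ⟨fun e => by_contra fun k => h.not_norm (inv_mem_iff.1 ((mul_mem_cancel_right
    (h.ix.mul_mem hg h.mem k h.not_norm)).1 e)), fun e => h.ix.mul_mem (S.inv_mem h.mem) (mul_mem hg h.mem)
      (ninv h.not_norm) (mt (mul_mem_cancel_left e).1 h.not_norm)⟩
theorem cj_out (hg : g ∈ S) (hn : g ∉ normalizer (Θ : Set G)) : cj g Θ = cj y Θ ∧ cj g (cj y Θ) = Θ := by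
  have a1 := h.ix.mul_mem (S.inv_mem h.mem) hg (ninv h.not_norm) hn
  refine ⟨?_, by rw [cj_cj, cj_eq_iff.2 (h.ix.mul_mem hg h.mem hn h.not_norm)]⟩
  conv_rhs => rw [← cj_eq_iff.2 a1, cj_cj, mul_inv_cancel_left]
theorem na' (hg : g ∈ S) (hn : g ∈ normalizer (Θ : Set G)) : g ∈ normalizer (zpowers (y * a * y⁻¹) : Set G) := by
  rw [← cj_zpowers, ← cj_normalizer, mem_cj]
  refine h.na ⟨mul_mem (mul_mem (S.inv_mem h.mem) hg) h.mem, ?_⟩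
  have := (h.norm' hg).2 hn
  rwa [← cj_normalizer, mem_cj] at this
theorem cj (hg : g ∈ normalizer (S : Set G)) : YB S (cj g Θ) (g * a * g⁻¹) (g * b * g⁻¹) (g * y * g⁻¹) := by
  have e := cj_eq_iff.2 hg
  obtain ⟨k, hk, kn, e'⟩ := h.swap
  refine ⟨e ▸ cj_mono h.le, (conj_mem_norm hg).2 h.mem, mt norm_cj.1 h.not_norm, ?_, ?_,
    ⟨_, (conj_mem_norm hg).2 hk, norm_cj.2 kn, by rw [c3, e', conj_mul]⟩, (allS hg).2 fun w hw h1 h2 h3 => ?_⟩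
  · rw [← cj_normalizer]; simpa only [e] using ix_cj h.ix g
  · rw [← cj_zpowers, ← cj_normalizer g (zpowers a), ← cj_NS hg]; exact cj_mono h.na
  · rw [← cj_cm, ← cj_phi, conj_mem_cj] at h2
    rw [c3, cc, ← cj_cm, ← cj_phi, conj_mem_cj] at h3
    rw [cc, ← cj_sup, conj_mem_cj]
    exact h.k0 w hw (norm_cj.1 h1) h2 h3
/-- `Y = Θ Θ^y` is normal in `S`. -/
theorem normY : S ≤ normalizer ((Θ ⊔ Inv.Fz.cj y Θ : Subgroup G) : Set G) := fun g hg => cj_eq_iff.1 (by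
  rw [cj_sup]
  by_cases k : g ∈ normalizer (Θ : Set G)
  · rw [cj_eq_iff.2 k, cj_eq_iff.2 ((h.norm' hg).2 k)]
  · rw [(h.cj_out hg k).1, (h.cj_out hg k).2, sup_comm])
/-- An element outside `N(Θ)` maps `z` to `z^y`, and `⟨j⟩`, `⟨a⟩` likewise. -/
theorem out (hq : DQ Θ a b n) (hg : g ∈ S) (hn : g ∉ normalizer (Θ : Set G)) :
    g * zz a n * g⁻¹ = y * zz a n * y⁻¹ ∧ g * (y * zz a n * y⁻¹) * g⁻¹ = zz a n ∧
      zpowers (g * a * g⁻¹) = zpowers (y * a * y⁻¹) ∧ zpowers (g * (y * a * y⁻¹) * g⁻¹) = zpowers a := by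
  have a1 := h.na ⟨mul_mem (S.inv_mem h.mem) hg,
    h.ix.mul_mem (S.inv_mem h.mem) hg (ninv h.not_norm) hn⟩
  have a2 := h.na ⟨mul_mem hg h.mem, h.ix.mul_mem hg h.mem hn h.not_norm⟩
  refine ⟨?_, by rw [NE.conj_conj, fixz hq a2], ?_, by rw [NE.conj_conj, ← cj_zpowers, cj_eq_iff.2 a2]⟩
  · conv_rhs => rw [← fixz hq a1, NE.conj_conj, mul_inv_cancel_left]
  · rw [← cj_zpowers, ← cj_zpowers]
    conv_rhs => rw [← cj_eq_iff.2 a1, cj_cj, mul_inv_cancel_left]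

end YB

namespace YA

theorem fixz' (h : YB S Θ a b y) (hq : DQ Θ a b n) (hg : g ∈ S) (hn : g ∈ normalizer (Θ : Set G)) :
    g * (y * zz a n * y⁻¹) * g⁻¹ = y * zz a n * y⁻¹ := by
  have := fixz (hq.cj y) (h.na' hg hn)
  rwa [zz, conj_pow] at this

theorem cls_out (h : YB S Θ a b y) (hq : DQ Θ a b n) (hg : g ∈ S) (hn : g ∉ normalizer (Θ : Set G)) (hv : v ∈ S)
    (hv' : v ∈ normalizer (Θ : Set G)) : ⁅v, g * b * g⁻¹⁆ ∈ phi (cj y Θ) ↔ ⁅v, y * b * y⁻¹⁆ ∈ phi (cj y Θ) := by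
  have a1 := h.ix.mul_mem (S.inv_mem h.mem) hg (ninv h.not_norm) hn
  obtain ⟨i, e⟩ := (hq.conj_b a1 (h.na ⟨mul_mem (S.inv_mem h.mem) hg, a1⟩)).1
  have n1 := (h.norm' hv).2 hv'
  rw [← mem_cls n1, ← mem_cls n1, ← (hq.cj y).cls_shift n1 (h.na' hv hv') i, zpow_natCast, conj_pow, conj_mul, ← e,
    NE.conj_conj, mul_inv_cancel_left]

variable (h : YX S Θ a b y)
include h

theorem nn : Θ ≤ normalizer (cj y Θ : Set G) ∧ cj y Θ ≤ normalizer (Θ : Set G) :=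
  ⟨fun u hu => centralizer_le_normalizer _ fun v hv => (h.comm u hu v hv).symm,
    fun v hv => centralizer_le_normalizer _ fun u hu => h.comm u hu v hv⟩

theorem xt : XT (S ⊓ normalizer (Θ : Set G)) Θ a b :=
  let ⟨w, hw, wn, e⟩ := h.swap
  ⟨le_inf h.le le_normalizer, inf_le_right, h.na, w, ⟨hw, wn⟩, e⟩

theorem uniq {u u' v' : G} (hu : u ∈ Θ) (hv : v ∈ cj y Θ) (hu' : u' ∈ Θ) (hv' : v' ∈ cj y Θ) (e : u * v = u' * v') :
    u = u' ∧ v = v' := by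
  have k : u'⁻¹ * u = v' * v⁻¹ := by rw [inv_mul_eq_iff_eq_mul, ← mul_assoc, ← e, mul_inv_cancel_right]
  have k1 := mem_bot.1 (h.disj.le ⟨Θ.mul_mem (Θ.inv_mem hu') hu, k ▸ (cj y Θ).mul_mem hv' ((cj y Θ).inv_mem hv)⟩)
  exact ⟨(inv_mul_eq_one.1 k1).symm, (mul_inv_eq_one.1 (k ▸ k1)).symm⟩

variable (hq : DQ Θ a b n)
include hq

theorem xt' : XT (S ⊓ normalizer (Θ : Set G)) (cj y Θ) (y * a * y⁻¹) (y * b * y⁻¹) := by
  have := (xt h).cj (g := y) (Ix.norm (s := y) (S := S) (K := S ⊓ normalizer (Θ : Set G)) (fun w hw => (h.ix w hw).imp (fun k => ⟨hw, k⟩)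
    fun k => ⟨mul_mem h.mem hw, k⟩) inf_le_left h.mem h.mem)
  exact this

theorem zm' : y * zz a n * y⁻¹ ∈ cj y Θ := conj_mem_cj.2 (zmem hq)

theorem zne : y * zz a n * y⁻¹ ≠ zz a n := fun e =>
  hq.zz_ne.1 (mem_bot.1 (h.disj.le ⟨zmem hq, e ▸ zm' h hq⟩))

theorem zc : zz a n * (y * zz a n * y⁻¹) = y * zz a n * y⁻¹ * zz a n := h.comm _ (zmem hq) _ (zm' h hq)

theorem four0 : El 4 (closure {zz a n, y * zz a n * y⁻¹}) ∧ ∀ v, v ∈ (closure {zz a n, y * zz a n * y⁻¹} : Subgroup G) ↔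
    v = 1 ∨ v = zz a n ∨ v = y * zz a n * y⁻¹ ∨ v = zz a n * (y * zz a n * y⁻¹) :=
  four hq.zz_ne.2.1 (Rec.conj_sq hq.zz_ne.2.1) (zc h hq) hq.zz_ne.1 (mt Rec.conj_eq_one.1 hq.zz_ne.1) (zne h hq)

theorem czz : Cz (zz a n * (y * zz a n * y⁻¹)) S := fun w hw => (comm_of_conj_eq (by
  rw [conj_mul']
  by_cases t : w ∈ normalizer (Θ : Set G)
  · rw [fixz hq (h.na ⟨hw, t⟩), fixz' h.toYB hq hw t]
  · rw [(h.toYB.out hq hw t).1, (h.toYB.out hq hw t).2.1, zc h hq])).symm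

theorem cQ (hg : g ∈ S) : Cz g (S ⊓ normalizer (Θ : Set G)) ↔ g ∈ closure {zz a n, y * zz a n * y⁻¹} := by
  refine ⟨fun k => ?_, fun k => cz_iff.2 ((closure_le _).2 ?_ k)⟩
  · obtain ⟨u, hu, v, hv, rfl⟩ := (mem_sup_iff_of_le_normalizer (nn h).1).1 (h.k0 _ hg
      (centralizer_le_normalizer _ fun r hr => (k r ((xt h).le hr)).symm)
      (cm1.2 (k b ((xt h).le (bm hq))) ▸ one_mem _) (cm1.2 (k _ ((xt' h hq).le (bm (hq.cj y)))) ▸ one_mem _))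
    have c := fun w (hw : w ∈ S ⊓ normalizer (Θ : Set G)) => uniq h ((conj_mem_norm hw.2).2 hu)
      ((conj_mem_norm ((xt' h hq).norm hw)).2 hv) hu hv (by rw [← conj_mul', conj_eq_of_comm (k w hw).symm])
    have m1 := (xt h).center hq hu fun w hw => (comm_of_conj_eq (c w hw).1).symm
    have m2 := (xt' h hq).center (hq.cj y) hv fun w hw => (comm_of_conj_eq (c w hw).2).symm
    rw [zz, conj_pow] at m2
    exact mul_mem (zpowers_le.2 (subset_closure (by simp)) m1) (zpowers_le.2 (subset_closure (by simp)) m2)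
  · rintro _ (rfl | rfl)
    · exact fun w hw => comm_of_conj_eq (fixz hq (h.na hw))
    · exact fun w hw => comm_of_conj_eq (fixz' h.toYB hq hw.1 hw.2)

theorem triv (hu : g ∈ Θ ∨ g ∈ cj y Θ) (k : g ∈ zpowers (zz a n * (y * zz a n * y⁻¹))) : g = 1 := by
  rw [mem_zpowers_sq ((four0 h hq).1.sq _ (((four0 h hq).2 _).2 (by simp)))] at k
  refine k.resolve_right ?_
  rintro rfl
  rcases hu with u | u
  · exact hq.zz_ne.1 (Rec.conj_eq_one.1 (mem_bot.1 (h.disj.le ⟨(mul_mem_cancel_left (zmem hq)).1 u, zm' h hq⟩)))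
  · exact hq.zz_ne.1 (mem_bot.1 (h.disj.le ⟨zmem hq, (mul_mem_cancel_right (zm' h hq)).1 u⟩))

theorem z2a (hg : g ∈ S) (k : ∀ w ∈ S, ⁅g, w⁆ ∈ zpowers (zz a n * (y * zz a n * y⁻¹))) :
    Cz g Θ ∧ Cz g (cj y Θ) := by
  by_cases t : g ∈ normalizer (Θ : Set G)
  · exact ⟨fun u hu => cm1.1 (triv h hq (.inl (cmem t hu)) (k u (h.le hu))), fun u hu => cm1.1 (triv h hq
      (.inr (cmem ((h.toYB.norm' hg).2 t) hu)) (k u ((xt' h hq).le hu).1))⟩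
  · have k1 := k b (h.le (bm hq))
    have m : g * b * g⁻¹ ∈ cj y Θ := (h.toYB.cj_out hg t).1 ▸ conj_mem_cj.2 (bm hq)
    rw [mem_zpowers_sq ((four0 h hq).1.sq _ (((four0 h hq).2 _).2 (by simp))), commutatorElement_def,
      ← h.comm _ (inv_mem (bm hq)) _ m] at k1
    refine absurd (inv_mem_iff.1 ?_) hq.not_mem
    rcases k1 with e | e
    · rw [(uniq h (inv_mem (bm hq)) m (one_mem _) (one_mem _) (e.trans (mul_one _).symm)).1]; exact one_mem _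
    · rw [(uniq h (inv_mem (bm hq)) m (zmem hq) (zm' h hq) e).1]; exact npow_mem_zpowers _ _

theorem z2b {u : G} {p : Prop} (hn : 2 ≤ n ∨ Nat.card S = 128 ∧ (Nat.card S = 2 ^ (2 * n + 4) ∧ p ∨
      Nat.card S = 2 ^ (2 * n + 5) ∧ ∃ g ∈ S, g ∈ normalizer (Θ : Set G) ∧ ⁅g, b⁆ ∉ phi Θ ∧
        ⁅g, y * b * y⁻¹⁆ ∈ phi (cj y Θ))) (hu : u ∈ Θ) (hv : v ∈ cj y Θ)
    (k : ∀ w ∈ S, ⁅u * v, w⁆ ∈ zpowers (zz a n * (y * zz a n * y⁻¹))) : u ∈ zpowers (zz a n) := by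
  by_cases h2 : 2 ≤ n
  · refine (hq.cen h2 hu).2.1 fun r hr => mul_right_cancel (b := v) ?_
    have := (z2a h hq (mul_mem (h.le hu) ((xt' h hq).le hv).1) k).1 r hr
    rwa [mul_assoc, ← h.comm r hr v hv, ← mul_assoc, ← mul_assoc] at this
  obtain rfl : n = 1 := by have := hq.pos; omega
  obtain ⟨c, ⟨e, -⟩ | ⟨-, w, hw, wn, k1, k2⟩⟩ := hn.resolve_left h2
  · rw [c] at e; norm_num at e
  have ez : zz a 1 = a := pow_one a
  have hq' := hq.cj y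
  have p0 : phi (cj y Θ) = ⊥ := by
    rw [hq'.phi_eq, zpowers_eq_bot]; exact Rec.conj_sq (ez ▸ hq.zz_ne.2.1)
  have wn' := (h.toYB.norm' hw).2 wn
  have cv : w * v = v * w := by
    rcases hq'.mem.1 hv with m | ⟨i, m⟩
    · exact comm_zpowers (comm_of_conj_eq (ez ▸ fixz' h.toYB hq hw wn)) m
    · rw [← mem_cls wn', ← hq'.cls_shift wn' (h.toYB.na' hw wn) i, mem_cls wn', p0, show (y * a * y⁻¹) ^ i = _ from m,
        mul_inv_cancel_left] at k2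
      exact cmb.1 k2
  rw [ez]
  refine (hq.mem.1 hu).resolve_right fun ⟨i, m⟩ => k1 ?_
  rw [← mem_cls wn, ← hq.cls_shift wn (h.na ⟨hw, wn⟩) i, mem_cls wn, show a ^ i = _ from m, mul_inv_cancel_left]
  have k3 := cinv.1 (k w hw)
  rw [cm_mul, cm1.2 cv, mul_one, mul_inv_cancel, mul_one] at k3
  rw [triv h hq (.inl (cmem wn hu)) k3]
  exact one_mem _

end YA

theorem YX.cj (h : YX S Θ a b y) (hg : g ∈ normalizer (S : Set G)) :
    YX S (cj g Θ) (g * a * g⁻¹) (g * b * g⁻¹) (g * y * g⁻¹) := by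
  refine ⟨h.toYB.cj hg, all_cj.2 fun u hu => ?_, by rw [cc, ← cj_inf, h.disj, cj_bot]⟩
  rw [cc]
  exact all_cj.2 fun v hv => conj_comm g (h.comm u hu v hv)

theorem YO.cj (h : YO S Θ a b n y) (hg : g ∈ normalizer (S : Set G)) :
    YO S (cj g Θ) (g * a * g⁻¹) (g * b * g⁻¹) n (g * y * g⁻¹) := by
  have ez : zz (g * a * g⁻¹) n = g * zz a n * g⁻¹ := conj_pow
  have ej : jj (g * a * g⁻¹) n = g * jj a n * g⁻¹ := conj_pow
  refine ⟨h.toYB.cj hg, all_cj.2 fun u hu => ?_, by rw [cc, ← cj_inf, h.disj, cj_zpowers, ez], ?_,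
    (allS hg).2 fun w hw => ?_, (allS hg).2 fun w hw => ?_, (allS hg).2 fun w hw => ?_, h.card⟩
  · rw [cc, ez, ← cj_zpowers]
    exact all_cj.2 fun v hv => by rw [← cj_cm, conj_mem_cj]; exact h.comm u hu v hv
  · rw [cc, ej, cz_cj]; exact h.jc
  · rw [ez, ← cj_zpowers, conj_mem_cj, ← h.z1 w hw]
    conv_lhs => rw [← cj_eq_iff.2 hg, cz_cj]
  · rw [ez, ej, c3, conj_mul, ← cj_pair, conj_mem_cj, ← h.z2 w hw, allS hg, ← cj_zpowers]
    simp only [← cj_cm, conj_mem_cj]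
  · rw [ez, ej, c3, conj_mul, ← cj_pair, ← cj_pair, conj_mem_cj, ← h.z3 w hw, allS hg]
    simp only [← cj_cm, conj_mem_cj]

theorem YC.cj (h : YC S Θ a b n y) (hg : g ∈ normalizer (S : Set G)) :
    YC S (cj g Θ) (g * a * g⁻¹) (g * b * g⁻¹) n (g * y * g⁻¹) := by
  obtain ⟨R, x, s, k⟩ := h.gd
  exact ⟨⟨_, _, _, k.imp (fun k => k.cj hg) fun k => k.cj hg⟩, h.two, h.yx.cj hg⟩

theorem YX.alt (h : YX S Θ a b y) (hq : DQ Θ a b n) (hg : g ∈ S) (hn : g ∉ normalizer (Θ : Set G)) : YX S Θ a b g := by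
  have e := (h.toYB.cj_out hg hn).1
  refine ⟨⟨h.le, hg, hn, fun w hw => ?_, h.na, h.swap, fun t ht h1 h2 h3 => ?_⟩, e ▸ h.comm, e ▸ h.disj⟩
  · by_cases k : w ∈ normalizer (Θ : Set G)
    exacts [.inl k, .inr (h.ix.mul_mem hg hw hn k)]
  · rw [e] at h3 ⊢
    exact h.k0 t ht h1 h2 ((cls_out h.toYB hq hg hn ht h1).1 h3)

theorem YX.symm (h : YX S Θ a b y) (hq : DQ Θ a b n) : YX S (Inv.Fz.cj y Θ) (y * a * y⁻¹) (y * b * y⁻¹) y := by
  have := h.cj (le_normalizer h.mem)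
  rwa [mul_inv_cancel_right] at this

namespace YX
variable (h : YX S Θ a b y) (hq : DQ Θ a b n)
include h hq

theorem cz_le (hg : g ∈ S) (h1 : Cz g Θ) (h2 : Cz g (Inv.Fz.cj y Θ)) : g ∈ Θ ⊔ Inv.Fz.cj y Θ := h.k0 g hg (centralizer_le_normalizer _ (cz_iff.1 h1)) (cm1.2 (h1 b (bm hq)) ▸ one_mem _)
  (cm1.2 (h2 _ (bm (hq.cj y))) ▸ one_mem _)

theorem memY : g ∈ Θ ⊔ Inv.Fz.cj y Θ ↔ ∃ u ∈ Θ, ∃ v ∈ Inv.Fz.cj y Θ, g = u * v := mem_sup_iff_of_le_normalizer (nn h).1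

theorem cardY : Nat.card (Θ ⊔ Inv.Fz.cj y Θ : Subgroup G) = 2 ^ (2 * n + 2) := by
  rw [GT.PG.card_sup_of_inf_eq_bot (nn h).1 h.disj, card_cj, hq.card, ← pow_add]
  congr 1; omega

theorem el0 : El 4 (closure {zz a n, y * zz a n * y⁻¹}) := (four0 h hq).1

theorem norm_iff (hg : g ∈ S) : g ∈ normalizer (Θ : Set G) ↔ g * zz a n = zz a n * g :=
  ⟨fun k => comm_of_conj_eq (fixz hq (h.na ⟨hg, k⟩)), fun e => by_contra fun k =>
    zne h hq ((h.toYB.out hq hg k).1.symm.trans (conj_eq_of_comm e))⟩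

theorem card : (Nat.card S = 2 ^ (2 * n + 4) ∧ ∀ g ∈ S, g ∈ normalizer (Θ : Set G) →
      (⁅g, b⁆ ∈ phi Θ ↔ ⁅g, y * b * y⁻¹⁆ ∈ phi (Inv.Fz.cj y Θ))) ∨
    (Nat.card S = 2 ^ (2 * n + 5) ∧ ∃ g ∈ S, g ∈ normalizer (Θ : Set G) ∧ ⁅g, b⁆ ∉ phi Θ ∧
      ⁅g, y * b * y⁻¹⁆ ∈ phi (Inv.Fz.cj y Θ)) := by
  obtain ⟨w, hw, wn, e⟩ := h.swap
  have hq' := hq.cj y
  have m : ∀ {g}, g ∈ S ⊓ normalizer (Θ : Set G) → (g ∈ cls (Inv.Fz.cj y Θ) (y * b * y⁻¹) ↔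
      ⁅g, y * b * y⁻¹⁆ ∈ phi (Inv.Fz.cj y Θ)) := fun k => mem_cls ((h.toYB.norm' k.1).2 k.2)
  have wc : w ∉ cls Θ b := mt (mem_cls wn).1 (hq.not_cls_of_swap e)
  have c1 := ixcard h.ix h.mem h.not_norm
  have c2 := ixcard (hq.ix_cls inf_le_right h.na ⟨hw, wn⟩ wc) ⟨hw, wn⟩ wc
  have eY : S ⊓ normalizer (Θ : Set G) ⊓ cls Θ b ⊓ cls (Inv.Fz.cj y Θ) (y * b * y⁻¹) = Θ ⊔ Inv.Fz.cj y Θ := by
    refine le_antisymm (fun g k => h.k0 g k.1.1.1 k.1.1.2 ((mem_cls k.1.1.2).1 k.1.2) ((m k.1.1).1 k.2)) (sup_le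
      (le_inf (le_inf (xt h).le hq.le_cls) fun g k => (m ((xt h).le k)).2 ?_)
      (le_inf (le_inf (xt' h hq).le fun g k => (mem_cls ((xt' h hq).le k).2).2 ?_) hq'.le_cls))
    · exact cm1.2 (h.comm g k _ (bm hq')) ▸ one_mem _
    · exact cm1.2 (h.comm _ (bm hq) g k).symm ▸ one_mem _
  by_cases hl : S ⊓ normalizer (Θ : Set G) ⊓ cls Θ b ≤ cls (Inv.Fz.cj y Θ) (y * b * y⁻¹)
  · rw [inf_eq_left.2 hl] at eY
    refine .inl ⟨by rw [c1, c2, eY, h.cardY hq]; ring, fun g hg k => ⟨fun k1 =>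
      (m ⟨hg, k⟩).1 (hl ⟨⟨hg, k⟩, (mem_cls k).2 k1⟩), fun k1 => (mem_cls k).1 ?_⟩⟩
    have k2 := (m ⟨hg, k⟩).2 k1
    have k3 := (h.toYB.norm' hg).2 k
    rw [← cj_cls, mem_cj] at k2
    rw [← cj_normalizer, mem_cj] at k3
    have k4 : y⁻¹ * g * y⁻¹⁻¹ ∈ Θ ⊔ Inv.Fz.cj y Θ := by
      rw [inv_inv, ← eY]; exact ⟨⟨mul_mem (mul_mem (S.inv_mem h.mem) hg) h.mem, k3⟩, k2⟩
    rw [conj_mem_norm (h.toYB.normY (S.inv_mem h.mem)), ← eY] at k4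
    exact k4.2
  · obtain ⟨t, ht, tc⟩ := SetLike.not_le_iff_exists.1 hl
    have ix := hq'.ix_cls (xt' h hq).norm (xt' h hq).na ht.1 tc
    have c3 := ixcard (S := S ⊓ normalizer (Θ : Set G) ⊓ cls Θ b) (fun g k => ix g k.1) ht tc
    refine .inr ⟨by rw [c1, c2, c3, eY, h.cardY hq]; ring, ?_⟩
    by_cases k : w ∈ cls (Inv.Fz.cj y Θ) (y * b * y⁻¹)
    · exact ⟨w, hw, wn, hq.not_cls_of_swap e, (m ⟨hw, wn⟩).1 k⟩
    · have wt := mul_mem (show w ∈ S ⊓ normalizer (Θ : Set G) from ⟨hw, wn⟩) ht.1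
      exact ⟨_, wt.1, wt.2, fun k => wc ((mul_mem_cancel_right (show t ∈ cls Θ b from ht.2)).1 ((mem_cls wt.2).2 k)),
        (m wt).1 (ix.mul_mem ⟨hw, wn⟩ ht.1 k tc)⟩

theorem center (hg : g ∈ S) : Cz g S ↔ g ∈ zpowers (zz a n * (y * zz a n * y⁻¹)) := by
  refine ⟨fun k => ?_, fun k w hw => (comm_zpowers (czz h hq w hw).symm k).symm⟩
  have o := h.toYB.out hq h.mem h.not_norm
  rcases ((four0 h hq).2 g).1 ((cQ h hq hg).1 fun w hw => k w hw.1) with rfl | rfl | rfl | rfl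
  · exact one_mem _
  · exact absurd (conj_eq_of_comm (k y h.mem).symm) (zne h hq)
  · exact absurd ((conj_eq_of_comm (k y h.mem).symm).symm.trans o.2.1) (zne h hq)
  · exact mem_zpowers _

theorem centerQ (hg : g ∈ S) :
    Cz g (S ⊓ normalizer (Θ : Set G)) ↔ g ∈ closure {zz a n, y * zz a n * y⁻¹} := cQ h hq hg

theorem z2 (hn : 2 ≤ n ∨ Nat.card S = 128) (hg : g ∈ S) :
    (∀ w ∈ S, ⁅g, w⁆ ∈ zpowers (zz a n * (y * zz a n * y⁻¹))) ↔ g ∈ closure {zz a n, y * zz a n * y⁻¹} := by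
  have z2 := hq.zz_ne.2.1
  have z2' : y * zz a n * y⁻¹ * (y * zz a n * y⁻¹) = 1 := Rec.conj_sq z2
  refine ⟨fun k => ?_, fun k w hw => ?_⟩
  · obtain ⟨k1, k2⟩ := z2a h hq hg k
    obtain ⟨u, hu, v, hv, rfl⟩ := (h.memY hq).1 (h.cz_le hq hg k1 k2)
    have nK : S ≤ normalizer (zpowers (zz a n * (y * zz a n * y⁻¹)) : Set G) := fun w hw =>
      cj_eq_iff.1 (by rw [cj_zpowers, conj_eq_of_comm (czz h hq w hw).symm])
    have o := h.toYB.cj_out (S.inv_mem h.mem) (ninv h.not_norm)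
    have c := h.card hq
    have m1 := z2b h hq (hn.imp_right fun e => ⟨e, c⟩) hu hv k
    have m2 := z2b h hq (u := y⁻¹ * v * y⁻¹⁻¹) (v := y⁻¹ * u * y⁻¹⁻¹) (hn.imp_right fun e => ⟨e, c⟩)
      (o.2 ▸ conj_mem_cj.2 hv) (o.1 ▸ conj_mem_cj.2 hu) (by
        rw [← conj_mul', ← h.comm u hu v hv, allS (le_normalizer (S.inv_mem h.mem))]
        intro w hw
        rw [← cj_cm, conj_mem_norm (nK (S.inv_mem h.mem))]
        exact k w hw)
    rw [inv_inv, ← mem_cj, cj_zpowers] at m2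
    exact mul_mem (zpowers_le.2 (subset_closure (by simp)) m1) (zpowers_le.2 (subset_closure (by simp)) m2)
  · have f := fun k => fixz hq (h.na ⟨hw, k⟩)
    have o := h.toYB.out hq hw
    rw [cinv, commutatorElement_def]
    rcases ((four0 h hq).2 g).1 k with rfl | rfl | rfl | rfl
    · simp
    · by_cases t : w ∈ normalizer (Θ : Set G)
      · rw [f t, mul_inv_cancel]; exact one_mem _
      · rw [(o t).1, inv_of_sq z2, ← zc h hq]; exact mem_zpowers _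
    · by_cases t : w ∈ normalizer (Θ : Set G)
      · rw [fixz' h.toYB hq hw t, mul_inv_cancel]; exact one_mem _
      · rw [(o t).2.1, inv_of_sq z2']; exact mem_zpowers _
    · rw [conj_eq_of_comm (czz h hq w hw).symm, mul_inv_cancel]; exact one_mem _

end YX

/-- Recognition of `Y×` from the normaliser of `Θ`. -/
theorem yx_mk (hS : IsPGroup 2 S) (hq : DQ Θ a b n) (hle : Θ ≤ S) (hy : y ∈ S)
    (hn : y ∈ normalizer ((S ⊓ normalizer (Θ : Set G) : Subgroup G) : Set G)) (h1 : y ∉ normalizer (Θ : Set G))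
    (h2 : y * y ∈ normalizer (Θ : Set G)) (na : S ⊓ normalizer (Θ : Set G) ≤ normalizer (zpowers a : Set G))
    (sw : ∃ g ∈ S, g ∈ normalizer (Θ : Set G) ∧ g * b * g⁻¹ = b * a)
    (k0 : ∀ g ∈ S, g ∈ normalizer (Θ : Set G) → ⁅g, b⁆ ∈ phi Θ → ⁅g, y * b * y⁻¹⁆ ∈ phi (cj y Θ) → g ∈ Θ ⊔ cj y Θ)
    (hd : Θ ⊓ cj y Θ = ⊥) (hc : 2 ≤ n ∨ Nat.card (S ⊓ normalizer (Θ : Set G) : Subgroup G) = 64)
    (hm : ∀ t ∈ S, t ∈ normalizer ((S ⊓ normalizer (Θ : Set G) : Subgroup G) : Set G) → t * zz a n = zz a n * t →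
      t ∈ normalizer (Θ : Set G)) : YX S Θ a b y := by
  have : Fact (Nat.Prime 2) := ⟨Nat.prime_two⟩
  set Q := S ⊓ normalizer (Θ : Set G) with hQ
  have l1 : Θ ≤ Q := le_inf hle le_normalizer
  have l2 : cj y Θ ≤ Q := cj_eq_iff.2 hn ▸ cj_mono l1
  have n2 : Q ≤ normalizer (cj y Θ : Set G) := by
    rw [← cj_normalizer, ← cj_eq_iff.2 hn]; exact cj_mono inf_le_right
  have yy : y * y ∈ Q := ⟨mul_mem hy hy, h2⟩
  have m : ∀ {g}, g ∈ ext Q y ↔ g ∈ Q ∨ y * g ∈ Q := mem_ext hn yy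
  have l3 : ext Q y ≤ S := ext_le.2 ⟨inf_le_left, hy⟩
  obtain ⟨w, hw, wn, e⟩ := sw
  have X : YX (ext Q y) Θ a b y := ⟨⟨l1.trans (le_ext _ _), self_mem_ext _ _, h1,
    fun g k => (m.1 k).imp And.right And.right, fun g k => na ⟨l3 k.1, k.2⟩, ⟨w, le_ext _ _ ⟨hw, wn⟩, wn, e⟩,
    fun g k => k0 g (l3 k)⟩, fun u hu v hv => cm1.1 (mem_bot.1 (hd.le ⟨cinv.1 (cmem (l2 hv).2 hu),
      cmem (n2 (l1 hu)) hv⟩)), hd⟩
  suffices k : S ≤ ext Q y from le_antisymm l3 k ▸ X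
  by_contra k
  obtain ⟨t, ⟨ht, tn⟩, t1⟩ := SetLike.exists_of_lt (lt_inf_normalizer hS (lt_of_le_not_ge l3 k))
  have key : ∀ t ∈ S, t ∈ normalizer (ext Q y : Set G) → t * zz a n * t⁻¹ = zz a n → t ∈ ext Q y :=
    fun t ht tn e => by
    refine le_ext _ _ ⟨ht, hm t ht (mem_normalizer_of_conj_mem fun g hg => ?_) (comm_of_conj_eq e)⟩
    have g1 := (conj_mem_norm tn).2 (le_ext Q y hg)
    refine ⟨l3 g1, (X.norm_iff hq g1).2 ?_⟩
    conv => rw [← e]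
    exact conj_comm t ((X.norm_iff hq (le_ext Q y hg)).1 hg.2)
  have zm : zz a n ∈ ext Q y := X.le (zmem hq)
  have zzm : zz a n * (y * zz a n * y⁻¹) ∈ ext Q y :=
    mul_mem zm (mul_mem (mul_mem X.mem zm) (inv_mem X.mem))
  have z2 := hq.zz_ne.2.1
  have f1 : t * (zz a n * (y * zz a n * y⁻¹)) * t⁻¹ = zz a n * (y * zz a n * y⁻¹) := by
    have := (X.center hq ((conj_mem_norm tn).2 zzm)).1 (Cz.conj (czz X hq) tn)
    rw [mem_zpowers_sq ((four0 X hq).1.sq _ (((four0 X hq).2 _).2 (by simp)))] at this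
    refine this.resolve_left fun k => zne X hq ?_
    rw [Rec.conj_eq_one, mul_eq_one_iff_inv_eq, inv_of_sq z2] at k
    exact k.symm
  have hc' : 2 ≤ n ∨ Nat.card (ext Q y) = 128 := hc.imp_right fun k => by
    rw [card_ext hn yy fun k => h1 k.2, k]
  have f2 := (X.z2 hq hc' ((conj_mem_norm tn).2 zm)).1 ((allS tn).2 fun w hw => by
    rw [← cj_cm, ← f1, ← cj_zpowers, conj_mem_cj]
    exact (X.z2 hq hc' zm).2 (subset_closure (by simp)) w hw)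
  rcases ((four0 X hq).2 _).1 f2 with k | k | k | k
  · exact hq.zz_ne.1 (Rec.conj_eq_one.1 k)
  · exact t1 (key t ht tn k)
  · refine t1 ((mul_mem_cancel_left (inv_mem X.mem)).1 (key _ (mul_mem (inv_mem hy) ht)
      (mul_mem (le_normalizer (inv_mem X.mem)) tn) ?_))
    rw [← NE.conj_conj, k]; group
  · rw [← f1, conj_inj, left_eq_mul, Rec.conj_eq_one] at k
    exact hq.zz_ne.1 k

end Cfsg.Agent.GHJ
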