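import Mathlib
import Cfsg.Agent.GHJ.Defs3
import Cfsg.Agent.GHJ.YBa
import Cfsg.Agent.GHJ.UP
import Cfsg.Agent.GHJ.HamC

/-! Good four-groups. See `stubs/Cfsg/Agent/GHJ/PLAN2.md`. -/

set_option autoImplicit false
set_option linter.unusedSectionVars false

namespace Cfsg.Agent.GHJ

open Cfsg.Agent.Inv.Fz Cfsg.Agent.NE Subgroup
open scoped commutatorElement

variable {G : Type*} [Group G] [Finite G] {S R K N Θ Θ' H : Subgroup G} {x s g v a b a' b' y : G} {n n' : ℕ}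

universe u

namespace GA

open BsA YA UPL TriA

/-- A dihedral group that contains the four-group `V` and controls its normaliser. -/
structure Gn (S V Θ : Subgroup G) (a b : G) (n : ℕ) : Prop where
  dq : DQ Θ a b n
  sq : b * b = 1
  eq : V = closure {zz a n, b}
  nV : ∀ g ∈ S, g ∈ normalizer (V : Set G) → g ∈ normalizer (Θ : Set G)
  xt : XT (S ⊓ normalizer (Θ : Set G)) Θ a b

theorem cz_pair {p q : G} (h1 : g * p = p * g) (h2 : g * q = q * g) : Cz g (closure {p, q}) := fun r hr =>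
  ((closure_le (centralizer {g})).2 (by
    rintro _ (rfl | rfl)
    exacts [fun _ e => e ▸ h1, fun _ e => e ▸ h2]) hr g rfl)

theorem start (h : GD S R x s) : ∃ a b, Gn S (supp R x) (supp R x) a b 1 := by
  obtain ⟨z, v, z1, e, sz, sv, xz⟩ := h.tri.four_z h.four
  have mz : z ∈ supp R x := e ▸ subset_closure (by simp)
  have mv : v ∈ supp R x := e ▸ subset_closure (by simp)
  have z2 := h.four.sq z mz
  refine ⟨z, v, ⟨le_rfl, orderOf_eq_prime (p := 2) (by rw [pow_two, z2]) z1, ?_, ?_, e, .inl (h.four.sq v mv)⟩, h.four.sq v mv,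
    by rw [zz, pow_zero, pow_one, e], fun _ _ k => k,
    le_inf ((supp_le h.tri.xn).trans h.le) le_normalizer, inf_le_right, fun g hg => ?_, s, ⟨h.mem, h.tri.s_supp⟩, sv⟩
  · rw [conj_eq_of_comm (comm_of_sq h.four.sq mv mz), inv_of_sq z2]
  · rw [mem_zpowers_sq z2, ← xz, Rec.conj_eq_one]
    exact fun k => k.elim z1 fun k => h.tri.four_ne h.four mz z1 k.symm
  · have c : ∀ r ∈ R, r ∈ normalizer (zpowers z : Set G) := fun r hr =>
      cj_eq_iff.1 (by rw [cj_zpowers, conj_eq_of_comm (h.tri.four_cz h.four mz r hr).symm])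
    exact (h.two g ⟨hg.1, (h.norm_iff hg.1).1 hg.2⟩).elim (c g) fun k =>
      (mul_mem_cancel_left (cj_eq_iff.1 (by rw [cj_zpowers, sz]))).1 (c _ k)

theorem exists_max (h : GD S R x s) : ∃ Θ a b n, Gn S (supp R x) Θ a b n ∧
    ∀ Θ a b, ¬ Gn S (supp R x) Θ a b (n + 1) := by
  by_contra! k
  have : ∀ m, ∃ Θ a b, Gn S (supp R x) Θ a b (m + 1) := fun m => by
    induction m with
    | zero => exact ⟨_, start h⟩
    | succ m ih => obtain ⟨Θ, a, b, e⟩ := ih; exact k Θ a b _ e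
  obtain ⟨Θ, a, b, e⟩ := this (Nat.card G)
  have h1 := _root_.orderOf_le_card (x := a)
  have h2 := Nat.lt_two_pow_self (n := Nat.card G + 1)
  rw [e.dq.ord] at h1
  omega

variable {V : Subgroup G} {w : G} (k : Gn S V Θ a b n) (hw : w ∈ S)
  (wn : w ∈ normalizer ((S ⊓ normalizer (Θ : Set G) : Subgroup G) : Set G)) (w1 : w ∉ normalizer (Θ : Set G))
include k hw wn w1

theorem le_cls (mx : ∀ Θ a b, ¬ Gn S V Θ a b (n + 1)) (w2 : w * w ∈ normalizer (Θ : Set G)) :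
    cj w Θ ≤ cls Θ b := fun g hg => by
  by_contra gc
  have hq := k.dq
  have hq' := hq.cj w
  have t := k.xt
  have t' := t.cj wn
  have c : ∀ {g}, g ∈ cj w Θ → g ∉ cls Θ b → ⁅g, b⁆ ∈ zpowers a ∧ ⁅g, b⁆ ∉ phi Θ := fun hg gc =>
    ⟨(t.comm hq (t'.le hg)).1, mt (mem_cls (t'.le hg).2).2 gc⟩
  have l1 : zpowers a ≤ Θ ⊓ cj w Θ := le_inf (zpowers_le.2 (am hq)) (by
    rw [← hq.gen_of_not (c hg gc).1 (c hg gc).2, zpowers_le, cinv]
    exact cmem (t'.norm (t.le (bm hq))) hg)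
  obtain ⟨u, hu, e⟩ := t'.swap
  have e1 : zpowers (w * a * w⁻¹) = zpowers a := by
    rcases hq'.normal_cases t'.le hu e (K := Θ ⊓ cj w Θ) inf_le_right (fun r hr => cj_eq_iff.1 (by
      rw [cj_inf, cj_eq_iff.2 hr.2, cj_eq_iff.2 (t'.norm hr)])) with l | l
    · exact (eq_of_le_of_card_ge (l1.trans l) (by rw [Nat.card_zpowers, Nat.card_zpowers, ord_cj])).symm
    · exact absurd (cj_eq_iff.1 (cj_eq_of_le (l.ge.trans inf_le_left))) w1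
  have la : zpowers a ≤ cls Θ b := (l1.trans inf_le_left).trans hq.le_cls
  have bc : w * b * w⁻¹ ∉ cls Θ b := fun m => gc ((hq'.mem.1 hg).elim (fun r => la (e1 ▸ r)) fun r =>
    (mul_mem_cancel_left (inv_mem m)).1 (la (e1 ▸ r)))
  obtain ⟨-, d2, -, d4⟩ := hq.double hq' e1 (c (bm hq') bc).1 (c (bm hq') bc).2
  have d := d4 (k.sq.trans (Rec.conj_sq k.sq).symm)
  refine mx _ _ _ ⟨d, k.sq, d2 ▸ k.eq, fun g hg m => cj_eq_iff.1 ?_,
    le_inf (sup_le (t.le.trans inf_le_left) (t'.le.trans inf_le_left)) le_normalizer, inf_le_right,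
    inf_le_right.trans (d.norm_a (.inr ⟨by have := hq.pos; omega, k.sq⟩)), w, ⟨hw, cj_eq_iff.1 ?_⟩,
    (sq_cancel k.sq _).symm⟩
  · rw [cj_sup, cj_eq_iff.2 (k.nV g hg m), cj_eq_iff.2 (t'.norm ⟨hg, k.nV g hg m⟩)]
  · rw [cj_sup, cj_cj, cj_eq_iff.2 w2, sup_comm]

theorem move (h : GD S R x s) (eV : V = supp R x) (l : cj w Θ ≤ cls Θ b) : w * zz a n * w⁻¹ ≠ zz a n := fun ez => by
  subst eV
  have hq := k.dq
  have hq' := hq.cj w
  have t := k.xt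
  have t' := t.cj wn
  have ez' : zz (w * a * w⁻¹) n = zz a n := conj_pow.trans ez
  have mb := t'.le (bm hq')
  obtain ⟨i, e⟩ := hq.exists_comm (t.le.trans inf_le_left) mb.1 (Rec.conj_sq k.sq) (t.na mb)
    ((mem_cls mb.2).1 (l (bm hq'))) fun r hr e c => hq.zz_ne.1 (e.symm.trans (h.sq hr
      (k.eq ▸ cz_pair (by rw [← e, mul_assoc]) c) (e ▸ k.eq ▸ subset_closure (by simp))))
  obtain ⟨u, hu, e0⟩ := t.swap
  obtain ⟨g, hg, eg⟩ := hq.orbit t.le hu e0 i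
  have hG := h.cj (le_normalizer hg.1)
  have hW := h.cj (le_normalizer hw)
  have eG : supp (cj g R) (g * x * g⁻¹) = closure {zz a n, b * a ^ i} := by
    rw [← cj_supp, k.eq, cj_pair, eg, fixz hq (t.na hg)]
  have eW : supp (cj w R) (w * x * w⁻¹) = closure {zz a n, w * b * w⁻¹} := by rw [← cj_supp, k.eq, cj_pair, ez]
  have m1 : w * b * w⁻¹ ∈ cj g R :=
    (hG.mem_iff mb.1).2 (eG ▸ cz_pair (ez' ▸ (hq'.zz_ne.2.2 _ (bm hq')).symm) e)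
  have mz : zz a n ∈ supp (cj g R) (g * x * g⁻¹) := eG ▸ subset_closure (by simp)
  have lR : cj g R ≤ S ⊓ normalizer (Θ : Set G) := cj_eq_of_mem hg ▸ cj_mono fun r hr =>
    ⟨h.le hr, k.nV r (h.le hr) (le_norm_supp hr)⟩
  have l2 : cj g R ≤ cj w R := fun r hr => (hW.mem_iff (lR hr).1).2 (eW ▸ cz_pair
    (hG.tri.four_cz hG.four mz r hr).symm
    (hG.cz_of_comm hq'.ord hq.pos (ez' ▸ mz) hr m1 (t'.comm hq' (lR hr)).1))
  have m2 : w⁻¹ * g ∈ S := mul_mem (inv_mem hw) hg.1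
  have := k.nV _ m2 ((h.norm_iff m2).2 (cj_eq_iff.1 (cj_eq_of_le (by
    rw [← cj_cj]; simpa only [cj_inv_cj] using cj_mono (g := w⁻¹) l2))))
  exact w1 (inv_mem_iff.1 ((mul_mem_cancel_right (show g ∈ normalizer (Θ : Set G) from hg.2)).1 this))

theorem disj (hS : IsPGroup 2 S) (e : w * zz a n * w⁻¹ ≠ zz a n) : Θ ⊓ cj w Θ = ⊥ := by
  by_contra ne
  have t' := k.xt.cj wn
  have := t'.center (k.dq.cj w) (k.xt.zz_mem k.dq (hS.to_le inf_le_left) t'.norm ne) (k.xt.comm k.dq (one_mem _)).2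
  rw [mem_zpowers_sq (k.dq.cj w).zz_ne.2.1] at this
  exact this.elim k.dq.zz_ne.1 fun r => e (conj_pow.symm.trans r.symm)

theorem comm (hd : Θ ⊓ cj w Θ = ⊥) : ∀ u ∈ Θ, ∀ v ∈ cj w Θ, u * v = v * u := fun _ hu _ hv =>
  cm1.1 (mem_bot.1 (hd.le ⟨cinv.1 (cmem ((k.xt.cj wn).le hv).2 hu), cmem ((k.xt.cj wn).norm (k.xt.le hu)) hv⟩))

end GA

namespace GA

open BsA YA UPL TriA

theorem wr {D : Subgroup G} {w : G} (hD : D ≤ S) (hw : w ∈ S) (hc : ∀ u ∈ D, ∀ v ∈ cj w D, u * v = v * u)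
    (hd : D ⊓ cj w D = ⊥) (w2 : w * w ∈ D ⊔ cj w D) (ix : Ix S (D ⊔ cj w D) w) : ∃ σ, Wr S D σ := by
  have n1 : D ≤ normalizer (cj w D : Set G) := fun u hu => centralizer_le_normalizer _ fun v hv => (hc u hu v hv).symm
  have n2 : D ⊔ cj w D ≤ normalizer (D : Set G) :=
    sup_le le_normalizer fun v hv => centralizer_le_normalizer _ fun u hu => hc u hu v hv
  obtain ⟨d, m, d', m', e⟩ := (mem_sup_iff_of_le_normalizer n1).1 w2
  have m1 : w * d * w⁻¹ ∈ cj w D := conj_mem_cj.2 m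
  have m2 : w * d' * w⁻¹ ∈ D := by rw [← cj_eq_iff.2 (n2 w2), ← cj_cj]; exact conj_mem_cj.2 m'
  have e1 : d⁻¹ * (w * d' * w⁻¹) = d' * (w * d * w⁻¹)⁻¹ := by
    rw [inv_mul_eq_iff_eq_mul, ← mul_assoc d, eq_mul_inv_iff_mul_eq, hc _ m2 _ m1, ← conj_mul', ← e]; group
  have e2 := mem_bot.1 (hd.le ⟨D.mul_mem (D.inv_mem m) m2, e1 ▸ (cj w D).mul_mem m' ((cj w D).inv_mem m1)⟩)
  rw [e1, mul_inv_eq_one] at e2
  have e3 : cj (d⁻¹ * w) D = cj w D := by rw [← cj_cj, cj_eq_iff.2 (n1 (inv_mem m))]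
  refine ⟨d⁻¹ * w, hD, mul_mem (inv_mem (hD m)) hw, ?_, e3 ▸ hc, e3 ▸ hd, fun g hg => ?_⟩
  · calc _ = d⁻¹ * (w * d * w⁻¹)⁻¹ * (w * w) := by group
      _ = 1 := by rw [← e2, e, hc d m d' m']; group
  · rw [e3]
    refine (ix g hg).elim mem_sup_left fun r => (mul_mem_cancel_left ?_).1 (mem_sup_left r)
    simpa using mul_mem (mem_sup_left (mem_sup_left m)) (mem_sup_right (mem_zpowers (d⁻¹ * w)) :
      _ ∈ D ⊔ cj w D ⊔ zpowers (d⁻¹ * w))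

theorem one {G : Type u} [Group G] [Finite G] {S R Θ : Subgroup G} {x s a b w : G} (h : GD S R x s)
    (k : Gn S (supp R x) Θ a b 1) (hw : w ∈ S)
    (wn : w ∈ normalizer ((S ⊓ normalizer (Θ : Set G) : Subgroup G) : Set G)) (w1 : w ∉ normalizer (Θ : Set G))
    (hd : Θ ⊓ cj w Θ = ⊥) :
    (∀ g ∈ S, g ∈ normalizer (Θ : Set G) → ⁅g, b⁆ ∈ phi Θ → ⁅g, w * b * w⁻¹⁆ ∈ phi (cj w Θ) → g ∈ Θ ⊔ cj w Θ) ∧
    (∀ u ∈ fix R x, ∀ v ∈ cj w (fix R x), u * v = v * u) ∧ fix R x ⊓ cj w (fix R x) = ⊥ ∧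
    S ⊓ normalizer (Θ : Set G) = fix R x ⊔ cj w (fix R x) ∧ ∃ a b, Mx (fix R x) a b 2 := by
  have ez : zz a 1 = a := pow_one a
  have hc := comm k hw wn w1 hd
  obtain rfl : Θ = supp R x := by rw [k.eq, ez, k.dq.eq]
  have hW := h.cj (le_normalizer hw)
  have eP : S ⊓ normalizer (supp R x : Set G) = S ⊓ normalizer (R : Set G) :=
    Subgroup.ext fun g => and_congr_right fun hg => h.norm_iff hg
  have e := cj_eq_iff.2 wn
  have l1 : Loc (S ⊓ normalizer (supp R x : Set G)) R x s :=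
    ⟨h.p.to_le inf_le_left, h.r4.mono inf_le_left, le_inf h.le le_norm_supp, h.tri, ⟨h.mem, h.tri.s_supp⟩, eP ▸ h.two⟩
  have l2 : Loc (S ⊓ normalizer (supp R x : Set G)) (cj w R) (w * x * w⁻¹) (w * s * w⁻¹) :=
    ⟨l1.p, l1.r4, e ▸ cj_mono l1.le, h.tri.cj w, (conj_mem_norm wn).2 l1.mem, by simpa only [e] using ix_cj l1.ix w⟩
  have a1 := k.dq.zz_ne
  have cz := (k.xt.comm k.dq (one_mem _)).2
  have xz : x * zz a 1 ≠ zz a 1 * x := fun r => h.tri.four_ne h.four (zmem k.dq) a1.1 (conj_eq_of_comm r).symm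
  rcases up l1 l2 (fun r => w1 ((h.norm_iff hw).2 (cj_eq_iff.1 r.symm))) ⟨_, k.xt.le (zmem k.dq), a1.2.1, cz, xz⟩
    ⟨_, (conj_mem_norm wn).2 (k.xt.le (zmem k.dq)), Rec.conj_sq a1.2.1, cz.conj wn, fun r => xz (comm_of_conj r)⟩
    with ⟨-, -, r⟩ | ⟨-, -, -, r1, r2, r3, r4, ⟨a₀, b₀, r5, -⟩, -⟩ | ⟨r1, r2, -⟩
  · exact absurd (fun u hu => (hW.mem_iff (k.xt.le hu).1).2 (cj_supp w R x ▸ hc u hu)) r
  · rw [← cj_fix] at r2 r3 r4
    refine ⟨fun g hg gn c1 c2 => ?_, r2, r3, r4, a₀, b₀, r5⟩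
    have p0 : phi (supp R x) = ⊥ := eq_bot_iff.2 (phi_le_iff.2 h.four.sq)
    rw [← cj_phi, p0, cj_bot, cmb] at c2
    rw [p0, cmb] at c1
    rw [cj_supp, ← r1]
    refine ⟨(h.mem_iff hg).2 (k.eq ▸ cz_pair (cz g ⟨hg, gn⟩).symm c1), (hW.mem_iff hg).2 ?_⟩
    rw [← cj_supp, k.eq, cj_pair]
    exact cz_pair (cz.conj wn g ⟨hg, gn⟩).symm c2
  · have := h.four.card.symm.trans (r2 ▸ r1.card)
    omega

end GA

open GA BsA YA in
theorem GD.cases {G : Type u} [Group G] [Finite G] {S R : Subgroup G} {x s : G} (h : GD S R x s) :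
    ∃ Θ a b n, DQ Θ a b n ∧ b * b = 1 ∧ supp R x = (closure {zz a n, b} : Subgroup G) ∧
      (XT S Θ a b ∨ ∃ y, YX S Θ a b y ∧ (2 ≤ n ∨ (Nat.card S = 128 ∧ ∃ σ a₀ b₀, Mx (fix R x) a₀ b₀ 2 ∧ Wr S (fix R x) σ))) := by
  obtain ⟨Θ, a, b, n, k, mx⟩ := exists_max h
  refine ⟨Θ, a, b, n, k.dq, k.sq, k.eq, ?_⟩
  by_cases hl : S ≤ normalizer (Θ : Set G)
  · exact .inl (inf_eq_left.2 hl ▸ k.xt)
  have : Fact (Nat.Prime 2) := ⟨Nat.prime_two⟩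
  have key : ∀ t ∈ S, t ∈ normalizer ((S ⊓ normalizer (Θ : Set G) : Subgroup G) : Set G) → t ∉ normalizer (Θ : Set G) →
      ∃ w ∈ zpowers t, w ∈ S ∧ w ∈ normalizer ((S ⊓ normalizer (Θ : Set G) : Subgroup G) : Set G) ∧
        w ∉ normalizer (Θ : Set G) ∧ w * w ∈ normalizer (Θ : Set G) ∧ w * zz a n * w⁻¹ ≠ zz a n := fun t ht tn t1 => by
    obtain ⟨w, m, w1, w2⟩ := exists_pow_not_mem h.p ht t1
    have hw := zpowers_le.2 ht m
    have wn := zpowers_le.2 tn m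
    exact ⟨w, m, hw, wn, w1, w2, move k hw wn w1 h rfl (le_cls k hw wn w1 mx w2)⟩
  obtain ⟨t, ⟨ht, tn⟩, t1⟩ := SetLike.exists_of_lt (lt_inf_normalizer h.p (inf_lt_left.2 hl))
  obtain ⟨w, -, hw, wn, w1, w2, e⟩ := key t ht tn fun r => t1 ⟨ht, r⟩
  have hd := disj k hw wn w1 h.p e
  have t' := k.xt.cj wn
  obtain ⟨u, hu, eu⟩ := k.xt.swap
  have mk := fun k0 hc => yx_mk h.p k.dq (k.xt.le.trans inf_le_left) hw wn w1 w2 k.xt.na ⟨u, hu.1, hu.2, eu⟩ k0 hd hc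
    fun t ht tn c => by_contra fun t1 =>
      let ⟨_, m, _, _, _, _, e⟩ := key t ht tn t1
      e (conj_eq_of_comm (comm_zpowers c.symm m).symm)
  by_cases h2 : 2 ≤ n
  · exact .inr ⟨w, mk (fun g hg gn => k.dq.k0 (k.dq.cj w) h2 h2 h.p h.r4 (k.xt.le.trans inf_le_left)
      (t'.le.trans inf_le_left) (comm k hw wn w1 hd) hd hg (k.xt.na ⟨hg, gn⟩) (t'.na ⟨hg, gn⟩)) (.inl h2), .inl h2⟩
  obtain rfl : n = 1 := by have := k.dq.pos; omega
  obtain ⟨k0, r2, r3, r4, a₀, b₀, r5⟩ := one h k hw wn w1 hd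
  have c : Nat.card (S ⊓ normalizer (Θ : Set G) : Subgroup G) = 64 := by
    rw [r4, GT.PG.card_sup_of_inf_eq_bot (fun u hu => centralizer_le_normalizer _ fun v hv => (r2 u hu v hv).symm) r3,
      card_cj, r5.card]
    rfl
  have X := mk k0 (.inr c)
  obtain ⟨σ, W⟩ := wr (inf_le_left.trans h.le) hw r2 r3 (r4 ▸ ⟨mul_mem hw hw, w2⟩) (r4 ▸ fun g hg =>
    (X.ix g hg).imp (fun r => ⟨hg, r⟩) fun r => ⟨mul_mem hw hg, r⟩)
  exact .inr ⟨w, X, .inr ⟨by rw [ixcard X.ix hw w1, c], σ, a₀, b₀, r5, W⟩⟩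

theorem Ctx.goodD (c : Ctx G) (h : T2 c.S R x s) (h4 : El 4 (supp R x)) :
    ∃ Θ a b n, TD c.S R x s Θ a b n ∧ (XT c.S Θ a b ∨ (2 ≤ n ∧ ∃ y, YX c.S Θ a b y)) := by
  obtain ⟨Θ, a, b, n, h1, h2, h3, k⟩ := (h.gd c.pS c.r4 h4).cases
  refine ⟨Θ, a, b, n, ⟨h, h4, h1, h2, h3⟩, k.imp_right fun ⟨y, X, k⟩ => ⟨k.resolve_right ?_, y, X⟩⟩
  rintro ⟨-, σ, a₀, b₀, m, W⟩
  exact c.not_wr m W

end Cfsg.Agent.GHJ
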